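import Mathlib.Tactic
import Mathlib.RingTheory.Noetherian.Basic
import Mathlib.LinearAlgebra.Pi

/-!
# Alternating Čech complexes tensored with a Koszul complex

For modules `B s` indexed by finite subsets `s` of the cover, a cochain is a family `z s T` indexed in addition by
finite sets `T` of the Koszul sequence `t`; its degree is `#s - 1 - #T`.
-/

set_option autoImplicit false
set_option linter.unusedSectionVars false

universe u

open Finset

namespace Groth.Agent.Lef23.Kosz

variable {S : Type u} [CommRing S] {d : ℕ}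

/-- Modules indexed by the finite intersections of a cover. -/
structure Sys (S : Type u) [CommRing S] (d : ℕ) where
  /-- The modules. -/
  B : Finset (Fin d) → Type u
  [acg : ∀ s, AddCommGroup (B s)]
  [mod : ∀ s, Module S (B s)]
  /-- The restrictions. -/
  res : ∀ {s t : Finset (Fin d)}, s ⊆ t → B s →ₗ[S] B t
  res_res : ∀ {s t w : Finset (Fin d)} (h : s ⊆ t) (h' : t ⊆ w) (x : B s), res h' (res h x) = res (h.trans h') x

attribute [instance] Sys.acg Sys.mod

/-- Cochains. -/
abbrev X (P : Sys S d) : Type u := ∀ s : Finset (Fin d), Finset ℕ → P.B s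

/-- The sign of adjoining `a` to `T`. -/
def sg {α : Type*} [LinearOrder α] (a : α) (T : Finset α) : ℤ := (-1) ^ (T.filter (· < a)).card

theorem sg_sq {α : Type*} [LinearOrder α] (a : α) (T : Finset α) : sg a T * sg a T = 1 := by
  rw [sg, ← mul_pow]; simp

theorem sg_insert {α : Type*} [LinearOrder α] (a b : α) (T : Finset α) (hb : b ∉ T) :
    sg a (insert b T) = (if b < a then -1 else 1) * sg a T := by
  rw [sg, sg, filter_insert]
  split_ifs with h
  · rw [card_insert_of_notMem (fun hh => hb (mem_filter.1 hh).1), pow_succ']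
  · rw [one_mul]

theorem sg_swap {α : Type*} [LinearOrder α] {a b : α} (hne : a ≠ b) {T : Finset α} (ha : a ∉ T) (hb : b ∉ T) :
    sg a (insert b T) * sg b T = - (sg b (insert a T) * sg a T) := by
  rw [sg_insert a b T hb, sg_insert b a T ha]
  rcases lt_or_gt_of_ne hne with h | h
  · rw [if_neg h.asymm, if_pos h]; ring
  · rw [if_pos h, if_neg h.asymm]; ring

theorem sum_sum_antisymm {α : Type*} [DecidableEq α] {M : Type*} [AddCommGroup M] (A : Finset α) (f : α → α → M)
    (h : ∀ a ∈ A, ∀ b ∈ A, a ≠ b → f a b = - f b a) :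
    ∑ a ∈ A, ∑ b ∈ A.erase a, f a b = 0 := by
  rw [Finset.sum_sigma']
  refine Finset.sum_involution (fun p _ => ⟨p.2, p.1⟩) (fun p hp => ?_) (fun p hp _ => ?_) (fun p hp => ?_)
    (fun p _ => rfl)
  · obtain ⟨ha, hb⟩ := mem_sigma.1 hp
    obtain ⟨hne, hb⟩ := mem_erase.1 hb
    rw [h _ ha _ hb hne.symm]
    exact neg_add_cancel _
  · obtain ⟨-, hb⟩ := mem_sigma.1 hp
    exact fun e => (mem_erase.1 hb).1 (congrArg Sigma.fst e)
  · obtain ⟨ha, hb⟩ := mem_sigma.1 hp
    obtain ⟨hne, hb⟩ := mem_erase.1 hb
    exact mem_sigma.2 ⟨hb, mem_erase.2 ⟨hne.symm, ha⟩⟩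

section koszul

variable (t : ℕ → S) (m : ℕ) {N : Type u} [AddCommGroup N] [Module S N]

/-- The Koszul differential. -/
def dK : (Finset ℕ → N) →ₗ[S] (Finset ℕ → N) where
  toFun z T := ∑ k ∈ range m \ T, sg k T • t k • z (insert k T)
  map_add' a b := funext fun T => by
    simp only [Pi.add_apply, smul_add, sum_add_distrib]
  map_smul' c a := funext fun T => by
    simp only [Pi.smul_apply, RingHom.id_apply, smul_sum]
    exact sum_congr rfl fun k _ => by rw [smul_comm c (sg k T), smul_comm c (t k)]

theorem dK_apply (z : Finset ℕ → N) (T : Finset ℕ) :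
    dK t m z T = ∑ k ∈ range m \ T, sg k T • t k • z (insert k T) := rfl

theorem dK_dK (z : Finset ℕ → N) : dK t m (dK t m z) = 0 := funext fun T => by
  simp only [dK_apply, Pi.zero_apply, smul_sum]
  have e : ∀ k ∈ range m \ T, range m \ insert k T = (range m \ T).erase k := fun k _ => sdiff_insert _ _ _
  rw [sum_congr rfl fun k hk => by rw [e k hk]]
  refine sum_sum_antisymm _ (fun k l => sg k T • t k • sg l (insert k T) • t l • z (insert l (insert k T)))
    fun a ha b hb hne => ?_
  rw [smul_comm (t a), smul_smul (sg a T), smul_comm (t b), smul_smul (sg b T), smul_smul (t a), smul_smul (t b),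
    mul_comm (t b) (t a), Finset.insert_comm a b, ← neg_smul]
  congr 1
  rw [mul_comm (sg a T), mul_comm (sg b T)]
  exact sg_swap hne.symm (mem_sdiff.1 hb).2 (mem_sdiff.1 ha).2

/-- The homotopy for the `k`-th member of the sequence. -/
def hK (k : ℕ) : (Finset ℕ → N) →ₗ[S] (Finset ℕ → N) where
  toFun y T := if k ∈ T then sg k (T.erase k) • y (T.erase k) else 0
  map_add' a b := funext fun T => by simp only [Pi.add_apply]; split_ifs <;> simp
  map_smul' c a := funext fun T => by
    simp only [Pi.smul_apply, RingHom.id_apply]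
    split_ifs
    · exact smul_comm _ _ _
    · rw [smul_zero]

theorem hK_apply (k : ℕ) (y : Finset ℕ → N) (T : Finset ℕ) :
    hK (S := S) k y T = if k ∈ T then sg k (T.erase k) • y (T.erase k) else 0 := rfl

theorem dK_hK {k : ℕ} (hk : k < m) (y : Finset ℕ → N) :
    dK t m (hK (S := S) k y) + hK (S := S) k (dK t m y) = t k • y := funext fun T => by
  simp only [Pi.add_apply, Pi.smul_apply, dK_apply, hK_apply]
  by_cases hT : k ∈ T
  · rw [if_pos hT]
    have e : range m \ T.erase k = insert k (range m \ T) := by
      ext l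
      simp only [mem_sdiff, mem_range, mem_erase, mem_insert]
      by_cases hl : l = k
      · subst hl; simp [hk, hT]
      · simp [hl]
    rw [e, sum_insert (fun h => (mem_sdiff.1 h).2 hT), smul_add, insert_erase hT, smul_smul, sg_sq, one_smul,
      smul_sum, ← add_left_comm, ← sum_add_distrib, add_eq_left]
    refine sum_eq_zero fun l hl => ?_
    have hlT := (mem_sdiff.1 hl).2
    have hlk : l ≠ k := fun h => hlT (h ▸ hT)
    rw [if_pos (mem_insert_of_mem hT), erase_insert_of_ne hlk, smul_comm (t l), smul_smul, smul_smul,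
      ← add_smul]
    refine smul_eq_zero_of_left ?_ _
    have := sg_swap hlk (T := T.erase k) (fun h => hlT (mem_of_mem_erase h)) (notMem_erase k T)
    rw [insert_erase hT] at this
    linear_combination (sg k (insert l (T.erase k)) * sg k (T.erase k)) * this
      - sg l T * sg k (insert l (T.erase k)) * sg_sq k (T.erase k)
      - sg k (T.erase k) * sg l (T.erase k) * sg_sq k (insert l (T.erase k))
  · rw [if_neg hT, add_zero, sum_eq_single k]
    · rw [if_pos (mem_insert_self _ _), erase_insert hT, smul_comm (t k), smul_smul, sg_sq, one_smul]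
    · intro l hl hlk
      rw [if_neg (fun h => (mem_insert.1 h).elim (fun e => hlk e.symm) hT), smul_zero, smul_zero]
    · exact fun h => absurd (mem_sdiff.2 ⟨mem_range.2 hk, hT⟩) h

end koszul

variable (P : Sys S d)

/-- The Čech differential. -/
def dC : X P →ₗ[S] X P where
  toFun z s T := ∑ j ∈ s, sg j (s.erase j) • P.res (erase_subset j s) (z (s.erase j) T)
  map_add' a b := funext fun s => funext fun T => by
    simp only [Pi.add_apply, map_add, smul_add, sum_add_distrib]
  map_smul' c a := funext fun s => funext fun T => by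
    simp only [Pi.smul_apply, RingHom.id_apply, map_smul, smul_sum]
    exact sum_congr rfl fun j _ => smul_comm _ _ _

theorem dC_apply (z : X P) (s : Finset (Fin d)) (T : Finset ℕ) :
    dC P z s T = ∑ j ∈ s, sg j (s.erase j) • P.res (erase_subset j s) (z (s.erase j) T) := rfl

theorem res_erase (z : ∀ s, P.B s) {s a b : Finset (Fin d)} (e : a = b) (ha : a ⊆ s) (hb : b ⊆ s) :
    P.res ha (z a) = P.res hb (z b) := by subst e; rfl

theorem dC_dC (z : X P) : dC P (dC P z) = 0 := funext fun s => funext fun T => by
  simp only [dC_apply, Pi.zero_apply, map_sum, map_zsmul, smul_sum, P.res_res, smul_smul]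
  refine sum_sum_antisymm _ (fun j i => (sg j (s.erase j) * sg i ((s.erase j).erase i)) •
    P.res ((erase_subset i (s.erase j)).trans (erase_subset j s)) (z ((s.erase j).erase i) T))
    fun a ha b hb hne => ?_
  rw [res_erase P (fun w => z w T) (erase_right_comm (s := s) (a := a) (b := b))
    ((erase_subset b (s.erase a)).trans (erase_subset a s)) ((erase_subset a (s.erase b)).trans (erase_subset b s)),
    ← neg_smul]
  congr 1
  have := sg_swap hne (T := (s.erase a).erase b) (fun h => notMem_erase a s (mem_of_mem_erase h)) (notMem_erase b _)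
  rw [insert_erase (mem_erase.2 ⟨hne.symm, hb⟩), erase_right_comm, insert_erase (mem_erase.2 ⟨hne, ha⟩)] at this
  rw [erase_right_comm (a := a) (b := b)]
  exact this

variable (t : ℕ → S) (m : ℕ)

/-- The Koszul part of the differential, with its sign. -/
def dK' : X P →ₗ[S] X P where
  toFun z s := ((-1 : ℤ) ^ s.card) • dK t m (z s)
  map_add' a b := funext fun s => by simp only [Pi.add_apply, map_add, smul_add]
  map_smul' c a := funext fun s => by simp only [Pi.smul_apply, RingHom.id_apply, map_smul]; exact smul_comm _ _ _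

theorem dK'_apply (z : X P) (s : Finset (Fin d)) : dK' P t m z s = ((-1 : ℤ) ^ s.card) • dK t m (z s) := rfl

/-- The total differential. -/
def D : X P →ₗ[S] X P := dC P + dK' P t m

theorem D_apply (z : X P) (s : Finset (Fin d)) (T : Finset ℕ) :
    D P t m z s T = dC P z s T + ((-1 : ℤ) ^ s.card) • dK t m (z s) T := rfl

theorem dC_dK' (z : X P) : dC P (dK' P t m z) + dK' P t m (dC P z) = 0 := funext fun s => funext fun T => by
  simp only [Pi.add_apply, Pi.zero_apply, dC_apply, dK'_apply, Pi.smul_apply, dK_apply, map_zsmul, map_sum,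
    map_smul, smul_sum]
  rw [sum_comm, ← sum_add_distrib]
  refine sum_eq_zero fun k _ => ?_
  rw [← sum_add_distrib]
  refine sum_eq_zero fun j hj => ?_
  rw [smul_comm (t k), smul_smul, smul_smul, smul_smul, smul_smul, ← add_smul]
  refine smul_eq_zero_of_left ?_ _
  rw [show s.card = (s.erase j).card + 1 from (card_erase_add_one hj).symm, pow_succ]
  ring

theorem D_D (z : X P) : D P t m (D P t m z) = 0 := by
  have hK : dK' P t m (dK' P t m z) = 0 := funext fun s => by
    rw [dK'_apply, dK'_apply, map_zsmul, dK_dK, smul_zero, smul_zero]; rfl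
  have h := dC_dK' P t m z
  simp only [D, LinearMap.add_apply, map_add, hK, add_zero, dC_dC, zero_add]
  rw [add_comm] at h
  exact h

end Groth.Agent.Lef23.Kosz
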