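import Groth.Agent.Lef23.Kosz.Main
import Mathlib.RingTheory.Flat.Localization
import Mathlib.RingTheory.Flat.EquationalCriterion
import Mathlib.Algebra.Module.FinitePresentation

/-!
# Comparisons with free systems from locally projective levels
-/

set_option autoImplicit false
set_option linter.unusedSectionVars false

universe u

open Finset

namespace Groth.Agent.Lef23.Kosz

variable {S : Type u} [CommRing S]

/-- A surjection from a free module onto a module projective after inverting an element splits up to a power of it. -/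
theorem exists_split [IsNoetherianRing S] {M : Type u} [AddCommGroup M] [Module S M] [Module.Finite S M] (c : S)
    [Module.Flat S (LocalizedModule (Submonoid.powers c) M)] :
    ∃ (N k : ℕ) (π : (Fin k → S) →ₗ[S] M) (a : M →ₗ[S] (Fin k → S)), ∀ y, π (a y) = c ^ N • y := by
  let T := Submonoid.powers c
  let E := LocalizedModule T M
  obtain ⟨k, π, hπ⟩ := Module.Finite.exists_fin' S M
  haveI : Module.FinitePresentation S M := Module.finitePresentation_of_finite S M
  haveI : Module.Finite (Localization T) E :=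
    Module.Finite.of_surjective ((IsLocalizedModule.mapExtendScalars T (LocalizedModule.mkLinearMap T (Fin k → S))
      (LocalizedModule.mkLinearMap T M) (Localization T)) π) (IsLocalizedModule.map_surjective T _ _ π hπ)
  haveI : IsNoetherianRing (Localization T) := IsLocalization.isNoetherianRing T _ inferInstance
  haveI : Module.Flat (Localization T) E :=
    (Module.flat_iff_of_isLocalization (Localization T) T E).mpr inferInstance
  haveI : Module.FinitePresentation (Localization T) E := Module.finitePresentation_of_finite _ _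
  haveI : Module.Projective (Localization T) E := Module.Flat.projective_of_finitePresentation
  let πE := IsLocalizedModule.mapExtendScalars T (LocalizedModule.mkLinearMap T (Fin k → S))
    (LocalizedModule.mkLinearMap T M) (Localization T) π
  obtain ⟨σ, hσ⟩ := Module.projective_lifting_property πE LinearMap.id
    (IsLocalizedModule.map_surjective T _ _ π hπ)
  obtain ⟨a, ⟨_, e, rfl⟩, ha⟩ := Module.FinitePresentation.exists_lift_of_isLocalizedModule T
    (LocalizedModule.mkLinearMap T (Fin k → S)) ((σ.restrictScalars S).comp (LocalizedModule.mkLinearMap T M))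
  have key : ∀ y, LocalizedModule.mkLinearMap T M (π (a y)) = LocalizedModule.mkLinearMap T M (c ^ e • y) := fun y => by
    have h1 := LinearMap.congr_fun ha y
    simp only [LinearMap.comp_apply, LinearMap.smul_apply, LinearMap.restrictScalars_apply] at h1
    have h2 : πE (LocalizedModule.mkLinearMap T (Fin k → S) (a y)) = LocalizedModule.mkLinearMap T M (π (a y)) :=
      IsLocalizedModule.map_apply T _ _ π (a y)
    rw [← h2, h1]
    rw [Submonoid.smul_def]
    refine (LinearMap.map_smul_of_tower πE (c ^ e) _).trans ?_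
    rw [map_smul]
    exact congrArg (c ^ e • ·) (LinearMap.congr_fun hσ _)
  obtain ⟨s, hs⟩ := Module.Finite.fg_top (R := S) (M := M)
  classical
  choose l hl using fun y : s => (IsLocalizedModule.eq_zero_iff T (LocalizedModule.mkLinearMap T M)).1
    (show LocalizedModule.mkLinearMap T M (π (a y) - c ^ e • (y : M)) = 0 by rw [map_sub, key, sub_self])
  choose p hp using fun y : s => (l y).2
  refine ⟨univ.sup p + e, k, π, c ^ univ.sup p • a, fun y => ?_⟩
  have hle : (⊤ : Submodule S M) ≤ LinearMap.ker (c ^ univ.sup p • (π ∘ₗ a - c ^ e • LinearMap.id)) := by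
    rw [← hs, Submodule.span_le]
    intro y hy
    simp only [SetLike.mem_coe, LinearMap.mem_ker, LinearMap.smul_apply, LinearMap.sub_apply, LinearMap.comp_apply,
      LinearMap.id_apply]
    have h3 := hl ⟨y, hy⟩
    rw [Submonoid.smul_def, show ((l ⟨y, hy⟩ : T) : S) = c ^ p ⟨y, hy⟩ from (hp ⟨y, hy⟩).symm] at h3
    rw [← Nat.sub_add_cancel (le_sup (f := p) (mem_univ (⟨y, hy⟩ : s))), pow_add, mul_smul, h3, smul_zero]
  have h4 := LinearMap.mem_ker.1 (hle (Submodule.mem_top (x := y)))
  simp only [LinearMap.smul_apply, LinearMap.sub_apply, LinearMap.comp_apply, LinearMap.id_apply, smul_sub,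
    sub_eq_zero] at h4
  rw [LinearMap.smul_apply, map_smul, h4, pow_add, mul_smul]

variable {d : ℕ} (x : Fin d → S)

theorem ker_mapB_mkQ {F : Type u} [AddCommGroup F] [Module S F] (I : Ideal S) (s : Finset (Fin d))
    (y : (locSys x F).B s) :
    mapB x (Submodule.mkQ (I • ⊤ : Submodule S F)) s y = 0 ↔ y ∈ (I • ⊤ : Submodule S ((locSys x F).B s)) := by
  constructor
  · intro h
    obtain ⟨e, m, hm⟩ := exists_num x F y
    obtain ⟨l, hl⟩ := exists_pow_zero x _ (s := s) (m := Submodule.mkQ (I • ⊤ : Submodule S F) m) (by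
      rw [← mapB_mk, ← hm, map_smul, h, smul_zero])
    rw [← map_smul, Submodule.mkQ_apply, Submodule.Quotient.mk_eq_zero] at hl
    have h1 := map_mem_smul I (mkB x F s) hl
    rw [map_smul, ← hm, smul_smul, ← pow_add] at h1
    have hb := bijective_smul x F (s := s) (a := cx x s ^ (l + e)) ⟨l + e, dvd_rfl⟩
    let E : (locSys x F).B s ≃ₗ[S] (locSys x F).B s :=
      LinearEquiv.ofBijective ((cx x s ^ (l + e)) • LinearMap.id) hb
    have h2 := map_mem_smul I E.symm.toLinearMap h1
    rwa [show cx x s ^ (l + e) • y = E y from rfl, LinearEquiv.coe_coe, E.symm_apply_apply] at h2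
  · intro h
    refine Submodule.smul_induction_on h (fun a ha w _ => ?_) fun a b ha hb => by rw [map_add, ha, hb, add_zero]
    obtain ⟨e, m, hm⟩ := exists_num x F w
    refine (bijective_smul x _ (s := s) (a := cx x s ^ e) ⟨e, dvd_rfl⟩).1 ?_
    show cx x s ^ e • mapB x (Submodule.mkQ (I • ⊤)) s (a • w) = cx x s ^ e • (0 : (locSys x _).B s)
    rw [smul_zero, ← map_smul, smul_comm, hm, ← map_smul, mapB_mk, Submodule.mkQ_apply,
      (Submodule.Quotient.mk_eq_zero _).2 (Submodule.smul_mem_smul ha Submodule.mem_top), map_zero]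

theorem surjective_mapB {F F' : Type u} [AddCommGroup F] [Module S F] [AddCommGroup F'] [Module S F'] {φ : F →ₗ[S] F'}
    (hφ : Function.Surjective φ) (s : Finset (Fin d)) : Function.Surjective (mapB x φ s) :=
  IsLocalizedModule.map_surjective _ _ _ _ hφ

theorem mapB_comp {F F' F'' : Type u} [AddCommGroup F] [Module S F] [AddCommGroup F'] [Module S F'] [AddCommGroup F'']
    [Module S F''] (φ : F →ₗ[S] F') (φ' : F' →ₗ[S] F'') (s : Finset (Fin d)) (y : (locSys x F).B s) :
    mapB x φ' s (mapB x φ s y) = mapB x (φ' ∘ₗ φ) s y :=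
  LinearMap.congr_fun (f := mapB x φ' s ∘ₗ mapB x φ s) (g := mapB x (φ' ∘ₗ φ) s)
    (IsLocalizedModule.ext (Submonoid.powers (cx x s)) (mkB x F s) (isUnit_powers x F'' subset_rfl)
      (LinearMap.ext fun m => by
        show mapB x φ' s (mapB x φ s (mkB x F s m)) = mapB x (φ' ∘ₗ φ) s (mkB x F s m)
        rw [mapB_mk, mapB_mk, mapB_mk]
        rfl)) y

variable (P : Sys S d) (J : Ideal S) (n : ℕ)

/-- A comparison from a level of a system which is locally projective near `x j`. -/
theorem exists_cmp {M : Type u} [AddCommGroup M] [Module S M] (G : Submodule S M)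
    (hgen : ∀ (i : Fin d) (y : M), ∃ e : ℕ, x i ^ e • y ∈ G)
    (θ : ∀ s, P.B s →ₗ[S] (locSys x M).B s) (hθ : ∀ s, s.Nonempty → Function.Surjective (θ s))
    (hker : ∀ s, s.Nonempty → LinearMap.ker (θ s) = J ^ n • ⊤)
    (hnat : ∀ {s s' : Finset (Fin d)}, s.Nonempty → ∀ (h : s ⊆ s') (y : P.B s),
      (locSys x M).res h (θ s y) = θ s' (P.res h y))
    (j : Fin d) {N k : ℕ} (π : (Fin k → S) →ₗ[S] G) (a : G →ₗ[S] (Fin k → S) ⧸ (J ^ n • ⊤ : Submodule S (Fin k → S)))
    (hπa : ∀ g v, a g = Submodule.Quotient.mk v → π v = x j ^ N • g) :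
    ∃ (N k : ℕ) (α : Mor J n P (locSys x (Fin k → S))) (β : Mor J n (locSys x (Fin k → S)) P),
    IsNat α ∧ IsNat β ∧ ∀ s : Finset (Fin d), s.Nonempty → ∀ (y : P.B s) (v : (locSys x (Fin k → S)).B s),
      α s y = Submodule.Quotient.mk v → β s v = x j ^ N • Submodule.Quotient.mk y := by
  classical
  let F := Fin k → S
  let q : F →ₗ[S] F ⧸ (J ^ n • ⊤ : Submodule S F) := Submodule.mkQ _
  let ι : G →ₗ[S] M := G.subtype
  have hιb : ∀ s : Finset (Fin d), s.Nonempty → Function.Bijective (mapB x ι s) := fun s hs => by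
    refine ⟨IsLocalizedModule.map_injective _ _ _ _ G.injective_subtype, fun y => ?_⟩
    obtain ⟨i, hi⟩ := hs
    obtain ⟨e, m, hm⟩ := exists_num x M y
    obtain ⟨e', he'⟩ := hgen i m
    obtain ⟨w, hw⟩ := (bijective_smul x G (s := s) (a := x i ^ e' * cx x s ^ e)
      ⟨e' + e, by rw [pow_add]; exact mul_dvd_mul (pow_dvd_pow_of_dvd (dvd_prod_of_mem x hi) e') dvd_rfl⟩).2
      (mkB x G s ⟨_, he'⟩)
    refine ⟨w, (bijective_smul x M (s := s) (a := x i ^ e' * cx x s ^ e)
      ⟨e' + e, by rw [pow_add]; exact mul_dvd_mul (pow_dvd_pow_of_dvd (dvd_prod_of_mem x hi) e') dvd_rfl⟩).1 ?_⟩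
    show (x i ^ e' * cx x s ^ e) • mapB x ι s w = (x i ^ e' * cx x s ^ e) • y
    rw [← map_smul, show (x i ^ e' * cx x s ^ e) • w = mkB x G s ⟨_, he'⟩ from hw, mapB_mk, mul_smul, hm, ← map_smul]
    rfl
  have hqb : ∀ s, Function.Surjective (mapB x q s) := surjective_mapB x (Submodule.mkQ_surjective _)
  -- the pieces
  let qe : ∀ s, ((locSys x F).B s ⧸ (J ^ n • ⊤ : Submodule S ((locSys x F).B s))) ≃ₗ[S]
      (locSys x (F ⧸ (J ^ n • ⊤ : Submodule S F))).B s := fun s =>
    (Submodule.quotEquivOfEq _ (LinearMap.ker (mapB x q s))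
      (Submodule.ext fun y => (ker_mapB_mkQ x (J ^ n) s y).symm)).trans
      (LinearMap.quotKerEquivOfSurjective _ (hqb s))
  have hqe : ∀ s v, qe s (Submodule.Quotient.mk v) = mapB x q s v := fun s v => rfl
  let α : Mor J n P (locSys x F) := fun s => if hs : s.Nonempty then
    (qe s).symm.toLinearMap ∘ₗ mapB x a s ∘ₗ (LinearEquiv.ofBijective (mapB x ι s) (hιb s hs)).symm.toLinearMap ∘ₗ θ s
    else 0
  let θe : ∀ s (hs : s.Nonempty), (P.B s ⧸ (J ^ n • ⊤ : Submodule S (P.B s))) ≃ₗ[S] (locSys x M).B s := fun s hs =>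
    (Submodule.quotEquivOfEq _ (LinearMap.ker (θ s)) (hker s hs).symm).trans
      (LinearMap.quotKerEquivOfSurjective _ (hθ s hs))
  have hθe : ∀ s hs y, θe s hs (Submodule.Quotient.mk y) = θ s y := fun s hs y => rfl
  let β : Mor J n (locSys x F) P := fun s => if hs : s.Nonempty then
    (θe s hs).symm.toLinearMap ∘ₗ mapB x ι s ∘ₗ mapB x π s else 0
  have hα : ∀ s (hs : s.Nonempty) (y : P.B s) (v : (locSys x F).B s), α s y = Submodule.Quotient.mk v ↔
      ∃ g, mapB x ι s g = θ s y ∧ mapB x a s g = mapB x q s v := fun s hs y v => by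
    simp only [α, dif_pos hs, LinearMap.comp_apply, LinearEquiv.coe_coe]
    rw [LinearEquiv.symm_apply_eq, hqe]
    refine ⟨fun h => ⟨_, (LinearEquiv.ofBijective (mapB x ι s) (hιb s hs)).apply_symm_apply _, h⟩, fun ⟨g, hg, h⟩ => ?_⟩
    rw [← hg]
    exact (congrArg (mapB x a s) ((LinearEquiv.ofBijective (mapB x ι s) (hιb s hs)).symm_apply_apply g)).trans h
  have hβ : ∀ s (hs : s.Nonempty) v w, β s v = Submodule.Quotient.mk w ↔ θ s w = mapB x ι s (mapB x π s v) :=
    fun s hs v w => by
      simp only [β, dif_pos hs, LinearMap.comp_apply, LinearEquiv.coe_coe]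
      rw [LinearEquiv.symm_apply_eq, hθe s hs, eq_comm]
  refine ⟨N, k, α, β, ?_, ?_, fun s hs y v hv => ?_⟩
  · intro s s' hs h y v hv
    obtain ⟨g, hg, hga⟩ := (hα s hs y v).1 hv
    refine (hα s' (hs.mono h) _ _).2 ⟨(locSys x G).res h g, ?_, ?_⟩
    · rw [← res_mapB, hg, hnat hs]
    · rw [← res_mapB, hga, res_mapB]
  · intro s s' hs h v w hw
    refine (hβ s' (hs.mono h) _ _).2 ?_
    rw [← hnat hs, (hβ s hs v w).1 hw, res_mapB, res_mapB]
  · obtain ⟨g, hg, hga⟩ := (hα s hs y v).1 hv
    rw [← Submodule.Quotient.mk_smul]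
    refine (hβ s hs _ _).2 ?_
    rw [map_smul, ← hg, ← map_smul]
    refine congrArg _ ?_
    obtain ⟨e, m, hm⟩ := exists_num x G g
    obtain ⟨e', v', hv'⟩ := exists_num x F v
    have h5 : mkB x _ s (cx x s ^ e' • a m) = mkB x _ s (cx x s ^ e • q v') := by
      rw [map_smul, map_smul, ← mapB_mk, ← mapB_mk, ← hm, ← hv', map_smul, map_smul, hga, smul_smul, smul_smul,
        mul_comm]
    obtain ⟨l, hl⟩ := exists_pow_zero x _ (s := s) (m := cx x s ^ e' • a m - cx x s ^ e • q v') (by
      rw [map_sub, h5, sub_self])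
    rw [smul_sub, sub_eq_zero, ← map_smul, ← map_smul, ← map_smul, ← map_smul] at hl
    have h6 := hπa _ _ hl
    refine (bijective_smul x G (s := s) (a := cx x s ^ (l + e + e')) ⟨_, dvd_rfl⟩).1 ?_
    show cx x s ^ (l + e + e') • (x j ^ N • g) = cx x s ^ (l + e + e') • mapB x π s v
    have h7 := congrArg (mkB x G s) h6
    simp only [map_smul] at h7
    rw [← mapB_mk, ← hv', ← hm, map_smul] at h7
    simp only [smul_smul] at h7 ⊢
    convert h7.symm using 1 <;> (congr 1; ring)

end Groth.Agent.Lef23.Kosz
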