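import Groth.Agent.Lef23.Kosz.Quot
import Groth.Agent.Lef23.PurePair
import Groth.Agent.CAlgH3.QuotientLocal
import Groth.Prelude.Def_EGA4b
import Groth.Prelude.Def_SGA2
import Groth.Prelude.Def_CInt

/-!
# Purity in codimension at least three for complete intersections in low codimension
-/

set_option autoImplicit false
set_option linter.style.haveILetI false
set_option backward.isDefEq.respectTransparency.types false
set_option backward.isDefEq.respectTransparency false
universe u

open CategoryTheory CategoryTheory.Limits AlgebraicGeometry IsLocalRing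
open Groth.Agent.FEtFF

namespace Groth.Agent.Lef23.Kosz

/-- Primes of an equidimensional quotient of a regular local ring. -/
theorem height_add_le_height_comap {R : Type u} [CommRing R] [IsRegularLocalRing R] (I : Ideal R)
    (heq : EGA4.IsEquidim (R ⧸ I)) (c : ℕ) (hc : ringKrullDim R = ringKrullDim (R ⧸ I) + (c : WithBot ℕ∞))
    (Q : Ideal (R ⧸ I)) [Q.IsPrime] : Q.height + (c : ℕ∞) ≤ (Q.comap (Ideal.Quotient.mk I)).height := by
  haveI := CAlgH3.isCohenMacaulayLocalRing_of_regular (R := R)
  let π := Ideal.Quotient.mk I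
  have hbase : ∀ P : PrimeSpectrum (R ⧸ I), (c : ℕ∞) ≤ (P.asIdeal.comap π).height := fun P => by
    obtain ⟨p0, hp0, hle⟩ := Ideal.exists_minimalPrimes_le (I := (⊥ : Ideal (R ⧸ I))) (J := P.asIdeal) bot_le
    haveI := Ideal.minimalPrimes_isPrime hp0
    refine le_trans ?_ (Ideal.height_mono (Ideal.comap_mono hle))
    have h := CAlgH3.height_add_ringKrullDim_quotient (p0.comap π)
    have hk : RingHom.ker ((Ideal.Quotient.mk p0).comp π) = p0.comap π := by
      rw [← RingHom.comap_ker, Ideal.mk_ker]
    rw [ringKrullDim_eq_of_ringEquiv ((Ideal.quotEquivOfEq hk.symm).trans (RingHom.quotientKerEquivOfSurjective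
      (f := (Ideal.Quotient.mk p0).comp π) (Ideal.Quotient.mk_surjective.comp Ideal.Quotient.mk_surjective))),
      heq p0 hp0, hc, add_comm] at h
    haveI : Nontrivial (R ⧸ I) := (Ideal.Quotient.mk p0).domain_nontrivial
    haveI : IsLocalRing (R ⧸ I) := .of_surjective' π Ideal.Quotient.mk_surjective
    obtain ⟨n, hn⟩ : ∃ n : ℕ, ringKrullDim (R ⧸ I) = (n : WithBot ℕ∞) := by
      obtain ⟨n, hn⟩ := ENat.ne_top_iff_exists.1 (Ideal.height_ne_top (maximalIdeal.isMaximal (R ⧸ I)).ne_top)
      exact ⟨n, by rw [← IsLocalRing.maximalIdeal_height_eq_ringKrullDim, ← hn]; rfl⟩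
    rw [hn] at h
    have h' : (n : ℕ∞) + (p0.comap π).height = (n : ℕ∞) + (c : ℕ∞) := by
      have : (((n : ℕ∞) + (p0.comap π).height : ℕ∞) : WithBot ℕ∞) = (((n : ℕ∞) + (c : ℕ∞) : ℕ∞) : WithBot ℕ∞) := by
        rw [WithBot.coe_add, WithBot.coe_add]; exact h
      exact_mod_cast this
    exact (WithTop.add_left_cancel (ENat.coe_ne_top n) h').ge
  have hseq : ∀ l : LTSeries (PrimeSpectrum (R ⧸ I)), ∀ i : Fin (l.length + 1),
      ((i : ℕ) : ℕ∞) + c ≤ ((l i).asIdeal.comap π).height := fun l i => by
    induction i using Fin.induction with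
    | zero => simpa using hbase (l 0)
    | succ i ih =>
      have hlt : (l i.castSucc).asIdeal.comap π < (l i.succ).asIdeal.comap π :=
        lt_of_le_of_ne (Ideal.comap_mono (le_of_lt (l.step i))) fun h => (l.step i).ne
          (PrimeSpectrum.ext (Ideal.comap_injective_of_surjective π Ideal.Quotient.mk_surjective h))
      calc ((i.succ : ℕ) : ℕ∞) + c = ((i.castSucc : ℕ) : ℕ∞) + c + 1 := by
            rw [Fin.val_succ, Fin.coe_castSucc, Nat.cast_succ, add_right_comm]
        _ ≤ ((l i.castSucc).asIdeal.comap π).height + 1 := add_le_add ih le_rfl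
        _ ≤ _ := Ideal.height_add_one_le_of_lt_of_isPrime hlt
  have hQ : Q.height ≠ ⊤ := Ideal.height_ne_top ‹Q.IsPrime›.ne_top
  obtain ⟨n, hn⟩ := ENat.ne_top_iff_exists.1 hQ
  have hQ' : Q.height = Order.height (⟨Q, ‹_›⟩ : PrimeSpectrum (R ⧸ I)) :=
    PrimeSpectrum.height_eq_orderHeight ⟨Q, ‹_›⟩
  obtain ⟨l, hl, hlen⟩ := Order.exists_series_of_le_height (⟨Q, ‹_›⟩ : PrimeSpectrum (R ⧸ I)) (n := n)
    (by rw [← hQ']; exact hn.le)
  have h := hseq l (Fin.last l.length)
  rw [Fin.val_last, show l (Fin.last l.length) = (⟨Q, ‹_›⟩ : PrimeSpectrum (R ⧸ I)) from hl, hlen] at h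
  rw [← hn]
  exact h

/-- Purity in codimension at least three. -/
theorem isEquivalence_completion_localization (R : Type u) [CommRing R] [IsRegularLocalRing R] (s : Finset R)
    (heq : EGA4.IsEquidim (R ⧸ Ideal.span (↑s : Set R))) (c : ℕ)
    (hc : ringKrullDim R = ringKrullDim (R ⧸ Ideal.span (↑s : Set R)) + (c : WithBot ℕ∞))
    (hci : ∀ (Q : Ideal (R ⧸ Ideal.span (↑s : Set R))) [Q.IsPrime], Q.height + (c : ℕ∞) ≤ ((2 + s.card : ℕ) : ℕ∞) →
      CInt.IsRegularIdeal ((Ideal.span (↑s : Set R)).map
        (algebraMap R (Localization.AtPrime (Q.comap (Ideal.Quotient.mk (Ideal.span (↑s : Set R))))))))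
    (Q : Ideal (R ⧸ Ideal.span (↑s : Set R))) [Q.IsPrime] (hQ : (3 : ℕ∞) ≤ Q.height) :
    SGA2.IsPurePair (Spec (CommRingCat.of (AdicCompletion (maximalIdeal (Localization.AtPrime Q)) (Localization.AtPrime Q))))
      (FEt.puncturedSpec (AdicCompletion (maximalIdeal (Localization.AtPrime Q)) (Localization.AtPrime Q))) := by
  classical
  refine Lef23.isPurePair_punctured _ ?_
  let I := Ideal.span (↑s : Set R)
  let P := Q.comap (Ideal.Quotient.mk I)
  let RP := Localization.AtPrime P
  let AQ := Localization.AtPrime Q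
  haveI : IsRegularLocalRing RP := CAlgH3.isRegularLocalRing_localization P
  obtain ⟨e0, -⟩ := CAlgH3.exists_quotientLocalEquiv I Q
  let π₀ : RP →+* AQ := e0.toRingHom.comp (Ideal.Quotient.mk _)
  have hπ₀ : Function.Surjective π₀ := e0.surjective.comp Ideal.Quotient.mk_surjective
  have hker₀ : RingHom.ker π₀ = I.map (algebraMap R RP) := by
    rw [RingHom.ker_comp_of_injective _ (by exact e0.injective), Ideal.mk_ker]
  let T := AdicCompletion (maximalIdeal RP) RP
  let C := AdicCompletion (maximalIdeal AQ) AQ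
  haveI : IsRegularLocalRing T := (Groth.Agent.S0548.result RP).1 inferInstance
  haveI : IsNoetherianRing C := Matlis6.isNoetherianRing_adicCompletion _
  obtain ⟨e, -⟩ := CommAlg6.completion_quotient_algEquiv π₀ hπ₀
  let π : T →+* C := e.toRingHom.comp (Ideal.Quotient.mk _)
  have hπ : Function.Surjective π := e.surjective.comp Ideal.Quotient.mk_surjective
  have hker : RingHom.ker π = (I.map (algebraMap R RP)).map (algebraMap RP T) := by
    rw [RingHom.ker_comp_of_injective _ (by exact e.injective), Ideal.mk_ker, hker₀]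
  have hdimP : ((maximalIdeal RP).spanFinrank : ℕ∞) = P.height := by
    have h := IsLocalization.AtPrime.ringKrullDim_eq_height P RP
    rw [← IsRegularLocalRing.spanFinrank_maximalIdeal (R := RP)] at h
    exact_mod_cast h
  by_cases hsd : s.card + 3 ≤ (maximalIdeal RP).spanFinrank
  · refine isEquivalence_quotient π hπ ((s.image (algebraMap R RP)).image (algebraMap RP T)) ?_ ?_
    · rw [hker, Finset.coe_image, Finset.coe_image, ← Ideal.map_span, ← Ideal.map_span]
    · rw [← spanFinrank_completion RP]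
      exact le_trans (Nat.add_le_add_right (Finset.card_image_le.trans Finset.card_image_le) 3) hsd
  · have hle : Q.height + (c : ℕ∞) ≤ ((2 + s.card : ℕ) : ℕ∞) :=
      (height_add_le_height_comap I heq c hc Q).trans (by
        show P.height ≤ _
        rw [← hdimP]
        exact Nat.cast_le.2 (by omega))
    obtain ⟨rs, hrs, hspan⟩ := hci Q hle
    have hdimA : (3 : WithBot ℕ∞) ≤ ringKrullDim (RP ⧸ Ideal.ofList rs) := by
      rw [hspan, ringKrullDim_eq_of_ringEquiv e0, IsLocalization.AtPrime.ringKrullDim_eq_height Q AQ]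
      exact WithBot.coe_le_coe.2 hQ
    have hlen := length_add_three_le rs hrs hdimA
    refine isEquivalence_quotient π hπ (rs.toFinset.image (algebraMap RP T)) ?_ ?_
    · rw [hker, ← hspan, Finset.coe_image, ← Ideal.map_span, List.coe_toFinset]
    · rw [← spanFinrank_completion RP]
      exact le_trans (Nat.add_le_add_right (Finset.card_image_le.trans (List.toFinset_card_le _)) 3) hlen

end Groth.Agent.Lef23.Kosz
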