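import Groth.Agent.Lef23.Kosz.Fin

/-!
# Comparing Čech–Koszul complexes by maps defined modulo a power of an ideal
-/

set_option autoImplicit false
set_option linter.unusedSectionVars false

universe u

open Finset

namespace Groth.Agent.Lef23.Kosz

variable {S : Type u} [CommRing S] {d : ℕ} (J : Ideal S) (n : ℕ)

/-- Maps of systems defined modulo a power of the ideal. -/
abbrev Mor (P Q : Sys S d) : Type u :=
  ∀ s, P.B s →ₗ[S] Q.B s ⧸ (J ^ n • ⊤ : Submodule S (Q.B s))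

variable {J n}

/-- Compatibility with the restrictions. -/
def IsNat {P Q : Sys S d} (φ : Mor J n P Q) : Prop :=
  ∀ {s s' : Finset (Fin d)}, s.Nonempty → ∀ (h : s ⊆ s') (y : P.B s) (v : Q.B s),
    φ s y = Submodule.Quotient.mk v → φ s' (P.res h y) = Submodule.Quotient.mk (Q.res h v)

/-- Congruence along a map, up to the filtration. -/
def Rel {P Q : Sys S d} (φ : Mor J n P Q) (r : ℕ) (z : X P) (y : X Q) : Prop :=
  ∀ s T, φ s (z s T) - Submodule.Quotient.mk (y s T) ∈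
    (J ^ (n - (T.filter (· < r)).card) • ⊤ : Submodule S (Q.B s ⧸ (J ^ n • ⊤ : Submodule S (Q.B s))))

theorem mem_of_mk_mem {M : Type u} [AddCommGroup M] [Module S M] {e : ℕ} (he : e ≤ n) {v : M}
    (h : (Submodule.Quotient.mk v : M ⧸ (J ^ n • ⊤ : Submodule S M)) ∈
      (J ^ e • ⊤ : Submodule S (M ⧸ (J ^ n • ⊤ : Submodule S M)))) : v ∈ (J ^ e • ⊤ : Submodule S M) := by
  have hmap : (J ^ e • ⊤ : Submodule S M).map (Submodule.mkQ (J ^ n • ⊤)) = J ^ e • ⊤ := by
    rw [Submodule.map_smul'', Submodule.map_top, Submodule.range_mkQ]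
  rw [← hmap] at h
  obtain ⟨v', hv', e'⟩ := h
  have := Submodule.smul_mono_left (N := (⊤ : Submodule S M)) (Ideal.pow_le_pow_right (I := J) he)
    ((Submodule.Quotient.eq _).1 e')
  simpa using sub_mem hv' this

theorem mk_mem {M : Type u} [AddCommGroup M] [Module S M] {e : ℕ} {v : M} (h : v ∈ (J ^ e • ⊤ : Submodule S M)) :
    (Submodule.Quotient.mk v : M ⧸ (J ^ n • ⊤ : Submodule S M)) ∈
      (J ^ e • ⊤ : Submodule S (M ⧸ (J ^ n • ⊤ : Submodule S M))) := by
  have := Submodule.mem_map_of_mem (f := Submodule.mkQ (J ^ n • ⊤ : Submodule S M)) h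
  rw [Submodule.map_smul'', Submodule.map_top, Submodule.range_mkQ] at this
  exact this

variable {P Q : Sys S d} {φ : Mor J n P Q} {r : ℕ}

theorem Rel.add {z z' : X P} {y y' : X Q} (h : Rel φ r z y) (h' : Rel φ r z' y') : Rel φ r (z + z') (y + y') :=
  fun s T => by
    rw [Pi.add_apply, Pi.add_apply, Pi.add_apply, Pi.add_apply, map_add, Submodule.Quotient.mk_add,
      add_sub_add_comm]
    exact add_mem (h s T) (h' s T)

theorem Rel.smul (c : S) {z : X P} {y : X Q} (h : Rel φ r z y) : Rel φ r (c • z) (c • y) := fun s T => by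
  rw [Pi.smul_apply, Pi.smul_apply, Pi.smul_apply, Pi.smul_apply, map_smul, Submodule.Quotient.mk_smul, ← smul_sub]
  exact Submodule.smul_mem _ c (h s T)

theorem Rel.zero : Rel φ r (0 : X P) (0 : X Q) := fun s T => by
  simp only [Pi.zero_apply, map_zero, Submodule.Quotient.mk_zero, sub_zero]
  exact zero_mem _

theorem Rel.fil_of_zero {y : X Q} (h : Rel φ r (0 : X P) y) : y ∈ Fil Q J r n := mem_Fil.2 fun s T => by
  have := h s T
  rw [Pi.zero_apply, Pi.zero_apply, map_zero, zero_sub, neg_mem_iff] at this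
  exact mem_of_mk_mem (Nat.sub_le _ _) this

theorem Rel.of_sub {z : X P} {y y' : X Q} (h : Rel φ r z y) (h' : y' - y ∈ Fil Q J r n) : Rel φ r z y' :=
  fun s T => by
    have := sub_mem (h s T) (mk_mem (n := n) (mem_Fil.1 h' s T))
    rw [Pi.sub_apply, Pi.sub_apply, Submodule.Quotient.mk_sub] at this
    simpa using this

theorem Rel.D (t : ℕ → S) (m : ℕ) (htJ : ∀ k < r, t k ∈ J) (hφ : IsNat φ) {z : X P} {y : X Q}
    (hz : ∀ T, z ∅ T = 0) (hy : ∀ T, y ∅ T = 0) (h : Rel φ r z y) :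
    Rel φ r (Kosz.D P t m z) (Kosz.D Q t m y) := fun s T => by
  rw [D_apply, D_apply, map_add, Submodule.Quotient.mk_add, add_sub_add_comm, dC_apply, dC_apply, dK_apply,
    dK_apply, map_sum, map_zsmul, map_sum, ← Submodule.mkQ_apply, ← Submodule.mkQ_apply, map_sum, map_zsmul,
    map_sum, ← sum_sub_distrib, ← smul_sub, ← sum_sub_distrib]
  refine add_mem (sum_mem fun j hj => ?_) (zsmul_mem (sum_mem fun k hk => ?_) _)
  · rw [map_zsmul, map_zsmul, ← smul_sub]
    refine zsmul_mem ?_ _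
    rcases (s.erase j).eq_empty_or_nonempty with he | hne
    · have key : ∀ s', s' = (∅ : Finset (Fin d)) → z s' T = 0 ∧ y s' T = 0 := by rintro _ rfl; exact ⟨hz T, hy T⟩
      rw [(key _ he).1, (key _ he).2, map_zero, map_zero, map_zero, map_zero, sub_zero]
      exact zero_mem _
    · obtain ⟨v, hv⟩ := Submodule.Quotient.mk_surjective _ (φ (s.erase j) (z (s.erase j) T))
      have h1 := h (s.erase j) T
      rw [← hv, ← Submodule.Quotient.mk_sub] at h1
      rw [hφ hne (erase_subset j s) _ v hv.symm, Submodule.mkQ_apply, ← Submodule.Quotient.mk_sub, ← map_sub]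
      exact mk_mem (res_mem_smul Q _ _ (mem_of_mk_mem (Nat.sub_le _ _) h1))
  · rw [map_zsmul, map_zsmul, map_smul, map_smul, ← smul_sub, ← smul_sub]
    refine zsmul_mem ?_ _
    have hkT := (mem_sdiff.1 hk).2
    have h1 := h s (insert k T)
    rw [filter_insert] at h1
    split_ifs at h1 with hkr
    · rw [card_insert_of_notMem (fun hh => hkT (mem_filter.1 hh).1)] at h1
      have h2 := Submodule.smul_mem_smul (htJ k hkr) h1
      rw [← Submodule.mul_smul, ← pow_succ'] at h2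
      exact Submodule.smul_mono_left (Ideal.pow_le_pow_right (by omega)) h2
    · exact Submodule.smul_mem _ _ h1

theorem exists_rel {m : ℕ} {i : ℤ} {z : X P} (hz : z ∈ Deg P m i) :
    ∃ y ∈ Deg Q m i, Rel φ r z y := by
  classical
  choose v hv using fun s T => Submodule.Quotient.mk_surjective _ (φ s (z s T))
  refine ⟨fun s T => if z s T = 0 then 0 else v s T, fun s T hn => if_pos (eq_zero_of_not hz hn), fun s T => ?_⟩
  dsimp only
  split_ifs with h
  · rw [h, map_zero, Submodule.Quotient.mk_zero, sub_zero]; exact zero_mem _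
  · rw [hv, sub_self]; exact zero_mem _

theorem empty_of_Deg {R : Sys S d} {m : ℕ} {i : ℤ} {z : X R} (hz : z ∈ Deg R m i) (T : Finset ℕ) : z ∅ T = 0 :=
  eq_zero_of_not hz fun h => not_nonempty_empty h.1

/-- Acyclicity of the filtration. -/
def Acyc (P : Sys S d) (t : ℕ → S) (J : Ideal S) (r n : ℕ) : Prop :=
  ∀ m, r ≤ m → ∀ (i : ℤ) (z : X P), z ∈ Zc P t m i → z ∈ Fil P J r n →
    ∃ w ∈ Deg P m (i - 1), w ∈ Fil P J r n ∧ Kosz.D P t m w = z

theorem Fil_le_Bd {P : Sys S d} {t : ℕ → S} (hP : Acyc P t J r n) {m : ℕ} (hm : r ≤ m) {i : ℤ} {z : X P}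
    (hz : z ∈ Zc P t m i) (hF : z ∈ Fil P J r n) : z ∈ Bd P t m i := by
  obtain ⟨w, hw, -, rfl⟩ := hP m hm i z hz hF
  exact D_mem_Bd P t hw

theorem exists_rel_Zc {t : ℕ → S} (htJ : ∀ k < r, t k ∈ J) (hφ : IsNat φ) (hQ : Acyc Q t J r n) {m : ℕ}
    (hm : r ≤ m) {i : ℤ} {z : X P} (hz : z ∈ Zc P t m i) : ∃ y ∈ Zc Q t m i, Rel φ r z y := by
  obtain ⟨y, hy, hzy⟩ := exists_rel (Q := Q) (φ := φ) (r := r) hz.1
  have hD : Kosz.D Q t m y ∈ Fil Q J r n := by
    have := hzy.D t m htJ hφ (empty_of_Deg hz.1) (empty_of_Deg hy)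
    rw [show Kosz.D P t m z = 0 from hz.2] at this
    exact this.fil_of_zero
  obtain ⟨w, hw, hwF, hDw⟩ := hQ m hm (i + 1) _ ⟨D_mem Q t hy, D_D Q t m y⟩ hD
  rw [add_sub_cancel_right] at hw
  refine ⟨y - w, ⟨sub_mem hy hw, ?_⟩, hzy.of_sub ?_⟩
  · show Kosz.D Q t m (y - w) = 0
    rw [map_sub, hDw, sub_self]
  · rw [sub_sub_cancel_left]; exact neg_mem hwF

variable {ψ : Mor J n Q P} {c : S}

theorem Rel.comp (hc : ∀ s : Finset (Fin d), s.Nonempty → ∀ (y : P.B s) (v : Q.B s),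
      φ s y = Submodule.Quotient.mk v → ψ s v = c • Submodule.Quotient.mk y)
    {z w : X P} {y : X Q} (h : Rel φ r z y) (h' : Rel ψ r y w) (hz : ∀ T, z ∅ T = 0) (hw : ∀ T, w ∅ T = 0) :
    c • z - w ∈ Fil P J r n := mem_Fil.2 fun s T => by
  rcases s.eq_empty_or_nonempty with rfl | hs
  · rw [Pi.sub_apply, Pi.sub_apply, Pi.smul_apply, Pi.smul_apply, hz T, hw T, smul_zero, sub_zero]
    exact zero_mem _
  obtain ⟨v, hv⟩ := Submodule.Quotient.mk_surjective _ (φ s (z s T))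
  have h1 := h s T
  rw [← hv, ← Submodule.Quotient.mk_sub] at h1
  have h2 := Submodule.mem_map_of_mem (f := ψ s) (mem_of_mk_mem (Nat.sub_le _ _) h1)
  rw [Submodule.map_smul''] at h2
  have h3 := Submodule.smul_mono le_rfl le_top h2
  rw [map_sub, hc s hs _ v hv.symm] at h3
  refine mem_of_mk_mem (Nat.sub_le _ _) ?_
  rw [Pi.sub_apply, Pi.sub_apply, Pi.smul_apply, Pi.smul_apply, Submodule.Quotient.mk_sub, Submodule.Quotient.mk_smul]
  have := add_mem h3 (h' s T)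
  rwa [sub_add_sub_cancel] at this

variable {t : ℕ → S} {m : ℕ} {i : ℤ}

theorem smul_sub_mem_Bd (htJ : ∀ k < r, t k ∈ J) (hψ : IsNat ψ)
    (hc : ∀ s : Finset (Fin d), s.Nonempty → ∀ (y : P.B s) (v : Q.B s),
      φ s y = Submodule.Quotient.mk v → ψ s v = c • Submodule.Quotient.mk y)
    (hP : Acyc P t J r n) (hm : r ≤ m) {z : X P} (hz : z ∈ Zc P t m i) {y g u : X Q} (hzy : Rel φ r z y)
    (hu : u ∈ Deg Q m (i - 1)) (hy : y = g + Kosz.D Q t m u) {g' : X P} (hg' : g' ∈ Zc P t m i) (hgg : Rel ψ r g g') :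
    c • z - g' ∈ Bd P t m i := by
  obtain ⟨u', hu', huu⟩ := exists_rel (P := Q) (Q := P) (φ := ψ) (r := r) hu
  have hw : Rel ψ r y (g' + Kosz.D P t m u') := hy ▸ hgg.add (huu.D t m htJ hψ (empty_of_Deg hu) (empty_of_Deg hu'))
  have hb : Kosz.D P t m u' ∈ Bd P t m i := D_mem_Bd P t hu'
  have hmem : c • z - (g' + Kosz.D P t m u') ∈ Zc P t m i :=
    sub_mem (Submodule.smul_mem _ c hz) (add_mem hg' (Bd_le P t m i hb))
  have hF := Rel.comp hc hzy hw (empty_of_Deg hz.1) (empty_of_Deg (add_mem hg' (Bd_le P t m i hb)).1)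
  rw [show c • z - g' = (c • z - (g' + Kosz.D P t m u')) + Kosz.D P t m u' by abel]
  exact add_mem (Fil_le_Bd hP hm hmem hF) hb

/-- Transfer of finiteness. -/
theorem exists_fg_smul [IsNoetherianRing S] (htJ : ∀ k < r, t k ∈ J) (hφ : IsNat φ) (hψ : IsNat ψ)
    (hc : ∀ s : Finset (Fin d), s.Nonempty → ∀ (y : P.B s) (v : Q.B s),
      φ s y = Submodule.Quotient.mk v → ψ s v = c • Submodule.Quotient.mk y)
    (hP : Acyc P t J r n) (hQ : Acyc Q t J r n) (hm : r ≤ m) (h : FinH Q t m i) :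
    ∃ G : Submodule S (X P), G.FG ∧ ∀ z ∈ Zc P t m i, c • z ∈ G ⊔ Bd P t m i := by
  classical
  obtain ⟨G, hG, hGZ, hle⟩ := h.exists_le
  obtain ⟨gs, hgs⟩ := hG
  choose g' hg' hgg using fun g : gs => exists_rel_Zc (P := Q) (Q := P) (φ := ψ) htJ hψ hP hm
    (hGZ (hgs.le (Submodule.subset_span g.2)))
  refine ⟨Submodule.span S (Set.range g'), Submodule.fg_span (Set.finite_range g'), fun z hz => ?_⟩
  have hG' : ∀ g ∈ G, ∃ w ∈ Submodule.span S (Set.range g') ⊓ Zc P t m i, Rel ψ r g w := by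
    intro g hg
    rw [← hgs] at hg
    induction hg using Submodule.span_induction with
    | mem g hg => exact ⟨g' ⟨g, hg⟩, ⟨Submodule.subset_span ⟨_, rfl⟩, hg' _⟩, hgg ⟨g, hg⟩⟩
    | zero => exact ⟨0, zero_mem _, Rel.zero⟩
    | add a b _ _ ha hb =>
      obtain ⟨wa, hwa, ha⟩ := ha
      obtain ⟨wb, hwb, hb⟩ := hb
      exact ⟨wa + wb, add_mem hwa hwb, ha.add hb⟩
    | smul a b _ hb =>
      obtain ⟨wb, hwb, hb⟩ := hb
      exact ⟨a • wb, Submodule.smul_mem _ a hwb, hb.smul a⟩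
  obtain ⟨y, hy, hzy⟩ := exists_rel_Zc (φ := φ) htJ hφ hQ hm hz
  obtain ⟨g, hg, _, ⟨u, hu, rfl⟩, e⟩ := Submodule.mem_sup.1 (hle hy)
  obtain ⟨w, hw, hgw⟩ := hG' g hg
  have := smul_sub_mem_Bd htJ hψ hc hP hm hz hzy hu e.symm hw.2 hgw
  rw [show c • z = w + (c • z - w) by abel]
  exact add_mem (Submodule.mem_sup_left hw.1) (Submodule.mem_sup_right this)

/-- Transfer of vanishing. -/
theorem smul_mem_Bd_of_vanish (htJ : ∀ k < r, t k ∈ J) (hφ : IsNat φ) (hψ : IsNat ψ)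
    (hc : ∀ s : Finset (Fin d), s.Nonempty → ∀ (y : P.B s) (v : Q.B s),
      φ s y = Submodule.Quotient.mk v → ψ s v = c • Submodule.Quotient.mk y)
    (hP : Acyc P t J r n) (hQ : Acyc Q t J r n) (hm : r ≤ m) (h : Zc Q t m i ≤ Bd Q t m i) {z : X P}
    (hz : z ∈ Zc P t m i) : c • z ∈ Bd P t m i := by
  obtain ⟨y, hy, hzy⟩ := exists_rel_Zc (φ := φ) htJ hφ hQ hm hz
  obtain ⟨u, hu, rfl⟩ := h hy
  have := smul_sub_mem_Bd htJ hψ hc hP hm hz hzy hu (zero_add _).symm (zero_mem _) Rel.zero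
  rwa [sub_zero] at this

end Groth.Agent.Lef23.Kosz
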