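import Groth.Agent.Lef23.Kosz.Punct
import Groth.Agent.S0262
import Groth.Agent.S14269
import Groth.Agent.Lef23.PurePair
import Groth.Agent.Matlis6.CompletionNoetherian
import Groth.Agent.S0548

/-!
# Purity in virtual dimension at least three
-/

set_option autoImplicit false
set_option linter.style.haveILetI false
set_option backward.isDefEq.respectTransparency.types false
set_option backward.isDefEq.respectTransparency false
universe u

open CategoryTheory CategoryTheory.Limits AlgebraicGeometry IsLocalRing
open Groth.Agent.FEtFF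

namespace Groth.Agent.Lef23.Kosz

/-- Purity descends from the completion. -/
theorem purityHolds_of_completion (A : Type u) [CommRing A] [IsNoetherianRing A] [IsLocalRing A]
    (hB : FEt.PurityHolds (AdicCompletion (maximalIdeal A) A)) : FEt.PurityHolds A := by
  let B := AdicCompletion (maximalIdeal A) A
  let U := FEt.puncturedSpec A
  let U' := FEt.puncturedSpec B
  let g := Spec.map (CommRingCat.ofHom (algebraMap A B))
  obtain ⟨k, HU⟩ := PurityTransfer.exists_punctured_square (algebraMap A B)
    (le_trans (le_of_eq AdicCompletion.maximalIdeal_eq_map) Ideal.le_radical)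
  refine ⟨fun V => ?_⟩
  haveI : (FEt.restrict U'.ι).EssSurj := hB
  obtain ⟨Y', ⟨e'⟩⟩ : ∃ Y', Nonempty ((FEt.restrict U'.ι).obj Y' ≅ (FEt.restrict k).obj V) :=
    ⟨_, ⟨(FEt.restrict U'.ι).objObjPreimageIso _⟩⟩
  exact (Groth.Agent.S0262.result A V).2 ⟨Y',
    ⟨(PuncturedExtend.rComp HU.isoPullback.inv U'.ι (pullback.snd U.ι g) (HU.isoPullback_inv_snd).symm).app Y' ≪≫
      (FEt.restrict HU.isoPullback.inv).mapIso e' ≪≫
      ((PuncturedExtend.rComp HU.isoPullback.inv k (pullback.fst U.ι g) (HU.isoPullback_inv_fst).symm).app V).symm⟩⟩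

/-- Zariski–Nagata purity in virtual dimension at least three. -/
theorem purityHolds_of_presentation (A : Type u) [CommRing A] [IsNoetherianRing A] [IsLocalRing A]
    (S : Type u) [CommRing S] [IsRegularLocalRing S] [IsAdicComplete (maximalIdeal S) S]
    (d : ℕ) (hd : ringKrullDim S = d) (s : Finset S) (hs : s.card + 3 ≤ d)
    (e : AdicCompletion (maximalIdeal A) A ≃+* S ⧸ Ideal.span (s : Set S)) : FEt.PurityHolds A := by
  haveI : IsNoetherianRing (AdicCompletion (maximalIdeal A) A) := Matlis6.isNoetherianRing_adicCompletion _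
  haveI : Nontrivial (S ⧸ Ideal.span (s : Set S)) := e.injective.nontrivial
  haveI : IsLocalRing (S ⧸ Ideal.span (s : Set S)) := .of_surjective' _ Ideal.Quotient.mk_surjective
  refine purityHolds_of_completion A (PurityTransfer.purityHolds_of_ringEquiv e.symm (purityHolds_vdim S s ?_))
  have h := IsRegularLocalRing.spanFinrank_maximalIdeal (R := S)
  rw [hd] at h
  have h' : (maximalIdeal S).spanFinrank = d := by exact_mod_cast h
  omega

/-- The equivalence of categories in virtual dimension at least three. -/
theorem isEquivalence_of_presentation (A : Type u) [CommRing A] [IsNoetherianRing A] [IsLocalRing A]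
    (S : Type u) [CommRing S] [IsRegularLocalRing S] [IsAdicComplete (maximalIdeal S) S]
    (d : ℕ) (hd : ringKrullDim S = d) (s : Finset S) (hs : s.card + 3 ≤ d)
    (e : AdicCompletion (maximalIdeal A) A ≃+* S ⧸ Ideal.span (s : Set S)) :
    (FEt.restrict (FEt.puncturedSpec A).ι).IsEquivalence := by
  obtain ⟨⟨hF, hFa⟩, -⟩ := Groth.Agent.S14269.result A S d hd s (by omega) e
  haveI := hF
  haveI := hFa
  haveI : (FEt.restrict (FEt.puncturedSpec A).ι).EssSurj := purityHolds_of_presentation A S d hd s hs e
  exact { }

end Groth.Agent.Lef23.Kosz
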