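import Groth.Agent.FEtFF.PurityGlobal
import Groth.Agent.CAlgH3.RegularCore
import Mathlib.RingTheory.Unramified.LocalRing
import Mathlib.RingTheory.AdjoinRoot

/-!
# Purity fails in dimension one
-/

set_option autoImplicit false
set_option linter.style.haveILetI false
set_option backward.isDefEq.respectTransparency.types false
set_option backward.isDefEq.respectTransparency false
universe u

open CategoryTheory CategoryTheory.Limits AlgebraicGeometry IsLocalRing Polynomial
open Groth.Agent.FEtFF

namespace Groth.Agent.Lef23.Kosz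

theorem no_root {R : Type u} [CommRing R] [IsLocalRing R] (π : R) (hπ : maximalIdeal R = Ideal.span {π})
    (hreg : IsSMulRegular R π) (n : ℕ) (hn : 2 ≤ n) : ∀ (k : ℕ) (e : R), e ^ n ≠ π ^ (n * k + 1) := by
  have hπu : ¬ IsUnit π := by
    rw [← mem_nonunits_iff, ← mem_maximalIdeal, hπ]
    exact Ideal.mem_span_singleton_self π
  intro k
  induction k with
  | zero =>
    intro e he
    have hem : e ∈ maximalIdeal R := fun hu => hπu (by simpa using (show IsUnit (π ^ (n * 0 + 1)) from he ▸ hu.pow n))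
    rw [hπ, Ideal.mem_span_singleton] at hem
    obtain ⟨g, rfl⟩ := hem
    obtain ⟨m, rfl⟩ : ∃ m, n = m + 2 := ⟨n - 2, by omega⟩
    have h1 : π • (π ^ (m + 1) * g ^ (m + 2)) = π • (1 : R) := by
      rw [smul_eq_mul, smul_eq_mul, mul_one, ← mul_assoc, ← pow_succ', ← mul_pow]
      simpa using he
    exact hπu (IsUnit.of_mul_eq_one (π ^ m * g ^ (m + 2)) (by rw [← mul_assoc, ← pow_succ']; exact hreg h1))
  | succ k ih =>
    intro e he
    have hem : e ∈ maximalIdeal R := fun hu => hπu ((isUnit_pow_iff (by omega)).1 (he ▸ hu.pow n))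
    rw [hπ, Ideal.mem_span_singleton] at hem
    obtain ⟨g, rfl⟩ := hem
    refine ih g ((hreg.pow n) ?_)
    show π ^ n * g ^ n = π ^ n * π ^ (n * k + 1)
    rw [← mul_pow, he, ← pow_add]
    congr 1
    ring

set_option maxHeartbeats 1000000 in
/-- Purity fails for regular local rings of dimension one. -/
theorem not_purityHolds_dim_one (L : Type u) [CommRing L] [IsRegularLocalRing L]
    (hd : (maximalIdeal L).spanFinrank = 1) : ¬ FEt.PurityHolds L := by
  classical
  intro hpur
  haveI := CAlgH3.isDomain_of_isRegularLocalRing L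
  obtain ⟨rs, hlen, hspan, -⟩ := CAlgH3.exists_isRegular_ofList_eq_maximalIdeal (R := L)
  obtain ⟨π, rfl⟩ : ∃ π, rs = [π] := by
    match rs, hlen.trans hd with
    | [π], _ => exact ⟨π, rfl⟩
  rw [Ideal.ofList_singleton] at hspan
  have hπ0 : π ≠ 0 := by
    rintro rfl
    replace hspan : (⊥ : Ideal L) = maximalIdeal L := by rw [← hspan]; simp
    rw [← hspan] at hd
    simp at hd
  let Lπ := Localization.Away π
  let U := FEt.puncturedSpec L
  -- `Spec Lπ` is the punctured spectrum
  let jc : Spec (CommRingCat.of Lπ) ⟶ Spec (CommRingCat.of L) := Spec.map (CommRingCat.ofHom (algebraMap L Lπ))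
  have hrange : Set.range jc = Set.range U.ι := by
    rw [Scheme.Opens.range_ι, show Set.range jc = _ from PrimeSpectrum.localization_away_comap_range Lπ π]
    ext p
    show π ∉ p.asIdeal ↔ p ≠ closedPoint L
    refine ⟨fun h e => h (e ▸ (hspan ▸ Ideal.mem_span_singleton_self π : π ∈ maximalIdeal L)), fun h hp => h ?_⟩
    refine PrimeSpectrum.ext (le_antisymm (le_maximalIdeal p.2.ne_top) ?_)
    show maximalIdeal L ≤ _
    rw [← hspan, Ideal.span_singleton_le_iff_mem]; exact hp
  haveI : IsOpenImmersion jc := IsOpenImmersion.of_isLocalization π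
  let k := IsOpenImmersion.isoOfRangeEq jc U.ι hrange
  -- a ramified cover
  obtain ⟨n, hn2, hn0⟩ : ∃ n : ℕ, 2 ≤ n ∧ (n : L) ≠ 0 := by
    by_cases h2 : (2 : L) = 0
    · refine ⟨3, by norm_num, fun h3 => one_ne_zero (α := L) ?_⟩
      calc (1 : L) = 3 - 2 := by norm_num
        _ = 0 := by rw [show (3 : L) = ((3 : ℕ) : L) from Nat.cast_ofNat.symm, h3, h2, sub_zero]
    · exact ⟨2, le_rfl, by simpa using h2⟩
  let p : Lπ[X] := X ^ n - C (algebraMap L Lπ π)
  have hmon : p.Monic := monic_X_pow_sub_C _ (by omega)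
  have hunitn : IsUnit ((n : ℕ) : Lπ) := by
    by_contra hu
    obtain ⟨M, hM, hnM⟩ := exists_max_ideal_of_mem_nonunits hu
    let P : PrimeSpectrum Lπ := ⟨M, hM.isPrime⟩
    haveI := P.2
    let q := M.comap (algebraMap L Lπ)
    haveI : q.IsPrime := hM.isPrime.comap _
    have hπq : π ∉ q := fun h => hM.ne_top (Ideal.eq_top_of_isUnit_mem M h (IsLocalization.Away.algebraMap_isUnit π))
    have hnq : (n : L) ∈ q := by rw [Ideal.mem_comap, map_natCast]; exact hnM
    -- a nonzero prime of a one-dimensional ring is maximal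
    have hlt : (⊥ : Ideal L) < q := bot_lt_iff_ne_bot.2 fun h => hn0 (by rw [h, Ideal.mem_bot] at hnq; exact hnq)
    have hlt' : q < maximalIdeal L := lt_of_le_of_ne (le_maximalIdeal (Ideal.IsPrime.ne_top inferInstance))
      fun e => hπq (e ▸ (hspan ▸ Ideal.mem_span_singleton_self π : π ∈ maximalIdeal L))
    have h1 := Ideal.height_add_one_le_of_lt_of_isPrime hlt
    have h2 := Ideal.height_add_one_le_of_lt_of_isPrime hlt'
    have h3 : ((maximalIdeal L).height : WithBot ℕ∞) = 1 := by
      rw [maximalIdeal_height_eq_ringKrullDim, ← IsRegularLocalRing.spanFinrank_maximalIdeal, hd]; rfl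
    have h4 : (maximalIdeal L).height = 1 := by exact_mod_cast h3
    rw [h4] at h2
    have h5 : (2 : ℕ∞) ≤ 1 := by
      refine le_trans ?_ (le_trans (add_le_add (le_trans (add_le_add bot_le le_rfl) h1) le_rfl) h2)
      show (2 : ℕ∞) ≤ 0 + 1 + 1
      norm_num
    exact absurd h5 (by norm_num)
  let S := AdjoinRoot p
  have hroot : AdjoinRoot.root p ^ n = algebraMap Lπ S (algebraMap L Lπ π) := by
    have h := AdjoinRoot.eval₂_root p
    simp only [p, eval₂_sub, eval₂_pow, eval₂_X, eval₂_C, sub_eq_zero] at h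
    exact h
  have hπS : IsUnit (algebraMap Lπ S (algebraMap L Lπ π)) := (IsLocalization.Away.algebraMap_isUnit π).map _
  have hder : IsUnit (aeval (AdjoinRoot.root p) (derivative p)) := by
    have hdp : derivative p = C ((n : ℕ) : Lπ) * X ^ (n - 1) := by simp [p, derivative_X_pow]
    rw [hdp, map_mul, map_pow, aeval_X, aeval_C]
    refine IsUnit.mul (hunitn.map _) (IsUnit.pow _ ?_)
    exact (isUnit_pow_iff (by omega)).1 (hroot ▸ hπS)
  haveI : Module.Finite Lπ S := hmon.finite_adjoinRoot
  haveI : Algebra.Etale Lπ S := by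
    haveI : Module.Free Lπ S := hmon.free_adjoinRoot
    haveI : Algebra.FormallyUnramified Lπ S := by
      refine ⟨subsingleton_of_forall_eq 0 fun ω => ?_⟩
      have hspan' : Submodule.span S (Set.range (KaehlerDifferential.D Lπ S)) = ⊤ :=
        KaehlerDifferential.span_range_derivation Lπ S
      have hD : KaehlerDifferential.D Lπ S (AdjoinRoot.root p) = 0 := by
        have h := Derivation.map_aeval (KaehlerDifferential.D Lπ S) p (AdjoinRoot.root p)
        rw [show aeval (AdjoinRoot.root p) p = 0 from by rw [AdjoinRoot.aeval_eq, AdjoinRoot.mk_self], map_zero] at h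
        exact (hder.smul_eq_zero).1 h.symm
      have hall : ∀ z : S, KaehlerDifferential.D Lπ S z = 0 := fun z => by
        obtain ⟨q, rfl⟩ := AdjoinRoot.mk_surjective z
        rw [← AdjoinRoot.aeval_eq, Derivation.map_aeval, hD, smul_zero]
      have : ω ∈ (⊥ : Submodule S (Ω[S⁄Lπ])) := by
        rw [← (Submodule.span_eq_bot.2 (by rintro _ ⟨z, rfl⟩; exact hall z) :
          Submodule.span S (Set.range (KaehlerDifferential.D Lπ S)) = ⊥), hspan']
        trivial
      exact (Submodule.mem_bot S).1 this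
    haveI : Algebra.FinitePresentation Lπ S := inferInstance
    exact Algebra.Etale.of_formallyUnramified_of_flat
  -- extend it
  let v₀ : Spec (CommRingCat.of S) ⟶ Spec (CommRingCat.of Lπ) := Spec.map (CommRingCat.ofHom (algebraMap Lπ S))
  haveI : IsFinite v₀ := (IsFinite.SpecMap_iff _).2 (RingHom.finite_algebraMap.2 inferInstance)
  haveI : Etale v₀ := (HasRingHomProperty.Spec_iff (P := @Etale)).2 (RingHom.etale_algebraMap.2 inferInstance)
  obtain ⟨Y, y, hy, hy', i, hi⟩ := PurityGlobal.purity_exists hpur (v₀ ≫ k.hom)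
  haveI : IsAffine Y := isAffine_of_isAffineHom y
  obtain ⟨φE, hφE⟩ := Spec.map_surjective (Y.isoSpec.inv ≫ y)
  let E := Γ(Y, ⊤)
  letI : Algebra L E := φE.hom.toAlgebra
  haveI : IsFinite (Spec.map φE) := by rw [hφE]; infer_instance
  haveI : Etale (Spec.map φE) := by rw [hφE]; infer_instance
  haveI : Algebra.Etale L E := RingHom.etale_algebraMap.1 ((HasRingHomProperty.Spec_iff (P := @Etale)).1 inferInstance)
  haveI : Module.Finite L E := RingHom.finite_algebraMap.1 ((IsFinite.SpecMap_iff _).1 inferInstance)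
  -- the root in `E[1/π]`
  let Eπ := Localization.Away (algebraMap L E π)
  let gE : Spec (CommRingCat.of Eπ) ⟶ Spec (CommRingCat.of E) := Spec.map (CommRingCat.ofHom (algebraMap E Eπ))
  have hgr : Set.range (gE ≫ Spec.map φE) ⊆ Set.range U.ι := by
    rintro _ ⟨s, rfl⟩
    rw [← hrange, show Set.range jc = _ from PrimeSpectrum.localization_away_comap_range Lπ π]
    have h : gE s ∈ Set.range gE := ⟨s, rfl⟩
    rw [show Set.range gE = _ from PrimeSpectrum.localization_away_comap_range Eπ (algebraMap L E π)] at h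
    exact h
  let gU := IsOpenImmersion.lift U.ι (gE ≫ Spec.map φE) hgr
  have hgU : gU ≫ U.ι = gE ≫ Spec.map φE := IsOpenImmersion.lift_fac _ _ hgr
  let m : Spec (CommRingCat.of Eπ) ⟶ Spec (CommRingCat.of S) :=
    pullback.lift (gE ≫ Y.isoSpec.inv) gU (by rw [Category.assoc, ← hφE, hgU]) ≫ i.hom
  obtain ⟨φ, hφ⟩ := Spec.map_surjective m
  have hcomm : ∀ a : L, φ (algebraMap Lπ S (algebraMap L Lπ a)) = algebraMap E Eπ (algebraMap L E a) := by
    intro a
    have h : m ≫ v₀ ≫ jc = gE ≫ Spec.map φE := by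
      rw [← hgU, ← IsOpenImmersion.isoOfRangeEq_hom_fac jc U.ι hrange]
      simp only [m, Category.assoc]
      rw [reassoc_of% hi, pullback.lift_snd_assoc]
    rw [← hφ] at h
    simp only [v₀, jc, gE, ← Spec.map_comp] at h
    exact ConcreteCategory.congr_hom (Spec.map_injective h) a
  -- `E[1/π]` is not zero
  obtain ⟨P, hP⟩ : ∃ P : PrimeSpectrum E, algebraMap L E π ∉ P.asIdeal := by
    haveI : IsDomain Lπ := IsLocalization.isDomain_localization (powers_le_nonZeroDivisors_of_noZeroDivisors hπ0)
    haveI : Nontrivial S := AdjoinRoot.nontrivial p (by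
      rw [degree_X_pow_sub_C (by omega)]; exact_mod_cast (by omega : n ≠ 0))
    let s : Spec (CommRingCat.of S) := (inferInstance : Nonempty (PrimeSpectrum S)).some
    let z := i.inv s
    refine ⟨Y.isoSpec.hom (pullback.fst y U.ι z), fun h => (pullback.snd y U.ι z).2 ?_⟩
    have e1 : (pullback.snd y U.ι ≫ U.ι) z = (Spec.map φE) (Y.isoSpec.hom (pullback.fst y U.ι z)) := by
      rw [← pullback.condition, Scheme.Hom.comp_apply, ← Scheme.Hom.comp_apply Y.isoSpec.hom, hφE, Iso.hom_inv_id_assoc]
    refine PrimeSpectrum.ext (le_antisymm (le_maximalIdeal (Ideal.IsPrime.ne_top (pullback.snd y U.ι z).1.2)) ?_)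
    show maximalIdeal L ≤ _
    rw [← hspan, Ideal.span_singleton_le_iff_mem]
    exact (congrArg (fun w : PrimeSpectrum L => π ∈ w.asIdeal) e1).mpr h
  obtain ⟨M, hM, hPM⟩ := P.asIdeal.exists_le_maximal P.2.ne_top
  haveI := hM.isPrime
  haveI hMc : (M.comap (algebraMap L E)).IsMaximal := Ideal.isMaximal_comap_of_isIntegral_of_isMaximal M
  have hMm : M.comap (algebraMap L E) = maximalIdeal L := eq_maximalIdeal hMc
  haveI : M.LiesOver (maximalIdeal L) := ⟨hMm.symm⟩
  let EM := Localization.AtPrime M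
  letI := Localization.AtPrime.algebraOfLiesOver (maximalIdeal L) M
  have hmax : maximalIdeal EM = Ideal.span {algebraMap L EM π} := by
    rw [← ((Algebra.isUnramifiedAt_iff_map_eq L (maximalIdeal L) M).1 inferInstance).2, ← hspan, Ideal.map_span,
      Set.image_singleton]
  haveI : Module.Flat L EM := Module.Flat.trans L E EM
  have hregM : IsSMulRegular EM (algebraMap L EM π) :=
    IsSMulRegular.of_flat (S := EM) (show IsSMulRegular L π from fun a b h => mul_left_cancel₀ hπ0 h)
  -- compare
  obtain ⟨⟨e, ⟨_, j, rfl⟩⟩, hej⟩ := IsLocalization.surj (Submonoid.powers (algebraMap L E π)) (φ (AdjoinRoot.root p))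
  have h1 : algebraMap E Eπ (e ^ n) = algebraMap E Eπ (algebraMap L E π ^ (n * j + 1)) := by
    rw [map_pow, ← hej, mul_pow, ← map_pow φ.hom, hroot, hcomm, ← map_pow, ← map_mul, ← pow_mul, ← pow_succ', mul_comm j n]
  obtain ⟨⟨_, t, rfl⟩, ht⟩ := (IsLocalization.eq_iff_exists (Submonoid.powers (algebraMap L E π)) Eπ).1 h1
  have h2 := congrArg (algebraMap E EM) ht
  simp only [map_mul, map_pow, ← IsScalarTower.algebraMap_apply L E EM] at h2
  exact no_root (algebraMap L EM π) hmax hregM n hn2 j (algebraMap E EM e) (hregM.pow t h2)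

end Groth.Agent.Lef23.Kosz
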