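import Groth.Agent.Lef23.Kosz.Tower
import Groth.Agent.FEtFF.FormalExtendAlg
import Groth.Agent.FlatCrit.Tor

/-!
# Quotients and étaleness along an ideal
-/

set_option autoImplicit false
set_option linter.style.haveILetI false
set_option backward.isDefEq.respectTransparency.types false
set_option backward.isDefEq.respectTransparency false
universe u

open CategoryTheory CategoryTheory.Limits AlgebraicGeometry TensorProduct

namespace Groth.Agent.Lef23.Kosz

variable {A : Type u} [CommRing A]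

/-- An affine scheme surjected onto with kernel `K E` is the base change to `V(K)`. -/
theorem isPullback_of_surjective (K : Ideal A) {E T : Type u} [CommRing E] [Algebra A E]
    [CommRing T] [Algebra A T] (ψ : E →ₐ[A] T) (hψ : Function.Surjective ψ)
    (hker : ∀ e, ψ e = 0 → e ∈ K.map (algebraMap A E)) (hK : ∀ a ∈ K, algebraMap A T a = 0)
    (s : Spec (CommRingCat.of T) ⟶ Spec (CommRingCat.of (A ⧸ K)))
    (hs : s ≫ Spec.map (CommRingCat.ofHom (Ideal.Quotient.mk K)) = Spec.map (CommRingCat.ofHom (algebraMap A T))) :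
    IsPullback (Spec.map (CommRingCat.ofHom ψ.toRingHom)) s (Spec.map (CommRingCat.ofHom (algebraMap A E)))
      (Spec.map (CommRingCat.ofHom (Ideal.Quotient.mk K))) := by
  haveI : IsClosedImmersion (Spec.map (CommRingCat.ofHom (Ideal.Quotient.mk K))) :=
    IsClosedImmersion.spec_of_surjective _ Ideal.Quotient.mk_surjective
  have h2 := isPullback_SpecMap_of_isPushout _ _ _ _ (Tower.isPushout_quot (E := E) K)
  have hle : K.map (algebraMap A E) ≤ RingHom.ker ψ.toRingHom := Ideal.map_le_iff_le_comap.2 fun a ha => by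
    show ψ (algebraMap A E a) = 0
    rw [ψ.commutes, hK a ha]
  let σ : E ⧸ K.map (algebraMap A E) →+* T := Ideal.Quotient.lift _ ψ.toRingHom hle
  have hσ : Function.Bijective σ := by
    refine ⟨(injective_iff_map_eq_zero σ).2 fun b hb => ?_, fun b => ?_⟩
    · obtain ⟨b, rfl⟩ := Ideal.Quotient.mk_surjective b
      rw [Ideal.Quotient.eq_zero_iff_mem]
      exact hker b hb
    · obtain ⟨c, hc⟩ := hψ b
      exact ⟨Ideal.Quotient.mk _ c, hc⟩
  let eσ : Spec (CommRingCat.of T) ≅ Spec (CommRingCat.of (E ⧸ K.map (algebraMap A E))) :=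
    Scheme.Spec.mapIso (RingEquiv.ofBijective σ hσ).toCommRingCatIso.op
  refine h2.of_iso eσ.symm (Iso.refl _) (Iso.refl _) (Iso.refl _) ?_ ?_ (by simp) (by simp)
  · rw [Iso.refl_hom, Category.comp_id, Iso.symm_hom, Iso.eq_inv_comp]
    simp only [eσ, Functor.mapIso_hom, Iso.op_hom, Scheme.Spec_map, Quiver.Hom.unop_op]
    rw [← Spec.map_comp]
    rfl
  · rw [Iso.refl_hom, Category.comp_id, Iso.symm_hom, Iso.eq_inv_comp,
      ← cancel_mono (Spec.map (CommRingCat.ofHom (Ideal.Quotient.mk K)))]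
    simp only [eσ, Functor.mapIso_hom, Iso.op_hom, Scheme.Spec_map, Quiver.Hom.unop_op, Category.assoc]
    rw [hs]
    simp only [← Spec.map_comp]
    congr 1
    ext r
    exact ψ.commutes r

/-- A base change to a quotient recognised by a surjection with the expected kernel. -/
theorem etale_tensor_of_surjective (K : Ideal A) {S T : Type u} [CommRing S] [Algebra A S] [CommRing T]
    [Algebra (A ⧸ K) T] [Algebra A T] [IsScalarTower A (A ⧸ K) T] [Algebra.Etale (A ⧸ K) T]
    (ψ : S →ₐ[A] T) (hψ : Function.Surjective ψ) (hker : ∀ s, ψ s = 0 → s ∈ K.map (algebraMap A S)) :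
    Algebra.Etale (A ⧸ K) ((A ⧸ K) ⊗[A] S) := by
  let φ : (A ⧸ K) ⊗[A] S →ₐ[A ⧸ K] T :=
    Algebra.TensorProduct.lift (Algebra.ofId _ _) ψ fun _ _ => Commute.all _ _
  have hφt : ∀ b, φ (1 ⊗ₜ b) = ψ b := fun b => by
    simp only [φ, Algebra.TensorProduct.lift_tmul, map_one, one_mul]
  have hone : ∀ t : (A ⧸ K) ⊗[A] S, ∃ b, t = (1 : A ⧸ K) ⊗ₜ[A] b := fun t => by
    induction t using TensorProduct.induction_on with
    | zero => exact ⟨0, (TensorProduct.tmul_zero _ _).symm⟩
    | tmul r b =>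
      obtain ⟨r, rfl⟩ := Ideal.Quotient.mk_surjective r
      exact ⟨r • b, by rw [TensorProduct.tmul_smul, TensorProduct.smul_tmul', Algebra.smul_def, mul_one]; rfl⟩
    | add t t' ht ht' =>
      obtain ⟨b, rfl⟩ := ht
      obtain ⟨b', rfl⟩ := ht'
      exact ⟨b + b', (TensorProduct.tmul_add _ _ _).symm⟩
  have hzero : K.map (algebraMap A S) ≤
      RingHom.ker (Algebra.TensorProduct.includeRight : S →ₐ[A] (A ⧸ K) ⊗[A] S).toRingHom :=
    Ideal.map_le_iff_le_comap.2 fun a ha => by
      show (1 : A ⧸ K) ⊗ₜ[A] algebraMap A S a = 0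
      rw [Algebra.algebraMap_eq_smul_one, TensorProduct.tmul_smul, TensorProduct.smul_tmul', Algebra.smul_def,
        mul_one, Ideal.Quotient.algebraMap_eq, Ideal.Quotient.eq_zero_iff_mem.2 ha, TensorProduct.zero_tmul]
  have hφ : Function.Bijective φ := by
    refine ⟨(injective_iff_map_eq_zero φ).2 fun t ht => ?_, fun b => ?_⟩
    · obtain ⟨b, rfl⟩ := hone t
      rw [hφt] at ht
      exact hzero (hker b ht)
    · obtain ⟨c, hc⟩ := hψ b
      exact ⟨1 ⊗ₜ c, by rw [hφt, hc]⟩
  exact Algebra.Etale.of_equiv (AlgEquiv.ofBijective φ hφ).symm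

variable [IsNoetherianRing A]

/-- Étaleness at a point of `V(I)` from étaleness modulo every power of `I`. -/
theorem isEtaleAt_of_levels (I : Ideal A) (S : Type u) [CommRing S] [Algebra A S] [Algebra.FiniteType A S]
    (h : ∀ n : ℕ, Algebra.Etale (A ⧸ I ^ (n + 1)) ((A ⧸ I ^ (n + 1)) ⊗[A] S))
    (P : Ideal S) [P.IsPrime] (hP : I.map (algebraMap A S) ≤ P) : Algebra.IsEtaleAt A P := by
  let K := I ^ (0 + 1)
  haveI := h 0
  haveI : IsNoetherianRing S := Algebra.FiniteType.isNoetherianRing A S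
  haveI : Algebra.FinitePresentation A S := Algebra.FinitePresentation.of_finiteType.1 inferInstance
  haveI hΩ : Subsingleton ((A ⧸ K) ⊗[A] Ω[S⁄A]) := by
    letI : Algebra S ((A ⧸ K) ⊗[A] S) := Algebra.TensorProduct.rightAlgebra
    exact (KaehlerDifferential.tensorKaehlerEquivBase A (A ⧸ K) S ((A ⧸ K) ⊗[A] S)).subsingleton
  have htop : (⊤ : Submodule S Ω[S⁄A]) ≤ K.map (algebraMap A S) • ⊤ := fun x _ => by
    have hx : (Submodule.Quotient.mk x : Ω[S⁄A] ⧸ (K • ⊤ : Submodule A Ω[S⁄A])) = 0 :=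
      (TensorProduct.quotTensorEquivQuotSMul Ω[S⁄A] K).symm.injective (Subsingleton.elim _ _)
    rw [Submodule.Quotient.mk_eq_zero] at hx
    refine Submodule.smul_induction_on hx (fun r hr y _ => ?_) fun _ _ => Submodule.add_mem _
    rw [← algebraMap_smul S r y]
    exact Submodule.smul_mem_smul (Ideal.mem_map_of_mem _ hr) trivial
  obtain ⟨r, hr1, hr⟩ := Submodule.exists_sub_one_mem_and_smul_eq_zero_of_fg_of_le_smul (K.map (algebraMap A S)) ⊤
    Module.Finite.fg_top htop
  have hrP : r ∉ P := fun h' => by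
    have hle : K.map (algebraMap A S) ≤ P :=
      (Ideal.map_mono (show K ≤ I from (pow_one I).le)).trans hP
    have h1 := P.sub_mem h' (hle hr1)
    rw [sub_sub_cancel] at h1
    exact ‹P.IsPrime›.ne_top ((Ideal.eq_top_iff_one P).2 h1)
  have hsupp : (⟨P, ‹_›⟩ : PrimeSpectrum S) ∉ Module.support S Ω[S⁄A] := by
    rw [Module.notMem_support_iff']
    exact fun m => ⟨r, hrP, hr m trivial⟩
  haveI : Algebra.IsUnramifiedAt A P := by
    show (⟨P, ‹_›⟩ : PrimeSpectrum S) ∈ Algebra.unramifiedLocus A S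
    rw [Algebra.unramifiedLocus_eq_compl_support]
    exact hsupp
  let SP := Localization.AtPrime P
  haveI : IsNoetherianRing SP := IsLocalization.isNoetherianRing P.primeCompl SP inferInstance
  haveI : Module.Flat A SP := by
    refine FlatCrit.flat_of_quotFlat_pow (S := SP) I ?_ fun n => ?_
    · rw [IsLocalRing.jacobson_eq_maximalIdeal _ bot_ne_top, IsScalarTower.algebraMap_eq A S SP, ← Ideal.map_map]
      exact (Ideal.map_mono hP).trans (Localization.AtPrime.map_eq_maximalIdeal (I := P)).le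
    · have hf : Module.Flat (A ⧸ I ^ n) ((A ⧸ I ^ n) ⊗[A] S) := by
        cases n with
        | zero =>
          haveI : Subsingleton (A ⧸ I ^ 0) := Ideal.Quotient.subsingleton_iff.2 (by rw [pow_zero, Ideal.one_eq_top])
          haveI : Subsingleton ((A ⧸ I ^ 0) ⊗[A] S) := Module.subsingleton (A ⧸ I ^ 0) _
          infer_instance
        | succ n => haveI := h n; infer_instance
      exact ((FlatCrit.quotFlat_of_flat (I ^ n) hf : FlatCrit.QuotFlat A S (I ^ n)).baseChange (S := S) SP).of_linearEquiv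
        ((TensorProduct.AlgebraTensorModule.rid S S SP).restrictScalars A)
  exact FlatLocal.isEtaleAt_of_flatAt P

end Groth.Agent.Lef23.Kosz
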