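import Groth.Agent.Lef23.Kosz.Split
import Mathlib.RingTheory.Filtration

/-!
# The acyclic part of the Čech–Koszul complex

By Artin–Rees, for large `n` the subcomplex with coefficients in `J ^ (n - #T)` has no cohomology.
-/

set_option autoImplicit false
set_option linter.unusedSectionVars false

universe u

open Finset

namespace Groth.Agent.Lef23.Kosz

variable {S : Type u} [CommRing S] {d : ℕ}

theorem smul_top_eq_restrictScalars {C : Type u} [CommRing C] [Algebra S C] {N : Type u} [AddCommGroup N]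
    [Module C N] [Module S N] [IsScalarTower S C N] (I : Ideal S) :
    (I • ⊤ : Submodule S N) = ((I.map (algebraMap S C)) • (⊤ : Submodule C N)).restrictScalars S := by
  refine le_antisymm (Submodule.smul_le.2 fun a ha x _ => ?_) fun y hy => ?_
  · rw [Submodule.restrictScalars_mem, ← algebraMap_smul C a x]
    exact Submodule.smul_mem_smul (Ideal.mem_map_of_mem _ ha) trivial
  · refine Submodule.smul_induction_on (Submodule.restrictScalars_mem S _ y |>.1 hy) (fun c hc x _ => ?_)
      fun a b ha hb => add_mem ha hb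
    suffices ∀ x : N, c • x ∈ (I • ⊤ : Submodule S N) from this x
    refine Submodule.span_induction (fun b hb x => ?_) (fun x => by rw [zero_smul]; exact zero_mem _)
      (fun a b _ _ ha hb x => by rw [add_smul]; exact add_mem (ha x) (hb x))
      (fun a b _ hb x => by rw [smul_eq_mul, mul_comm, mul_smul]; exact hb (a • x)) hc
    obtain ⟨b', hb', rfl⟩ := hb
    rw [algebraMap_smul]
    exact Submodule.smul_mem_smul hb' trivial

section column

variable {C : Type u} [CommRing C] {N : Type u} [AddCommGroup N] [Module C N]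

open Classical in
/-- Extension by zero. -/
noncomputable def ext0 (r q : ℕ) : (↥((range r).powersetCard q) → N) →ₗ[C] (Finset ℕ → N) where
  toFun y T := if h : T ∈ (range r).powersetCard q then y ⟨T, h⟩ else 0
  map_add' a b := funext fun T => by simp only [Pi.add_apply]; split_ifs <;> simp
  map_smul' c a := funext fun T => by simp only [Pi.smul_apply, RingHom.id_apply]; split_ifs <;> simp

/-- Artin–Rees for a column. -/
theorem column_AR_aux [IsNoetherianRing C] [Module.Finite C N] (t : ℕ → C) (r : ℕ) :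
    ∃ n₀ : ℕ, ∀ n, n₀ ≤ n → ∀ (q : ℕ) (z : Finset ℕ → N),
      (∀ T, z T ≠ 0 → T ⊆ range r ∧ T.card = q) →
      (∀ T, z T ∈ (Ideal.span (t '' ↑(range r)) ^ (n - q) • ⊤ : Submodule C N)) →
      dK t r z = 0 →
      ∃ w : Finset ℕ → N, (∀ T, w T ≠ 0 → T ⊆ range r ∧ T.card = q + 1) ∧
        (∀ T, w T ∈ (Ideal.span (t '' ↑(range r)) ^ (n - q - 1) • ⊤ : Submodule C N)) ∧ dK t r w = z := by
  classical
  let J := Ideal.span (t '' ↑(range r))
  choose k hk using fun q => Ideal.exists_pow_inf_eq_pow_smul J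
    (LinearMap.ker ((dK (N := N) t r).comp (ext0 r q)))
  refine ⟨(range (r + 1)).sup fun q => k q + q + 1, fun n hn q z hz hJz hdz => ?_⟩
  by_cases hq : q ≤ r
  swap
  · refine ⟨0, fun T h => absurd rfl h, fun T => zero_mem _, ?_⟩
    rw [map_zero]
    funext T
    refine (by_contra fun hne => hq ?_)
    obtain ⟨h1, h2⟩ := hz T (Ne.symm hne)
    exact h2 ▸ (card_le_card h1).trans_eq (card_range r)
  have hkn : k q + q + 1 ≤ n := le_trans (le_sup (f := fun q => k q + q + 1) (mem_range.2 (Nat.lt_succ_of_le hq))) hn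
  let K := LinearMap.ker ((dK (N := N) t r).comp (ext0 r q))
  let y : ↥((range r).powersetCard q) → N := fun T => z T.1
  have hzy : ext0 (C := C) r q y = z := funext fun T => by
    show (if h : T ∈ (range r).powersetCard q then z T else 0) = z T
    split_ifs with h
    · rfl
    · exact (by_contra fun hne => h (mem_powersetCard.2 (hz T (Ne.symm hne))))
  have hy : y ∈ J ^ (n - q) • ⊤ ⊓ K := by
    refine ⟨?_, ?_⟩
    · rw [← univ_sum_single y]
      refine sum_mem fun T _ => ?_
      suffices ∀ v ∈ (J ^ (n - q) • ⊤ : Submodule C N), Pi.single T v ∈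
          (J ^ (n - q) • ⊤ : Submodule C (↥((range r).powersetCard q) → N)) from this _ (hJz T.1)
      intro v hv
      have := Submodule.mem_map_of_mem (f := LinearMap.single C (fun _ : ↥((range r).powersetCard q) => N) T) hv
      rw [Submodule.map_smul''] at this
      exact Submodule.smul_mono le_rfl le_top this
    · show dK t r (ext0 (C := C) r q y) = 0
      rw [hzy]; exact hdz
  rw [hk q (n - q) (by omega), show n - q - k q = (n - q - k q - 1) + 1 by omega, pow_succ', Submodule.mul_smul] at hy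
  let G : Submodule C (↥((range r).powersetCard q) → N) :=
    { carrier := {y | ∃ w : Finset ℕ → N, (∀ T, w T ≠ 0 → T ⊆ range r ∧ T.card = q + 1) ∧
        (∀ T, w T ∈ (J ^ (n - q - 1) • ⊤ : Submodule C N)) ∧ dK t r w = ext0 (C := C) r q y}
      add_mem' := by
        rintro a b ⟨w, h1, h2, h3⟩ ⟨w', h1', h2', h3'⟩
        refine ⟨w + w', fun T hT => ?_, fun T => add_mem (h2 T) (h2' T), by rw [map_add, h3, h3', map_add]⟩
        by_cases h : w T = 0
        · exact h1' T (by simpa [h] using hT)
        · exact h1 T h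
      zero_mem' := ⟨0, fun T h => absurd rfl h, fun T => zero_mem _, by rw [map_zero, map_zero]⟩
      smul_mem' := by
        rintro c a ⟨w, h1, h2, h3⟩
        refine ⟨c • w, fun T hT => h1 T fun h => hT (by simp [h]), fun T => Submodule.smul_mem _ _ (h2 T),
          by rw [map_smul, h3, map_smul]⟩ }
  have hG : J • (J ^ (n - q - k q - 1) • (J ^ k q • ⊤ ⊓ K)) ≤ G := by
    refine Submodule.smul_le.2 fun c hc x hx => ?_
    have hxK : x ∈ K := (Submodule.smul_le_right.trans inf_le_right) hx
    have hxJ : x ∈ (J ^ (n - q - 1) • ⊤ : Submodule C (↥((range r).powersetCard q) → N)) := by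
      have h := Submodule.smul_mono le_rfl inf_le_left hx
      rw [← Submodule.mul_smul, ← pow_add, show n - q - k q - 1 + k q = n - q - 1 by omega] at h
      exact h
    refine Submodule.span_induction (fun b hb => ?_) (by rw [zero_smul]; exact zero_mem G)
      (fun a b _ _ ha hb => by rw [add_smul]; exact add_mem ha hb)
      (fun a b _ hb => by rw [smul_eq_mul, mul_smul]; exact G.smul_mem a hb) hc
    obtain ⟨l, hl, rfl⟩ := hb
    refine ⟨hK (S := C) l (ext0 (C := C) r q x), fun T hT => ?_, fun T => ?_, ?_⟩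
    · rw [hK_apply] at hT
      split_ifs at hT with hlT
      · have h' : T.erase l ∈ (range r).powersetCard q := by
          by_contra h'
          refine hT ?_
          show sg l (T.erase l) • (if h : _ then x ⟨_, h⟩ else (0 : N)) = _
          rw [dif_neg h', smul_zero]
        obtain ⟨h1, h2⟩ := mem_powersetCard.1 h'
        refine ⟨fun a ha => ?_, by have := card_erase_add_one hlT; omega⟩
        by_cases hal : a = l
        · exact hal ▸ hl
        · exact h1 (mem_erase.2 ⟨hal, ha⟩)
      · exact absurd rfl hT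
    · rw [hK_apply]
      split_ifs
      · refine zsmul_mem ?_ _
        show (if h : _ then x ⟨_, h⟩ else (0 : N)) ∈ _
        split_ifs with h'
        · have := Submodule.mem_map_of_mem (f := LinearMap.proj (R := C) (φ := fun _ => N)
            (⟨_, h'⟩ : ↥((range r).powersetCard q))) hxJ
          rw [Submodule.map_smul''] at this
          exact Submodule.smul_mono le_rfl le_top this
        · exact zero_mem _
      · exact zero_mem _
    · have := dK_hK t r (mem_range.1 hl) (ext0 (C := C) r q x)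
      rw [show dK t r (ext0 (C := C) r q x) = 0 from hxK, map_zero, add_zero] at this
      rw [this, map_smul]
  obtain ⟨w, h1, h2, h3⟩ := hG hy
  exact ⟨w, h1, h2, h3.trans hzy⟩

/-- Artin–Rees for a column, over the base ring. -/
theorem column_AR [Algebra S C] [Module S N] [IsScalarTower S C N] [IsNoetherianRing C] [Module.Finite C N]
    (t : ℕ → S) (r : ℕ) {J : Ideal S} (hJ : J = Ideal.span (t '' ↑(range r))) :
    ∃ n₀ : ℕ, ∀ n, n₀ ≤ n → ∀ (q : ℕ) (z : Finset ℕ → N),
      (∀ T, z T ≠ 0 → T ⊆ range r ∧ T.card = q) → (∀ T, z T ∈ (J ^ (n - q) • ⊤ : Submodule S N)) →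
      dK t r z = 0 →
      ∃ w : Finset ℕ → N, (∀ T, w T ≠ 0 → T ⊆ range r ∧ T.card = q + 1) ∧
        (∀ T, w T ∈ (J ^ (n - q - 1) • ⊤ : Submodule S N)) ∧ dK t r w = z := by
  obtain ⟨n₀, h⟩ := column_AR_aux (C := C) (N := N) (fun k => algebraMap S C (t k)) r
  have hI : ∀ a, (J ^ a • ⊤ : Submodule S N) =
      ((Ideal.span ((fun k => algebraMap S C (t k)) '' ↑(range r))) ^ a • (⊤ : Submodule C N)).restrictScalars S :=
    fun a => by
      rw [smul_top_eq_restrictScalars (C := C), Ideal.map_pow, hJ, Ideal.map_span, Set.image_image]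
  have hd : ∀ w : Finset ℕ → N, dK (fun k => algebraMap S C (t k)) r w = dK t r w := fun w => funext fun T => by
    simp only [dK_apply, algebraMap_smul]
  refine ⟨n₀, fun n hn q z hz hzJ hdz => ?_⟩
  obtain ⟨w, h1, h2, h3⟩ := h n hn q z hz (fun T => by have := hzJ T; rwa [hI] at this) (by rw [hd]; exact hdz)
  exact ⟨w, h1, fun T => by rw [hI]; exact h2 T, by rw [← hd]; exact h3⟩

end column

variable (P : Sys S d) (t : ℕ → S) (m : ℕ)

/-- **Staircase**: a family of exact columns gives exact cochains. -/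
theorem exists_of_columns (Fc : ∀ s, Submodule S (Finset ℕ → P.B s))
    (hD : ∀ z : X P, (∀ s, z s ∈ Fc s) → ∀ s, D P t m z s ∈ Fc s)
    (hcol : ∀ s : Finset (Fin d), s.Nonempty → ∀ (q : ℕ) (z : Finset ℕ → P.B s),
      (∀ T, z T ≠ 0 → T ⊆ range m ∧ T.card = q) → z ∈ Fc s → dK t m z = 0 →
      ∃ w : Finset ℕ → P.B s, (∀ T, w T ≠ 0 → T ⊆ range m ∧ T.card = q + 1) ∧ w ∈ Fc s ∧ dK t m w = z)
    {i : ℤ} {z : X P} (hz : z ∈ Zc P t m i) (hF : ∀ s, z s ∈ Fc s) :
    ∃ w ∈ Deg P m (i - 1), (∀ s, w s ∈ Fc s) ∧ D P t m w = z := by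
  classical
  suffices ∀ e p : ℕ, d + 1 ≤ p + e → ∀ z ∈ Zc P t m i, (∀ s, z s ∈ Fc s) → (∀ s, s.card < p → z s = 0) →
      ∃ w ∈ Deg P m (i - 1), (∀ s, w s ∈ Fc s) ∧ D P t m w = z from
    this (d + 1) 0 (by omega) z hz hF fun s h => absurd h (Nat.not_lt_zero _)
  intro e
  induction e with
  | zero =>
    intro p hp z _ _ h0
    refine ⟨0, zero_mem _, fun s => zero_mem _, ?_⟩
    rw [map_zero]
    funext s
    rw [h0 s (lt_of_le_of_lt (card_le_univ s) (by rw [Fintype.card_fin]; omega))]
    rfl
  | succ e ih =>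
    intro p hp z hz hF h0
    have hsol : ∀ s, s.card = p → ∃ w : Finset ℕ → P.B s,
        (∀ T, w T ≠ 0 → s.Nonempty ∧ T ⊆ range m ∧ (s.card : ℤ) - 1 - T.card = i - 1) ∧ w ∈ Fc s ∧
          ((-1 : ℤ) ^ p) • dK t m w = z s := by
      intro s hs
      by_cases hz0 : z s = 0
      · exact ⟨0, fun T h => absurd rfl h, zero_mem _, by rw [map_zero, smul_zero, hz0]⟩
      obtain ⟨T₀, hT₀⟩ := Function.ne_iff.1 hz0
      obtain ⟨hne, -, hdeg⟩ := mem_Deg.1 hz.1 s T₀ hT₀
      have hker : dK t m (z s) = 0 := funext fun T => by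
        have h := congrFun (congrFun (show D P t m z = 0 from hz.2) s) T
        rw [D_apply, dC_apply, sum_eq_zero fun j hj => by
          rw [h0 _ (by have := card_erase_add_one hj; omega)]; simp] at h
        simp only [zero_add, Pi.zero_apply] at h
        have h' := congrArg (fun v => ((-1 : ℤ) ^ s.card) • v) h
        simp only [smul_smul, ← mul_pow, neg_one_mul, neg_neg, one_pow, one_smul, smul_zero] at h'
        exact h'
      obtain ⟨w, h1, h2, h3⟩ := hcol s hne T₀.card (z s) (fun T hT => by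
        obtain ⟨_, a, b⟩ := mem_Deg.1 hz.1 s T hT; exact ⟨a, by omega⟩) (hF s) hker
      refine ⟨((-1 : ℤ) ^ p) • w, fun T hT => ?_, zsmul_mem h2 _, ?_⟩
      · obtain ⟨a, b⟩ := h1 T fun h => hT (by simp [h])
        exact ⟨hne, a, by rw [b]; push_cast; omega⟩
      · rw [map_zsmul, h3, smul_smul, ← mul_pow]; simp
    choose w hw1 hw2 hw3 using hsol
    let W : X P := fun s => if h : s.card = p then w s h else 0
    have hW : W ∈ Deg P m (i - 1) := mem_Deg.2 fun s T hne => by
      by_cases h : s.card = p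
      · simp only [W, dif_pos h] at hne; exact hw1 s h T hne
      · simp [W, dif_neg h] at hne
    have hWF : ∀ s, W s ∈ Fc s := fun s => by
      by_cases h : s.card = p
      · simp only [W, dif_pos h]; exact hw2 s h
      · simp only [W, dif_neg h]; exact zero_mem _
    obtain ⟨w', hw', hw'F, hDw'⟩ := ih (p + 1) (by omega) (z - D P t m W)
      (sub_mem hz (Bd_le P t m i (D_mem_Bd P t hW))) (fun s => sub_mem (hF s) (hD W hWF s)) fun s hs => by
      funext T
      rw [Pi.sub_apply, Pi.sub_apply, D_apply, dC_apply, sum_eq_zero fun j hj => by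
        have : (s.erase j).card ≠ p := by have := card_erase_add_one hj; omega
        simp [W, dif_neg this], zero_add]
      by_cases h : s.card = p
      · simp only [W, dif_pos h]
        rw [← hw3 s h, Pi.smul_apply, h, Pi.zero_apply, sub_self]
      · rw [h0 s (by omega)]; simp [W, dif_neg h]
    exact ⟨W + w', add_mem hW hw', fun s => add_mem (hWF s) (hw'F s), by rw [map_add, hDw']; abel⟩

variable (J : Ideal S) (r n : ℕ)

/-- The filtration. -/
def Fil : Submodule S (X P) :=
  Submodule.pi Set.univ fun s : Finset (Fin d) =>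
    Submodule.pi Set.univ fun T : Finset ℕ => (J ^ (n - (T.filter (· < r)).card) • ⊤ : Submodule S (P.B s))

variable {P J r n} in
theorem mem_Fil {z : X P} : z ∈ Fil P J r n ↔
    ∀ s T, z s T ∈ (J ^ (n - (T.filter (· < r)).card) • ⊤ : Submodule S (P.B s)) :=
  ⟨fun h s T => h s trivial T trivial, fun h s _ T _ => h s T⟩

theorem res_mem_smul {s s' : Finset (Fin d)} (h : s ⊆ s') (I : Ideal S) {x : P.B s}
    (hx : x ∈ (I • ⊤ : Submodule S (P.B s))) : P.res h x ∈ (I • ⊤ : Submodule S (P.B s')) := by
  have := Submodule.mem_map_of_mem (f := P.res h) hx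
  rw [Submodule.map_smul''] at this
  exact Submodule.smul_mono le_rfl le_top this

theorem D_mem_Fil (htJ : ∀ k < r, t k ∈ J) {z : X P} (hz : z ∈ Fil P J r n) : D P t m z ∈ Fil P J r n := by
  rw [mem_Fil] at hz ⊢
  intro s T
  rw [D_apply, dC_apply, dK_apply]
  refine add_mem (sum_mem fun j hj => zsmul_mem (res_mem_smul P _ _ (hz _ T)) _) (zsmul_mem
    (sum_mem fun k hk => zsmul_mem ?_ _) _)
  have hkT := (mem_sdiff.1 hk).2
  have h := hz s (insert k T)
  rw [filter_insert] at h
  split_ifs at h with hkr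
  · rw [card_insert_of_notMem (fun hh => hkT (mem_filter.1 hh).1)] at h
    have := Submodule.smul_mem_smul (htJ k hkr) h
    rw [← Submodule.mul_smul, ← pow_succ'] at this
    exact Submodule.smul_mono_left (Ideal.pow_le_pow_right (by omega)) this
  · exact Submodule.smul_mem _ _ h

/-- Artin–Rees columns. -/
def ColAR (P : Sys S d) (t : ℕ → S) (r : ℕ) (J : Ideal S) (n : ℕ) : Prop :=
  ∀ s : Finset (Fin d), s.Nonempty → ∀ (q : ℕ) (z : Finset ℕ → P.B s),
    (∀ T, z T ≠ 0 → T ⊆ range r ∧ T.card = q) → (∀ T, z T ∈ (J ^ (n - q) • ⊤ : Submodule S (P.B s))) →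
    dK t r z = 0 →
    ∃ w : Finset ℕ → P.B s, (∀ T, w T ≠ 0 → T ⊆ range r ∧ T.card = q + 1) ∧
      (∀ T, w T ∈ (J ^ (n - q - 1) • ⊤ : Submodule S (P.B s))) ∧ dK t r w = z

/-- The filtered part is acyclic. -/
theorem exists_of_mem_Fil (htJ : ∀ k < r, t k ∈ J) (hAR : ColAR P t r J n) :
    ∀ m, r ≤ m → ∀ (i : ℤ) (z : X P), z ∈ Zc P t m i → z ∈ Fil P J r n →
      ∃ w ∈ Deg P m (i - 1), w ∈ Fil P J r n ∧ D P t m w = z := by
  intro m hm
  induction m, hm using Nat.le_induction with
  | base =>
    intro i z hz hF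
    let Fc : ∀ s, Submodule S (Finset ℕ → P.B s) := fun s =>
      Submodule.pi Set.univ fun T => (J ^ (n - (T.filter (· < r)).card) • ⊤ : Submodule S (P.B s))
    have hmem : ∀ {v : X P}, (∀ s, v s ∈ Fc s) ↔ v ∈ Fil P J r n := fun {v} =>
      ⟨fun h => mem_Fil.2 fun s T => h s T trivial, fun h s T _ => mem_Fil.1 h s T⟩
    have hfilter : ∀ {T : Finset ℕ}, T ⊆ range r → T.filter (· < r) = T := fun hT =>
      filter_true_of_mem fun x hx => mem_range.1 (hT hx)
    obtain ⟨w, hw, hwF, hDw⟩ := exists_of_columns P t r Fc (fun v hv => hmem.2 (D_mem_Fil P t r J r n htJ (hmem.1 hv)))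
      (fun s hs q z hz hzF hdz => by
        obtain ⟨w, h1, h2, h3⟩ := hAR s hs q z hz (fun T => by
          by_cases h : z T = 0
          · rw [h]; exact zero_mem _
          · have : z T ∈ (J ^ (n - (T.filter (· < r)).card) • ⊤ : Submodule S (P.B s)) := hzF T trivial
            rw [hfilter (hz T h).1, (hz T h).2] at this; exact this) hdz
        refine ⟨w, h1, fun T _ => ?_, h3⟩
        by_cases h : w T = 0
        · rw [h]; exact zero_mem _
        · have := h2 T
          show w T ∈ (J ^ (n - (T.filter (· < r)).card) • ⊤ : Submodule S (P.B s))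
          rwa [hfilter (h1 T h).1, (h1 T h).2, ← Nat.sub_sub]) hz (hmem.2 hF)
    exact ⟨w, hw, hmem.1 hwF, hDw⟩
  | succ m hm ih =>
    intro i z hz hF
    have hpr : ∀ {v : X P}, v ∈ Fil P J r n → pr P m v ∈ Fil P J r n := fun {v} hv => mem_Fil.2 fun s T => by
      replace hv := mem_Fil.1 hv
      rw [pr_apply]
      split_ifs with hT
      · exact zero_mem _
      · have := hv s (insert m T)
        rwa [filter_insert, if_neg (by omega)] at this
    have hem : ∀ {v : X P}, v ∈ Fil P J r n → em P m v ∈ Fil P J r n := fun {v} hv => mem_Fil.2 fun s T => by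
      replace hv := mem_Fil.1 hv
      rw [em_apply]
      split_ifs with hT
      · have := hv s (T.erase m)
        rwa [filter_erase, erase_eq_of_notMem fun h => by have := (mem_filter.1 h).2; omega] at this
      · exact zero_mem _
    obtain ⟨g, hg, hgF, hDg⟩ := ih (i + 1) (pr P m z) (pr_mem_Zc P t hz) (hpr hF)
    rw [add_sub_cancel_right] at hg
    have hem' : em P m g ∈ Deg P (m + 1) (i - 1) := em_mem P (by rwa [sub_add_cancel])
    have hlow : z - D P t (m + 1) (em P m g) ∈ Deg P m i := by
      rw [D_em P t hg, hDg, ← sub_sub]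
      exact sub_mem (low_mem P hz.1) (zsmul_mem (Submodule.smul_mem _ _ hg) _)
    obtain ⟨v, hv, hvF, hDv⟩ := ih i _ (show z - D P t (m + 1) (em P m g) ∈ Zc P t m i from ⟨hlow, by
      show D P t m _ = 0
      rw [← D_succ_of_mem P t hlow, map_sub, show D P t (m + 1) z = 0 from hz.2, D_D, sub_self]⟩)
      (sub_mem hF (D_mem_Fil P t (m + 1) J r n htJ (hem hgF)))
    refine ⟨v + em P m g, add_mem (Deg_mono (Nat.le_succ m) _ hv) hem', add_mem hvF (hem hgF), ?_⟩
    rw [map_add, D_succ_of_mem P t hv, hDv, sub_add_cancel]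

end Groth.Agent.Lef23.Kosz
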