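import Groth.Agent.FEtFF.FormalLimit
import Groth.Agent.Lef23.Kosz.Filtr
import Mathlib.RingTheory.Flat.EquationalCriterion
import Mathlib.RingTheory.Etale.Basic
import Mathlib.RingTheory.RingHom.Etale
import Mathlib.RingTheory.Smooth.Flat

/-!
# A localised algebra recognised by its flat levels
-/

set_option autoImplicit false
set_option linter.style.haveILetI false
universe u

open Finset
open Groth.Agent.FEtFF Groth.Agent.FEtFF.Cech Groth.Agent.FEtFF.FormalLimit

namespace Groth.Agent.Lef23.Kosz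

variable {A : Type u} [CommRing A]

section lift

variable {M E F : Type u} [CommRing M] [Algebra A M] [CommRing E] [Algebra A E] [CommRing F] [Algebra A F]

/-- Extending a map to the localisation. -/
noncomputable def liftLoc (f : M →ₐ[A] E) (c : A) (hu : IsUnit (algebraMap A E c)) : Loc M c →ₐ[A] E :=
  IsLocalization.Away.liftAlgHom (algebraMap A M c) (f := f) (by rw [f.commutes]; exact hu)

theorem liftLoc_algebraMap (f : M →ₐ[A] E) (c : A) (hu : IsUnit (algebraMap A E c)) (w : M) :
    liftLoc f c hu (algebraMap M (Loc M c) w) = f w := by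
  simp [liftLoc]

theorem comp_liftLoc (f : M →ₐ[A] E) (g : M →ₐ[A] F) (ψ : E →ₐ[A] F) (c : A) (hu : IsUnit (algebraMap A E c))
    (hu' : IsUnit (algebraMap A F c)) (h : ∀ w, ψ (f w) = g w) (y : Loc M c) :
    ψ (liftLoc f c hu y) = liftLoc g c hu' y :=
  AlgHom.congr_fun (algHom_ext_loc (a := ψ.comp (liftLoc f c hu)) (b := liftLoc g c hu') fun w => by
    rw [AlgHom.comp_apply, liftLoc_algebraMap, liftLoc_algebraMap, h]) y

theorem liftLoc_surjective (f : M →ₐ[A] E) (c : A) (hu : IsUnit (algebraMap A E c))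
    (h : ∀ y : E, ∃ (k : ℕ) (w : M), f w = c ^ k • y) : Function.Surjective (liftLoc f c hu) := fun y => by
  obtain ⟨k, w, hw⟩ := h y
  have hu' : IsUnit (algebraMap A (Loc M c) (c ^ k)) := by
    rw [map_pow, IsScalarTower.algebraMap_apply A M (Loc M c)]
    exact (IsLocalization.Away.algebraMap_isUnit _).pow k
  obtain ⟨v, hv⟩ := hu'.exists_left_inv
  refine ⟨v * algebraMap M _ w, ?_⟩
  have h2 := congrArg (liftLoc f c hu) hv
  rw [map_mul, map_one, AlgHom.commutes] at h2
  rw [map_mul, liftLoc_algebraMap, hw, Algebra.smul_def, ← mul_assoc, h2, one_mul]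

theorem liftLoc_ker (f : M →ₐ[A] E) (c : A) (hu : IsUnit (algebraMap A E c)) (I : Ideal A)
    (h : ∀ w : M, f w = 0 → ∃ k : ℕ, c ^ k • w ∈ (I • ⊤ : Submodule A M)) :
    ∀ y, liftLoc f c hu y = 0 → y ∈ I.map (algebraMap A (Loc M c)) := fun y hy => by
  obtain ⟨⟨w, ⟨_, k, rfl⟩⟩, hwk⟩ := IsLocalization.surj (Submonoid.powers (algebraMap A M c)) y
  have h1 := congrArg (liftLoc f c hu) hwk
  rw [map_mul, hy, zero_mul, liftLoc_algebraMap] at h1
  obtain ⟨e, he⟩ := h w h1.symm
  rw [smul_top_eq_restrictScalars (C := M), smul_eq_mul, Ideal.mul_top, Submodule.restrictScalars_mem] at he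
  have h3 := Ideal.mem_map_of_mem (algebraMap M (Loc M c)) he
  rw [Ideal.map_map, ← IsScalarTower.algebraMap_eq A M (Loc M c), Algebra.smul_def, map_mul,
    ← IsScalarTower.algebraMap_apply A M (Loc M c)] at h3
  have hu' : IsUnit (algebraMap A (Loc M c) (c ^ e)) := by
    rw [map_pow, IsScalarTower.algebraMap_apply A M (Loc M c)]
    exact (IsLocalization.Away.algebraMap_isUnit _).pow e
  rw [Ideal.unit_mul_mem_iff_mem _ hu', ← hwk] at h3
  rwa [Ideal.mul_unit_mem_iff_mem _ (IsLocalization.map_units (Loc M c) _)] at h3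

end lift

set_option maxHeartbeats 800000 in
/-- Flat levels are the reductions. -/
theorem surj_ker_levels {E : Type u} [CommRing E] [Algebra A E] (L : ℕ → Type u) [∀ n, CommRing (L n)]
    [∀ n, Algebra A (L n)] (I : Ideal A) (hfg : I.FG) (ψ : ∀ n, E →ₐ[A] L n) (tr : ∀ n, L (n + 1) →ₐ[A] L n)
    (hψ : ∀ n y, tr n (ψ (n + 1) y) = ψ n y)
    (hker : ∀ n y, tr n y = 0 → y ∈ (I ^ (n + 1) • ⊤ : Submodule A (L (n + 1))))
    (hz : ∀ n, ∀ a ∈ I ^ (n + 1), ∀ y : L n, a • y = 0)
    (hflat : ∀ n, ∃ φ : A ⧸ I ^ (n + 1) →+* L n, φ.comp (Ideal.Quotient.mk _) = algebraMap A _ ∧ φ.Etale)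
    (h0s : Function.Surjective (ψ 0)) (h0k : ∀ y, ψ 0 y = 0 → y ∈ I.map (algebraMap A E)) :
    ∀ n, Function.Surjective (ψ n) ∧ ∀ y, ψ n y = 0 → y ∈ (I ^ (n + 1)).map (algebraMap A E) := by
  classical
  obtain ⟨r, tf, hspan⟩ := Submodule.fg_iff_exists_fin_generating_family.1 hfg
  intro n
  induction n with
  | zero => exact ⟨h0s, fun y hy => by rw [zero_add, pow_one]; exact h0k y hy⟩
  | succ n ih =>
    obtain ⟨ihs, -⟩ := ih
    have hsurj : Function.Surjective (ψ (n + 1)) := fun y => by
      obtain ⟨p, hp⟩ := ihs (tr n y)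
      have h1 := hker n (y - ψ (n + 1) p) (by rw [map_sub, hψ, hp, sub_self])
      have h2 : (I ^ (n + 1) • ⊤ : Submodule A (L (n + 1))) ≤
          LinearMap.range (ψ (n + 1)).toLinearMap := Submodule.smul_le.2 fun a ha z _ => by
        obtain ⟨q, hq⟩ := ihs (tr n z)
        have h3 := Submodule.smul_mem_smul ha (hker n (z - ψ (n + 1) q) (by rw [map_sub, hψ, hq, sub_self]))
        rw [← Submodule.mul_smul, ← pow_add] at h3
        have h4 : (I ^ (n + 1 + (n + 1)) • ⊤ : Submodule A (L (n + 1))) ≤ ⊥ :=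
          Submodule.smul_le.2 fun b hb y' _ =>
            (Submodule.mem_bot A).2 (hz (n + 1) b (Ideal.pow_le_pow_right (by omega) hb) y')
        have h5 := (Submodule.mem_bot A).1 (h4 h3)
        rw [smul_sub, sub_eq_zero] at h5
        refine ⟨a • q, ?_⟩
        show ψ (n + 1) (a • q) = a • z
        rw [map_smul]; exact h5.symm
      obtain ⟨q, hq⟩ := h2 h1
      exact ⟨p + q, by rw [map_add, show ψ (n + 1) q = _ from hq]; abel⟩
    refine ⟨hsurj, fun y hy => ?_⟩
    let R := A ⧸ I ^ (n + 1 + 1)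
    obtain ⟨φ, hφ, het⟩ := hflat (n + 1)
    letI : Algebra R (L (n + 1)) := φ.toAlgebra
    haveI : Algebra.Etale R (L (n + 1)) := RingHom.etale_algebraMap.1 het
    haveI : IsScalarTower A R (L (n + 1)) := IsScalarTower.of_algebraMap_eq fun a => (RingHom.congr_fun hφ a).symm
    let Q : Ideal E := (I ^ (n + 1 + 1)).map (algebraMap A E)
    let Kk : Ideal E := RingHom.ker (ψ (n + 1)).toRingHom
    have hQ : ∀ a ∈ I ^ (n + 1 + 1), ∀ q : E, a • q ∈ Q := fun a ha q => by
      rw [Algebra.smul_def]; exact Ideal.mul_mem_right _ _ (Ideal.mem_map_of_mem _ ha)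
    have hstep : ∀ k ∈ Kk, k ∈ I.map (algebraMap A E) * Kk ⊔ Q := fun k hk => by
      have h1 : ψ 0 k = 0 := by
        have hdown : ∀ m, ψ m k = 0 → ψ 0 k = 0 := fun m => by
          induction m with
          | zero => exact id
          | succ m ihm => exact fun h => ihm (by rw [← hψ, h, map_zero])
        exact hdown _ hk
      have h2 := h0k k h1
      rw [← hspan, show Submodule.span A (Set.range tf) = Ideal.span (Set.range tf) from rfl, Ideal.map_span,
        ← Set.range_comp, Ideal.mem_span_range_iff_exists_fun] at h2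
      obtain ⟨q, hq⟩ := h2
      have hrel : ∑ l, Ideal.Quotient.mk (I ^ (n + 1 + 1)) (tf l) • ψ (n + 1) (q l) = 0 := by
        have h3 : ψ (n + 1) k = 0 := hk
        rw [← hq, map_sum] at h3
        rw [← h3]
        refine sum_congr rfl fun l _ => ?_
        rw [← Ideal.Quotient.algebraMap_eq, algebraMap_smul, Algebra.smul_def, map_mul, Function.comp_apply,
          AlgHom.commutes, mul_comm]
      haveI : Module.Flat R (L (n + 1)) := inferInstance
      obtain ⟨κ, a, yy, hy', ha⟩ := Module.Flat.isTrivialRelation_of_sum_smul_eq_zero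
        (R := R) (M := L (n + 1)) (f := fun l => Ideal.Quotient.mk (I ^ (n + 1 + 1)) (tf l))
        (x := fun l => ψ (n + 1) (q l)) hrel
      choose aa haa using fun l p => Ideal.Quotient.mk_surjective (a l p)
      choose qq hqq using fun p => hsurj (yy p)
      have hmem : ∀ l, q l - ∑ p, aa l p • qq p ∈ Kk := fun l => by
        show ψ (n + 1) (q l - ∑ p, aa l p • qq p) = 0
        rw [map_sub, map_sum, show ψ (n + 1) (q l) = _ from hy' l, sub_eq_zero]
        refine sum_congr rfl fun p _ => ?_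
        rw [map_smul, hqq, ← haa l p]
        exact algebraMap_smul R (aa l p) (yy p)
      have e1 : k = ∑ l, algebraMap A E (tf l) * (q l - ∑ p, aa l p • qq p) + ∑ p, (∑ l, tf l * aa l p) • qq p := by
        rw [← hq]
        simp only [mul_sub, sum_sub_distrib, Finset.mul_sum, Finset.sum_smul, Function.comp_apply]
        rw [Finset.sum_comm (f := fun p l => (tf l * aa l p) • qq p)]
        simp only [Algebra.smul_def]
        simp only [mul_comm (q _), map_mul, mul_assoc]
        abel
      rw [e1]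
      refine add_mem (Submodule.mem_sup_left (sum_mem fun l _ => Ideal.mul_mem_mul
        (Ideal.mem_map_of_mem _ (hspan.le (Submodule.subset_span ⟨l, rfl⟩))) (hmem l)))
        (Submodule.mem_sup_right (sum_mem fun p _ => hQ _ ?_ _))
      rw [← Ideal.Quotient.eq_zero_iff_mem, map_sum, ← ha p]
      refine sum_congr rfl fun l _ => ?_
      rw [map_mul, haa, mul_comm]
    have hiter : ∀ m, Kk ≤ (I.map (algebraMap A E)) ^ m * Kk ⊔ Q := fun m => by
      induction m with
      | zero => rw [pow_zero, Ideal.one_eq_top, Ideal.top_mul]; exact le_sup_left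
      | succ m ihm =>
        refine ihm.trans (sup_le ?_ le_sup_right)
        calc (I.map (algebraMap A E)) ^ m * Kk
            ≤ (I.map (algebraMap A E)) ^ m * (I.map (algebraMap A E) * Kk ⊔ Q) := Ideal.mul_mono le_rfl hstep
          _ ≤ _ := by
            rw [Ideal.mul_sup, ← mul_assoc, ← pow_succ]
            exact sup_le_sup le_rfl Ideal.mul_le_right
    refine (show Kk ≤ Q from (hiter (n + 1 + 1)).trans (sup_le ?_ le_rfl)) hy
    rw [← Ideal.map_pow]
    exact Ideal.mul_le_left

end Groth.Agent.Lef23.Kosz
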