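import Groth.Agent.Lef23.Kosz.Level
import Groth.Agent.Lef23.Kosz.Ext
import Groth.Agent.Lef23.Kosz.Levels

/-!
# The finite algebra of compatible formal sections
-/

set_option autoImplicit false
set_option linter.style.haveILetI false
set_option linter.unusedSectionVars false
set_option backward.isDefEq.respectTransparency.types false
set_option backward.isDefEq.respectTransparency false
universe u

open CategoryTheory CategoryTheory.Limits AlgebraicGeometry Finset
open Groth.Agent.FEtFF Groth.Agent.FEtFF.Cech Groth.Agent.FEtFF.FormalLimit Groth.Agent.FEtFF.Hypersurface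

namespace Groth.Agent.Lef23.Kosz.Tower

variable {A : Type u} [CommRing A] [IsNoetherianRing A] [IsLocalRing A] (I₀ : Ideal A)
  (V₀ : FEt.Cat (T I₀ 0)) {d : ℕ} (x : Fin d → A) (hxm : ∀ i, x i ∈ IsLocalRing.maximalIdeal A)

theorem left_sub (i j : Fin d) : ({i} : Finset (Fin d)) ⊆ {i, j} := singleton_subset_iff.2 (mem_insert_self i {j})

theorem right_sub (i j : Fin d) : ({j} : Finset (Fin d)) ⊆ {i, j} :=
  singleton_subset_iff.2 (mem_insert_of_mem (mem_singleton_self j))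

/-- Compatible families of completed sections. -/
noncomputable def Glob : Subalgebra A (∀ i : Fin d, Lim I₀ V₀ x {i}) where
  carrier := {w | ∀ i j, resLim I₀ V₀ x (left_sub i j) (w i) = resLim I₀ V₀ x (right_sub i j) (w j)}
  mul_mem' {a b} ha hb i j := by simp only [Pi.mul_apply, map_mul, ha i j, hb i j]
  one_mem' i j := by simp only [Pi.one_apply, map_one]
  add_mem' {a b} ha hb i j := by simp only [Pi.add_apply, map_add, ha i j, hb i j]
  zero_mem' i j := by simp only [Pi.zero_apply, map_zero]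
  algebraMap_mem' r i j := (resLim I₀ V₀ x (left_sub i j)).commutes r |>.trans ((resLim I₀ V₀ x (right_sub i j)).commutes r).symm

theorem res_self (s : Finset (Fin d)) (h : s ⊆ s) (y : (limSys I₀ V₀ x).B s) : (limSys I₀ V₀ x).res h y = y :=
  Subtype.ext (funext fun n => by
    show resA (Sect I₀ V₀ n) (prod_dvd_prod_of_subset s s x h) (pi I₀ V₀ x n s y) = pi I₀ V₀ x n s y
    exact AlgHom.congr_fun (algHom_ext_loc (a := resA (Sect I₀ V₀ n) (prod_dvd_prod_of_subset s s x h))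
      (b := AlgHom.id A _) fun z => resA_algebraMap _ _) _)

/-- The bottom cocycle of a family. -/
noncomputable def toZ (w : ∀ i : Fin d, Lim I₀ V₀ x {i}) : X (limSys I₀ V₀ x) := fun s T =>
  if s.card = 1 ∧ T = ∅ then
    ∑ i ∈ s.attach, (limSys I₀ V₀ x).res (singleton_subset_iff.2 i.2) (w i.1) else 0

theorem toZ_single (w : ∀ i : Fin d, Lim I₀ V₀ x {i}) (i : Fin d) : toZ I₀ V₀ x w {i} ∅ = w i := by
  rw [toZ, if_pos ⟨card_singleton i, rfl⟩, Finset.sum_eq_single ⟨i, mem_singleton_self i⟩]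
  · exact res_self I₀ V₀ x {i} _ _
  · intro b _ hb
    exact absurd (Subtype.ext (mem_singleton.1 b.2)) hb
  · exact fun h => absurd (mem_attach _ _) h

theorem toZ_mem (t : ℕ → A) {w : ∀ i : Fin d, Lim I₀ V₀ x {i}} (hw : w ∈ Glob I₀ V₀ x) :
    toZ I₀ V₀ x w ∈ Zc (limSys I₀ V₀ x) t 0 0 := by
  refine ⟨fun s T hn => if_neg fun h => hn ⟨card_pos.1 (by omega), by rw [h.2]; exact empty_subset _,
    by rw [h.1, h.2]; simp⟩, ?_⟩
  show D (limSys I₀ V₀ x) t 0 (toZ I₀ V₀ x w) = 0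
  funext s T
  rw [D_apply, dK_apply, range_zero, Finset.empty_sdiff, sum_empty, smul_zero, add_zero, dC_apply]
  by_cases hs : s.card = 2 ∧ T = ∅
  · obtain ⟨hc, rfl⟩ := hs
    obtain ⟨a, b, hab, rfl⟩ := card_eq_two.1 hc
    rw [sum_pair hab]
    have ha : ({a, b} : Finset (Fin d)).erase a = {b} := by
      rw [erase_insert (fun h => hab (mem_singleton.1 h))]
    have hb : ({a, b} : Finset (Fin d)).erase b = {a} := by
      rw [Finset.pair_comm, erase_insert (fun h => hab (mem_singleton.1 h).symm)]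
    rw [res_erase (limSys I₀ V₀ x) (fun u => toZ I₀ V₀ x w u ∅) ha (erase_subset _ _) (right_sub a b),
      res_erase (limSys I₀ V₀ x) (fun u => toZ I₀ V₀ x w u ∅) hb (erase_subset _ _) (left_sub a b),
      ha, hb, toZ_single, toZ_single,
      show (limSys I₀ V₀ x).res (left_sub a b) (w a) = (limSys I₀ V₀ x).res (right_sub a b) (w b) from hw a b, ← add_smul]
    refine smul_eq_zero_of_left ?_ _
    rcases lt_or_gt_of_ne hab with h | h <;> simp [sg, filter_singleton, h, h.not_gt]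
  · refine sum_eq_zero fun j hj => ?_
    rw [show toZ I₀ V₀ x w (s.erase j) T = 0 from if_neg fun h => hs ⟨by have := card_erase_add_one hj; omega, h.2⟩,
      map_zero, smul_zero]

theorem mem_Glob_of_Zc (t : ℕ → A) {z : X (limSys I₀ V₀ x)} (hz : z ∈ Zc (limSys I₀ V₀ x) t 0 0) :
    (fun i => z {i} ∅) ∈ Glob I₀ V₀ x := by
  intro a b
  show (limSys I₀ V₀ x).res (left_sub a b) (z {a} ∅) = (limSys I₀ V₀ x).res (right_sub a b) (z {b} ∅)
  rcases eq_or_ne a b with rfl | hab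
  · rfl
  have h := congrFun (congrFun (dC_eq_zero_of_Zc hz) {a, b}) ∅
  have ha : ({a, b} : Finset (Fin d)).erase a = {b} := by
    rw [erase_insert (fun h => hab (mem_singleton.1 h))]
  have hb : ({a, b} : Finset (Fin d)).erase b = {a} := by
    rw [Finset.pair_comm, erase_insert (fun h => hab (mem_singleton.1 h).symm)]
  rw [dC_apply, sum_pair hab,
    res_erase (limSys I₀ V₀ x) (fun u => z u ∅) ha (erase_subset _ _) (right_sub a b),
    res_erase (limSys I₀ V₀ x) (fun u => z u ∅) hb (erase_subset _ _) (left_sub a b), ha, hb] at h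
  rcases lt_or_gt_of_ne hab with h' | h' <;> simp [sg, filter_singleton, h', h'.not_gt] at h
  · first | exact (neg_add_eq_zero.1 (by rw [add_comm]; exact h)) | exact (eq_neg_iff_add_eq_zero.2 h).trans (neg_neg _) |
      (rw [← sub_eq_zero]; first | exact h | (rw [← neg_eq_zero, neg_sub]; exact h) | (rw [sub_eq_add_neg]; exact h) |
        (rw [sub_eq_add_neg, add_comm]; exact h))
  · first | exact (neg_add_eq_zero.1 (by rw [add_comm]; exact h)) |
      (rw [← sub_eq_zero]; first | exact h | (rw [← neg_eq_zero, neg_sub]; exact h) | (rw [sub_eq_add_neg]; exact h) |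
        (rw [sub_eq_add_neg, add_comm]; exact h) | (rw [← neg_eq_zero, neg_sub, sub_eq_add_neg, add_comm]; exact h))

/-- Evaluation of bottom cocycles. -/
noncomputable def toGlob (t : ℕ → A) : Zc (limSys I₀ V₀ x) t 0 0 →ₗ[A] Glob I₀ V₀ x where
  toFun z := ⟨fun i => z.1 {i} ∅, mem_Glob_of_Zc I₀ V₀ x t z.2⟩
  map_add' a b := rfl
  map_smul' c a := rfl

theorem toGlob_toZ (t : ℕ → A) (w : Glob I₀ V₀ x) :
    toGlob I₀ V₀ x t ⟨toZ I₀ V₀ x w.1, toZ_mem I₀ V₀ x t w.2⟩ = w :=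
  Subtype.ext (funext fun i => toZ_single I₀ V₀ x w.1 i)

variable (t : ℕ → A) (r : ℕ) (hI : I₀ = Ideal.span (t '' ↑(range r))) (Lr : List (Fin d))
  (hreg : RingTheory.Sequence.IsWeaklyRegular A (Lr.map x)) (hL : r + 3 ≤ Lr.length) [IsAdicComplete I₀ A]

include hxm hI hreg hL in
theorem glob_main : Module.Finite A (Glob I₀ V₀ x) ∧ ∀ i : Fin d,
    (∀ y : Lim I₀ V₀ x {i}, ∃ (e : ℕ) (w : Glob I₀ V₀ x),
      w.1 i - x i ^ e • y ∈ (I₀ • ⊤ : Submodule A (Lim I₀ V₀ x {i}))) ∧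
    ∀ w : Glob I₀ V₀ x, w.1 i ∈ (I₀ • ⊤ : Submodule A (Lim I₀ V₀ x {i})) →
      ∃ e : ℕ, x i ^ e • w ∈ (I₀ • ⊤ : Submodule A (Glob I₀ V₀ x)) := by
  obtain ⟨hfg, h⟩ := Kosz.main x t r I₀ (limSys I₀ V₀ x) hI Lr hreg hL
    (fun s hs => isAdicComplete_lim I₀ V₀ x hxm hs) (bijective_smul_lim I₀ V₀ x)
    (exists_colAR_lim I₀ V₀ x hxm t r hI) (hasCmp I₀ V₀ x hxm)
  haveI : Module.Finite A (Zc (limSys I₀ V₀ x) t 0 0) := Module.Finite.iff_fg.2 hfg
  refine ⟨Module.Finite.of_surjective (toGlob I₀ V₀ x t) fun w => ⟨_, toGlob_toZ I₀ V₀ x t w⟩, fun i => ⟨fun y => ?_, fun w hw => ?_⟩⟩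
  · obtain ⟨e, m, hm, hme⟩ := (h i).1 y
    exact ⟨e, toGlob I₀ V₀ x t ⟨m, hm⟩, hme⟩
  · obtain ⟨e, he⟩ := (h i).2 _ (toZ_mem I₀ V₀ x t w.2) (by rw [toZ_single]; exact hw)
    let z : Zc (limSys I₀ V₀ x) t 0 0 := ⟨toZ I₀ V₀ x w.1, toZ_mem I₀ V₀ x t w.2⟩
    have h1 : x i ^ e • z ∈ (I₀ • ⊤ : Submodule A (Zc (limSys I₀ V₀ x) t 0 0)) := by
      rw [← Submodule.comap_map_eq_of_injective (Zc (limSys I₀ V₀ x) t 0 0).injective_subtype (I₀ • ⊤),
        Submodule.mem_comap, Submodule.map_smul'', Submodule.map_top, Submodule.range_subtype]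
      exact he
    have h2 := Submodule.mem_map_of_mem (f := toGlob I₀ V₀ x t) h1
    rw [Submodule.map_smul'', map_smul, toGlob_toZ] at h2
    exact ⟨e, Submodule.smul_mono le_rfl le_top h2⟩

variable (hcov : ∀ p : Ideal A, p.IsPrime → p ≠ IsLocalRing.maximalIdeal A → ∃ i, x i ∉ p)

/-- The opens of the cover as products. -/
abbrev yc (i : Fin d) : A := cx x {i}

include hxm in
theorem yc_mem (i : Fin d) : yc x i ∈ IsLocalRing.maximalIdeal A := by
  rw [yc, cx, prod_singleton]; exact hxm i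

include hcov in
theorem yc_cov : ∀ p : Ideal A, p.IsPrime → p ≠ IsLocalRing.maximalIdeal A → ∃ i, yc x i ∉ p := fun p hp hne => by
  obtain ⟨i, hi⟩ := hcov p hp hne
  exact ⟨i, by rw [yc, cx, prod_singleton]; exact hi⟩

theorem pair_dvd (i j : Fin d) : cx x {i, j} ∣ yc x i * yc x j := by
  rcases eq_or_ne i j with rfl | h
  · rw [show ({i, i} : Finset (Fin d)) = {i} by simp]; exact dvd_mul_right _ _
  · rw [yc, yc, cx, cx, cx, prod_pair h, prod_singleton, prod_singleton]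

include hxm hcov in
theorem exists_bottom : ∃ pr : Glob I₀ V₀ x →ₐ[A] Sect I₀ V₀ 0, ∀ w i,
    algebraMap (Sect I₀ V₀ 0) (Loc (Sect I₀ V₀ 0) (yc x i)) (pr w) = pi I₀ V₀ x 0 {i} (w.1 i) := by
  have hc : ∀ w : Glob I₀ V₀ x, ∀ i j,
      resA (Sect I₀ V₀ 0) (dvd_mul_right (yc x i) (yc x j)) (pi I₀ V₀ x 0 {i} (w.1 i)) =
        resA (Sect I₀ V₀ 0) (dvd_mul_left (yc x j) (yc x i)) (pi I₀ V₀ x 0 {j} (w.1 j)) := fun w i j => by
    have h := congrArg (fun y => resA (Sect I₀ V₀ 0) (pair_dvd x i j) (pi I₀ V₀ x 0 {i, j} y)) (w.2 i j)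
    simp only [pi_resLim, resA_resA] at h
    exact h
  choose v hv using fun w => glue_loc I₀ V₀ (yc x) (yc_cov x hcov) 0 _ (hc w)
  have huniq : ∀ a b, (∀ i, algebraMap (Sect I₀ V₀ 0) (Loc (Sect I₀ V₀ 0) (yc x i)) a =
      algebraMap (Sect I₀ V₀ 0) (Loc (Sect I₀ V₀ 0) (yc x i)) b) → a = b := fun a b h =>
    sub_eq_zero.1 (sep_loc I₀ V₀ (yc x) (yc_cov x hcov) 0 _ fun i => by rw [map_sub, h i, sub_self])
  refine ⟨{ toFun := v
            map_one' := huniq _ _ fun i => by rw [hv, map_one]; exact map_one (pi I₀ V₀ x 0 {i})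
            map_mul' := fun a b => huniq _ _ fun i => by
              rw [hv, map_mul, hv, hv]; exact map_mul (pi I₀ V₀ x 0 {i}) (a.1 i) (b.1 i)
            map_zero' := huniq _ _ fun i => by rw [hv, map_zero]; exact map_zero (pi I₀ V₀ x 0 {i})
            map_add' := fun a b => huniq _ _ fun i => by
              rw [hv, map_add, hv, hv]; exact map_add (pi I₀ V₀ x 0 {i}) (a.1 i) (b.1 i)
            commutes' := fun c => huniq _ _ fun i => by
              rw [hv, ← IsScalarTower.algebraMap_apply]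
              exact (pi I₀ V₀ x 0 {i}).commutes c }, hv⟩

end Groth.Agent.Lef23.Kosz.Tower
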