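import Groth.Agent.Lef23.Kosz.Filtr
import Mathlib.RingTheory.AdicCompletion.Basic
import Mathlib.LinearAlgebra.Charpoly.BaseChange
import Mathlib.LinearAlgebra.Matrix.Charpoly.LinearMap
import Mathlib.RingTheory.Noetherian.Basic

/-!
# Finiteness and annihilation of the cohomology of Čech–Koszul complexes
-/

set_option autoImplicit false
set_option linter.unusedSectionVars false

universe u

open Finset

namespace Groth.Agent.Lef23.Kosz

variable {S : Type u} [CommRing S] {d : ℕ}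

theorem exists_fg_of_map [IsNoetherianRing S] {M N : Type u} [AddCommGroup M] [Module S M] [AddCommGroup N]
    [Module S N] (f : M →ₗ[S] N) (Z B : Submodule S M) (B' : Submodule S N)
    (h1 : ∃ G' : Submodule S N, G'.FG ∧ Z.map f ≤ G' ⊔ B')
    (h2 : ∃ G : Submodule S M, G.FG ∧ Z ⊓ B'.comap f ≤ G ⊔ B) :
    ∃ G : Submodule S M, G.FG ∧ Z ≤ G ⊔ B := by
  classical
  obtain ⟨G', hG', h1⟩ := h1
  obtain ⟨G, hG, h2⟩ := h2
  haveI := isNoetherian_of_fg_of_noetherian G' hG'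
  obtain ⟨gs, hgs⟩ := (isNoetherian_submodule.1 ‹IsNoetherian S G'›) ((Z.map f ⊔ B') ⊓ G') inf_le_right
  have hlift : ∀ g : gs, ∃ z ∈ Z, (g : N) - f z ∈ B' := fun g => by
    have hg : (g : N) ∈ Z.map f ⊔ B' := (hgs.le (Submodule.subset_span g.2)).1
    obtain ⟨a, ⟨z, hz, rfl⟩, b, hb, e⟩ := Submodule.mem_sup.1 hg
    exact ⟨z, hz, by rw [← e]; simpa using hb⟩
  choose z hz hzb using hlift
  let G0 := Submodule.span S (Set.range z)
  have hG0 : G0 ≤ Z := Submodule.span_le.2 (by rintro _ ⟨g, rfl⟩; exact hz g)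
  refine ⟨G0 ⊔ G, (Submodule.fg_span (Set.finite_range z)).sup hG, fun x hx => ?_⟩
  obtain ⟨g', hg', b, hb, e⟩ := Submodule.mem_sup.1 (h1 ⟨x, hx, rfl⟩)
  have hQ : g' ∈ (Z.map f ⊔ B') ⊓ G' := by
    refine ⟨?_, hg'⟩
    rw [show g' = f x - b by rw [← e, add_sub_cancel_right]]
    exact sub_mem (Submodule.mem_sup_left ⟨x, hx, rfl⟩) (Submodule.mem_sup_right hb)
  rw [← hgs] at hQ
  have hle : Submodule.span S (gs : Set N) ≤ G0.map f ⊔ B' := Submodule.span_le.2 fun g hg => by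
    have := add_mem (Submodule.mem_sup_left (T := B') (Submodule.mem_map_of_mem (f := f)
      (Submodule.subset_span ⟨⟨g, hg⟩, rfl⟩ : z ⟨g, hg⟩ ∈ G0))) (Submodule.mem_sup_right (hzb ⟨g, hg⟩))
    simpa using this
  obtain ⟨_, ⟨z0, hz0, rfl⟩, b', hb', e'⟩ := Submodule.mem_sup.1 (hle hQ)
  have hk : x - z0 ∈ Z ⊓ B'.comap f := ⟨sub_mem hx (hG0 hz0), by
    show f (x - z0) ∈ B'
    rw [map_sub, ← e, ← e', show f z0 + b' + b - f z0 = b' + b by abel]
    exact add_mem hb' hb⟩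
  obtain ⟨g, hg, b₀, hb₀, e₀⟩ := Submodule.mem_sup.1 (h2 hk)
  rw [show x = (z0 + g) + b₀ by rw [add_assoc, e₀, add_sub_cancel]]
  exact add_mem (Submodule.mem_sup_left (Submodule.add_mem_sup hz0 hg)) (Submodule.mem_sup_right hb₀)

variable (P : Sys S d) (t : ℕ → S)

/-- Finiteness of the cohomology. -/
def FinH (m : ℕ) (i : ℤ) : Prop := ∃ G : Submodule S (X P), G.FG ∧ Zc P t m i ≤ G ⊔ Bd P t m i

theorem FinH.of_le_Bd {m : ℕ} {i : ℤ} (h : Zc P t m i ≤ Bd P t m i) : FinH P t m i :=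
  ⟨⊥, Submodule.fg_bot, h.trans le_sup_right⟩

theorem FinH.exists_le [IsNoetherianRing S] {m : ℕ} {i : ℤ} (h : FinH P t m i) :
    ∃ G : Submodule S (X P), G.FG ∧ G ≤ Zc P t m i ∧ Zc P t m i ≤ G ⊔ Bd P t m i := by
  obtain ⟨G, hG, hle⟩ := h
  haveI := isNoetherian_of_fg_of_noetherian G hG
  refine ⟨G ⊓ Zc P t m i, (isNoetherian_submodule.1 ‹IsNoetherian S G›) _ inf_le_left, inf_le_right, fun z hz => ?_⟩
  obtain ⟨g, hg, b, hb, e⟩ := Submodule.mem_sup.1 (hle hz)
  refine Submodule.mem_sup.2 ⟨g, ⟨hg, ?_⟩, b, hb, e⟩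
  rw [show g = z - b by rw [← e, add_sub_cancel_right]]
  exact sub_mem hz (Bd_le P t m i hb)

theorem Deg_eq_bot_of_neg {i : ℤ} (hi : i < 0) : Deg P 0 i = ⊥ := by
  refine (Submodule.eq_bot_iff _).2 fun z hz => funext fun s => funext fun T => eq_zero_of_not hz fun ⟨a, b, c⟩ => ?_
  rw [range_zero, subset_empty] at b
  subst b
  have := a.card_pos
  simp only [card_empty, Nat.cast_zero, sub_zero] at c
  omega

theorem Bd_zero_zero : Bd P t 0 0 = ⊥ := by
  rw [Bd, Deg_eq_bot_of_neg P (by omega), Submodule.map_bot]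

theorem FinH.up [IsNoetherianRing S] {m : ℕ} {i : ℤ} (h1 : FinH P t m i) (h2 : FinH P t m (i + 1)) :
    FinH P t (m + 1) i := by
  refine exists_fg_of_map (pr P m) _ _ (Bd P t m (i + 1)) ?_ ?_
  · obtain ⟨G, hG, hle⟩ := h2
    refine ⟨G, hG, ?_⟩
    rintro _ ⟨w, hw, rfl⟩
    exact hle (pr_mem_Zc P t hw)
  · obtain ⟨G, hG, hle⟩ := h1
    refine ⟨G, hG, fun w hw => ?_⟩
    obtain ⟨z, hz, hwz⟩ := exists_low P t hw.1 hw.2
    rw [← add_sub_cancel z w]
    exact add_mem (sup_le_sup_left (Bd_le_succ P t i) _ (hle hz)) (Submodule.mem_sup_right hwz)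

theorem Zc_le_Bd_succ {m : ℕ} {i : ℤ} (h1 : Zc P t m i ≤ Bd P t m i) (h2 : Zc P t m (i + 1) ≤ Bd P t m (i + 1)) :
    Zc P t (m + 1) i ≤ Bd P t (m + 1) i := fun w hw => by
  obtain ⟨z, hz, hwz⟩ := exists_low P t hw (h2 (pr_mem_Zc P t hw))
  simpa using add_mem (Bd_le_succ P t i (h1 hz)) hwz

theorem FinH.torsion [IsNoetherianRing S] {m : ℕ} {i : ℤ}
    (h1 : ∃ G : Submodule S (X P), G.FG ∧ ∀ z ∈ Zc P t m i, t m • z ∈ G ⊔ Bd P t m i)
    (h2 : FinH P t (m + 1) (i - 1)) : FinH P t m i := by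
  refine exists_fg_of_map (t m • LinearMap.id) _ _ (Bd P t m i) ?_ ?_
  · obtain ⟨G, hG, hle⟩ := h1
    refine ⟨G, hG, ?_⟩
    rintro _ ⟨z, hz, rfl⟩
    exact hle z hz
  · obtain ⟨G, hG, hle⟩ := h2
    refine ⟨G.map (pr P m), hG.map _, fun z hz => ?_⟩
    have hz2 : t m • z ∈ Bd P t m i := hz.2
    obtain ⟨w, hw, rfl⟩ := exists_lift P t (i := i - 1) (by rw [sub_add_cancel]; exact hz.1)
      (by rw [sub_add_cancel]; exact hz2)
    obtain ⟨g, hg, b, ⟨v, hv, rfl⟩, e⟩ := Submodule.mem_sup.1 (hle hw)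
    rw [← e, map_add, pr_D]
    refine add_mem (Submodule.mem_sup_left (Submodule.mem_map_of_mem hg)) (Submodule.mem_sup_right (D_mem_Bd P t ?_))
    have := pr_mem P hv
    rwa [sub_add_cancel] at this

theorem dK_congr {t' : ℕ → S} {m : ℕ} (h : ∀ k < m, t k = t' k) {N : Type u} [AddCommGroup N] [Module S N] :
    (dK t m : (Finset ℕ → N) →ₗ[S] _) = dK t' m :=
  LinearMap.ext fun z => funext fun T => sum_congr rfl fun k hk => by
    rw [h k (mem_range.1 (mem_sdiff.1 hk).1)]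

theorem D_congr {t' : ℕ → S} {m : ℕ} (h : ∀ k < m, t k = t' k) : D P t m = D P t' m :=
  LinearMap.ext fun z => funext fun s => funext fun T => by rw [D_apply, D_apply, dK_congr t h]

theorem Zc_congr {t' : ℕ → S} {m : ℕ} (h : ∀ k < m, t k = t' k) (i : ℤ) : Zc P t m i = Zc P t' m i := by
  rw [Zc, Zc, D_congr P t h]

theorem Bd_congr {t' : ℕ → S} {m : ℕ} (h : ∀ k < m, t k = t' k) (i : ℤ) : Bd P t m i = Bd P t' m i := by
  rw [Bd, Bd, D_congr P t h]

/-- Columns with an invertible member of the sequence are contractible. -/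
theorem Zc_le_Bd_of_unit {m : ℕ}
    (hu : ∀ s : Finset (Fin d), s.Nonempty → ∃ k < m, Function.Bijective fun y : P.B s => t k • y) (i : ℤ) :
    Zc P t m i ≤ Bd P t m i := fun z hz => by
  obtain ⟨w, hw, -, e⟩ := exists_of_columns P t m (fun _ => ⊤) (fun _ _ _ => trivial) (fun s hs q y hy _ hdy => by
    obtain ⟨k, hk, hb⟩ := hu s hs
    choose v hv using fun T => hb.2 (y T)
    have hv' : t k • v = y := funext hv
    have hdv : dK t m v = 0 := funext fun T => hb.1 (by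
      show t k • dK t m v T = t k • (0 : P.B s)
      rw [smul_zero, ← Pi.smul_apply, ← map_smul, hv', hdy]
      rfl)
    refine ⟨hK (S := S) k v, fun T hT => ?_, trivial, ?_⟩
    · rw [hK_apply] at hT
      split_ifs at hT with hkT
      · have h' : y (T.erase k) ≠ 0 := fun h' => hT (by
          rw [show v (T.erase k) = 0 from hb.1 (by simpa [hv] using h'), smul_zero])
        obtain ⟨a, b⟩ := hy _ h'
        refine ⟨fun x hx => ?_, by have := card_erase_add_one hkT; omega⟩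
        by_cases hxk : x = k
        · exact hxk ▸ mem_range.2 hk
        · exact a (mem_erase.2 ⟨hxk, hx⟩)
      · exact absurd rfl hT
    · have := dK_hK t m hk v
      rwa [hdv, map_zero, add_zero, hv'] at this) hz fun _ => trivial
  exact e ▸ D_mem_Bd P t hw

section complete

variable (J : Ideal S)

theorem exists_series {M : Type u} [AddCommGroup M] [Module S M] [IsPrecomplete J M] {c : S} (hc : c ∈ J)
    (a : ℕ → M) :
    ∃ L : M, ∀ N : ℕ, L - ∑ n ∈ range N, c ^ n • a n ∈ (J ^ N • ⊤ : Submodule S M) := by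
  obtain ⟨L, hL⟩ := IsPrecomplete.prec ‹IsPrecomplete J M› (f := fun N => ∑ n ∈ range N, c ^ n • a n)
    fun {p q} hpq => by
      refine SModEq.sub_mem.2 ?_
      rw [← neg_mem_iff, neg_sub, sum_range_sub_sum_range hpq]
      refine sum_mem fun n hn => ?_
      exact Submodule.smul_mem_smul (Ideal.pow_le_pow_right (mem_filter.1 hn).2 (Ideal.pow_mem_pow hc n)) trivial
  exact ⟨L, fun N => by
    have := SModEq.sub_mem.1 (hL N)
    rw [← neg_mem_iff, neg_sub]
    exact this⟩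

theorem le_of_le_smul_sup [IsNoetherianRing S] [IsAdicComplete J S]
    (hB : ∀ s : Finset (Fin d), s.Nonempty → IsAdicComplete J (P.B s)) {j : ℕ} {i : ℤ} (htj : t j ∈ J)
    {G : Submodule S (X P)} (hG : G.FG) (hGZ : G ≤ Zc P t j i)
    (h : Zc P t j i ≤ G ⊔ ((Zc P t j i).map (t j • LinearMap.id) ⊔ Bd P t j i)) :
    Zc P t j i ≤ G ⊔ Bd P t j i := by
  classical
  obtain ⟨k, g, hg⟩ := Submodule.fg_iff_exists_fin_generating_family.1 hG
  have hgG : ∀ l, g l ∈ G := fun l => hg ▸ Submodule.subset_span ⟨l, rfl⟩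
  have step : ∀ z : Zc P t j i, ∃ (z' : Zc P t j i) (c : Fin k → S) (w : Deg P j (i - 1)),
      (z : X P) = ∑ l, c l • g l + D P t j w + t j • (z' : X P) := fun z => by
    obtain ⟨a, ha, b, hb, e⟩ := Submodule.mem_sup.1 (h z.2)
    obtain ⟨_, ⟨z', hz', rfl⟩, _, ⟨w, hw, rfl⟩, e'⟩ := Submodule.mem_sup.1 hb
    rw [← hg] at ha
    obtain ⟨c, hc⟩ := (Submodule.mem_span_range_iff_exists_fun S).1 ha
    refine ⟨⟨z', hz'⟩, c, ⟨w, hw⟩, ?_⟩
    rw [← e, ← e', hc, LinearMap.smul_apply, LinearMap.id_apply]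
    abel
  choose nz nc nw hn using step
  intro z hz
  let zs : ℕ → Zc P t j i := fun N => Nat.rec ⟨z, hz⟩ (fun _ y => nz y) N
  have hpart : ∀ N, z = ∑ l, (∑ n ∈ range N, t j ^ n • nc (zs n) l) • g l +
      D P t j (∑ n ∈ range N, t j ^ n • (nw (zs n) : X P)) + t j ^ N • (zs N).1 := fun N => by
    induction N with
    | zero => simp [zs]
    | succ N ih =>
      conv_lhs => rw [ih, hn (zs N)]
      simp only [sum_range_succ, map_add, map_smul, add_smul, sum_add_distrib, smul_add, smul_sum, smul_eq_mul,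
        mul_smul, pow_succ]
      show _ = _ + _ + t j ^ N • t j • (nz (zs N)).1
      abel
  choose c hc using fun l => exists_series J htj fun n => nc (zs n) l
  choose w hw using fun (s : Finset (Fin d)) (hs : s.Nonempty) (T : Finset ℕ) =>
    haveI := hB s hs
    exists_series J htj fun n => (nw (zs n) : X P) s T
  let W : X P := fun s T => if h : s.Nonempty ∧ T ⊆ range j ∧ (s.card : ℤ) - 1 - T.card = i - 1 then w s h.1 T else 0
  have hW : W ∈ Deg P j (i - 1) := fun s T hn => dif_neg hn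
  have hWF : ∀ N, W - ∑ n ∈ range N, t j ^ n • (nw (zs n) : X P) ∈ Fil P J 0 N := fun N => mem_Fil.2 fun s T => by
    rw [filter_false_of_mem (fun _ _ => Nat.not_lt_zero _), card_empty, Nat.sub_zero]
    simp only [Pi.sub_apply, Finset.sum_apply, Pi.smul_apply, W]
    split_ifs with h'
    · exact hw s h'.1 T N
    · rw [sum_eq_zero fun n _ => by rw [eq_zero_of_not (nw (zs n)).2 h', smul_zero], sub_zero]
      exact zero_mem _
  let R := z - ∑ l, c l • g l - D P t j W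
  have hR : ∀ N, R ∈ Fil P J 0 N := fun N => by
    have e : R = t j ^ N • (zs N).1 - ∑ l, (c l - ∑ n ∈ range N, t j ^ n • nc (zs n) l) • g l -
        D P t j (W - ∑ n ∈ range N, t j ^ n • (nw (zs n) : X P)) := by
      simp only [R, sub_smul, sum_sub_distrib, map_sub]
      conv_lhs => rw [hpart N]
      abel
    have hsm : ∀ a ∈ J ^ N, ∀ y : X P, a • y ∈ Fil P J 0 N := fun a ha y => mem_Fil.2 fun s T => by
      rw [filter_false_of_mem (fun _ _ => Nat.not_lt_zero _), card_empty, Nat.sub_zero]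
      exact Submodule.smul_mem_smul ha trivial
    rw [e]
    refine sub_mem (sub_mem (hsm _ (Ideal.pow_mem_pow htj N) _) (sum_mem fun l _ => hsm _ ?_ _))
      (D_mem_Fil P t j J 0 N (fun k hk => absurd hk (Nat.not_lt_zero k)) (hWF N))
    have := hc l N
    rwa [smul_eq_mul, Ideal.mul_top] at this
  have hRdeg : R ∈ Deg P j i :=
    sub_mem (sub_mem hz.1 (sum_mem fun l _ => Submodule.smul_mem _ _ (hGZ (hgG l)).1))
      (Bd_le P t j i (D_mem_Bd P t hW)).1
  have hR0 : R = 0 := funext fun s => funext fun T => by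
    by_cases hs : s.Nonempty
    · haveI := hB s hs
      refine IsHausdorff.haus inferInstance (I := J) _ fun N => SModEq.zero.2 ?_
      have := mem_Fil.1 (hR N) s T
      rwa [filter_false_of_mem (fun _ _ => Nat.not_lt_zero _), card_empty, Nat.sub_zero] at this
    · exact eq_zero_of_not hRdeg fun h => hs h.1
  refine Submodule.mem_sup.2 ⟨∑ l, c l • g l, sum_mem fun l _ => Submodule.smul_mem _ _ (hgG l),
    D P t j W, D_mem_Bd P t hW, ?_⟩
  simp only [R, sub_sub, sub_eq_zero] at hR0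
  exact hR0.symm

theorem FinH.complete [IsNoetherianRing S] [IsAdicComplete J S]
    (hB : ∀ s : Finset (Fin d), s.Nonempty → IsAdicComplete J (P.B s)) {j : ℕ} {i : ℤ} (htj : t j ∈ J)
    (h : FinH P t (j + 1) i) : FinH P t j i := by
  obtain ⟨G, hG, hle⟩ := h
  obtain ⟨G₁, hG₁, hle₁⟩ := exists_fg_of_map LinearMap.id (Zc P t j i)
    ((Zc P t j i).map (t j • LinearMap.id) ⊔ Bd P t j i) (Bd P t (j + 1) i)
    ⟨G, hG, by rw [Submodule.map_id]; exact (Zc_le_succ P t i).trans hle⟩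
    ⟨⊥, Submodule.fg_bot, fun z hz => by
      obtain ⟨v, hv, hzv⟩ := (mem_Bd_succ_iff P t hz.1).1 hz.2
      rw [bot_sup_eq, show z = t j • v + (z - t j • v) by abel]
      exact add_mem (Submodule.mem_sup_left ⟨v, hv, rfl⟩) (Submodule.mem_sup_right hzv)⟩
  haveI := isNoetherian_of_fg_of_noetherian G₁ hG₁
  have hG₂ := (isNoetherian_submodule.1 ‹IsNoetherian S G₁›) (G₁ ⊓ Zc P t j i) inf_le_left
  refine ⟨_, hG₂, le_of_le_smul_sup P t J hB htj hG₂ inf_le_right fun z hz => ?_⟩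
  obtain ⟨a, ha, b, hb, e⟩ := Submodule.mem_sup.1 (hle₁ hz)
  refine Submodule.mem_sup.2 ⟨a, ⟨ha, ?_⟩, b, hb, e⟩
  rw [show a = z - b by rw [← e, add_sub_cancel_right]]
  refine sub_mem hz (sup_le ?_ (Bd_le P t j i) hb)
  rintro _ ⟨v, hv, rfl⟩
  exact Submodule.smul_mem _ _ hv

theorem FinH.complete_le [IsNoetherianRing S] [IsAdicComplete J S]
    (hB : ∀ s : Finset (Fin d), s.Nonempty → IsAdicComplete J (P.B s)) {r : ℕ} {i : ℤ} (ht : ∀ k < r, t k ∈ J)
    (h : FinH P t r i) : ∀ j ≤ r, FinH P t j i := fun _ hj =>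
  Nat.decreasingInduction (fun k hk ih => ih.complete P t J hB (ht k hk)) h hj

end complete

section kill

/-- The determinant trick. -/
theorem exists_kill [IsNoetherianRing S] {m : ℕ} {i : ℤ} (h : FinH P t m i) (p I : Ideal S) [hp : p.IsPrime]
    (hI : I ≤ p) {a : S} (ha : a ∉ p) (hk : ∀ z ∈ Zc P t m i, a • z ∈ I • Zc P t m i ⊔ Bd P t m i) :
    ∃ b ∉ p, ∀ z ∈ Zc P t m i, b • z ∈ Bd P t m i := by
  classical
  let Z := Zc P t m i
  let B : Submodule S Z := (Bd P t m i).comap Z.subtype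
  obtain ⟨G, hG, hGZ, hle⟩ := h.exists_le
  haveI : Module.Finite S (Z ⧸ B) := by
    haveI : Module.Finite S G := Module.Finite.iff_fg.2 hG
    refine Module.Finite.of_surjective (B.mkQ ∘ₗ Submodule.inclusion hGZ) fun q => ?_
    obtain ⟨⟨z, hz⟩, rfl⟩ := Submodule.mkQ_surjective B q
    obtain ⟨g, hg, b, hb, e⟩ := Submodule.mem_sup.1 (hle hz)
    refine ⟨⟨g, hg⟩, (Submodule.Quotient.eq B).2 ?_⟩
    show g - z ∈ Bd P t m i
    rw [← e, sub_add_cancel_left]
    exact neg_mem hb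
  let f : Module.End S (Z ⧸ B) := algebraMap S _ a
  have hr : LinearMap.range f ≤ I • ⊤ := by
    rintro _ ⟨q, rfl⟩
    obtain ⟨⟨z, hz⟩, rfl⟩ := Submodule.mkQ_surjective B q
    obtain ⟨v, hv, b, hb, e⟩ := Submodule.mem_sup.1 (hk z hz)
    have hvZ : v ∈ Z := Submodule.smul_le_right hv
    have hv' : (⟨v, hvZ⟩ : Z) ∈ (I • ⊤ : Submodule S Z) := by
      rw [← Submodule.comap_map_eq_of_injective Z.injective_subtype (I • ⊤), Submodule.mem_comap,
        Submodule.map_smul'', Submodule.map_top, Submodule.range_subtype]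
      exact hv
    have he : f (B.mkQ ⟨z, hz⟩) = B.mkQ ⟨v, hvZ⟩ := (Submodule.Quotient.eq B).2 (by
      show a • z - v ∈ Bd P t m i
      rw [← e, add_sub_cancel_left]
      exact hb)
    rw [he]
    have := Submodule.mem_map_of_mem (f := B.mkQ) hv'
    rw [Submodule.map_smul''] at this
    exact Submodule.smul_mono le_rfl le_top this
  obtain ⟨q, hq, -, hqc, hqf⟩ :=
    LinearMap.exists_monic_and_natDegree_eq_and_coeff_mem_pow_and_aeval_eq_zero S f I hr
  refine ⟨q.eval a, fun hmem => ha ?_, fun z hz => ?_⟩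
  · refine hp.mem_of_pow_mem q.natDegree ?_
    rw [Polynomial.eval_eq_sum_range, sum_range_succ, hq.coeff_natDegree, one_mul] at hmem
    refine (Submodule.add_mem_iff_right p (sum_mem fun k hk' => ?_)).1 hmem
    refine p.mul_mem_right _ (hI (Ideal.pow_le_self ?_ (hqc k)))
    have := mem_range.1 hk'
    omega
  · have := LinearMap.congr_fun hqf (B.mkQ ⟨z, hz⟩)
    rw [show f = algebraMap S _ a from rfl, Polynomial.aeval_algebraMap_apply_eq_algebraMap_eval,
      Module.algebraMap_end_apply, LinearMap.zero_apply, ← map_smul, Submodule.mkQ_apply,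
      Submodule.Quotient.mk_eq_zero] at this
    exact this

theorem exists_kill_all [IsNoetherianRing S] (p : Ideal S) [hp : p.IsPrime] {r : ℕ} {i : ℤ}
    (ht : ∀ k < r, t k ∈ p) (hfin : ∀ j ≤ r, FinH P t j i)
    (htop : ∃ a ∉ p, ∀ z ∈ Zc P t r i, a • z ∈ Bd P t r i) :
    ∀ j ≤ r, ∃ a ∉ p, ∀ z ∈ Zc P t j i, a • z ∈ Bd P t j i := fun j hj =>
  Nat.decreasingInduction (motive := fun j _ => ∃ a ∉ p, ∀ z ∈ Zc P t j i, a • z ∈ Bd P t j i) (fun j hj ih => by
    obtain ⟨b, hb, hbz⟩ := ih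
    refine exists_kill P t (hfin j hj.le) p (Ideal.span {t j}) ((Ideal.span_singleton_le_iff_mem _).2 (ht j hj)) hb
      fun z hz => ?_
    obtain ⟨v, hv, hzv⟩ := (mem_Bd_succ_iff P t (Submodule.smul_mem _ b hz)).1 (hbz z (Zc_le_succ P t i hz))
    rw [show b • z = t j • v + (b • z - t j • v) by abel]
    exact add_mem (Submodule.mem_sup_left (Submodule.smul_mem_smul (Ideal.mem_span_singleton_self _) hv))
      (Submodule.mem_sup_right hzv)) htop hj

/-- Classes descend to the bottom of the sequence. -/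
theorem exists_descend_class (p : Ideal S) [hp : p.IsPrime] {r : ℕ} {i : ℤ}
    (hk : ∀ j ≤ r, ∃ a ∉ p, ∀ z ∈ Zc P t j (i + 1), a • z ∈ Bd P t j (i + 1)) :
    ∀ j ≤ r, ∃ a ∉ p, ∀ z ∈ Zc P t j i, a • z ∈ Zc P t 0 i ⊔ Bd P t j i := by
  intro j hj
  induction j with
  | zero => exact ⟨1, fun h => hp.ne_top ((Ideal.eq_top_iff_one p).2 h), fun z hz => by
      rw [one_smul]; exact Submodule.mem_sup_left hz⟩
  | succ j ih =>
    obtain ⟨a, ha, haz⟩ := ih (by omega)
    obtain ⟨b, hb, hbz⟩ := hk j (by omega)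
    refine ⟨a * b, fun h => (hp.mem_or_mem h).elim ha hb, fun w hw => ?_⟩
    obtain ⟨z, hz, hwz⟩ := exists_low P t (Submodule.smul_mem _ b hw)
      (by rw [map_smul]; exact hbz _ (pr_mem_Zc P t hw))
    rw [mul_smul, ← add_sub_cancel z (b • w), smul_add]
    exact add_mem (sup_le_sup_left (Bd_le_succ P t i) _ (haz z hz))
      (Submodule.mem_sup_right (Submodule.smul_mem _ a hwz))

/-- Bottom classes dying upstairs are divisible by the sequence. -/
theorem exists_mem_smul (p : Ideal S) [hp : p.IsPrime] {r : ℕ} (J : Ideal S) (ht : ∀ k < r, t k ∈ J)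
    (hdes : ∀ j ≤ r, ∃ a ∉ p, ∀ z ∈ Zc P t j 0, a • z ∈ Zc P t 0 0 ⊔ Bd P t j 0) :
    ∀ j ≤ r, ∃ a ∉ p, ∀ z ∈ Zc P t 0 0, z ∈ Bd P t j 0 → a • z ∈ J • Zc P t 0 0 := by
  intro j hj
  induction j with
  | zero => exact ⟨1, fun h => hp.ne_top ((Ideal.eq_top_iff_one p).2 h), fun z _ hz0 => by
      rw [Bd_zero_zero, Submodule.mem_bot] at hz0
      rw [hz0, smul_zero]
      exact zero_mem _⟩
  | succ j ih =>
    obtain ⟨a, ha, haz⟩ := ih (by omega)
    obtain ⟨b, hb, hbz⟩ := hdes j (by omega)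
    refine ⟨a * b, fun h => (hp.mem_or_mem h).elim ha hb, fun z hz hzB => ?_⟩
    have hzj : z ∈ Zc P t j 0 := (monotone_nat_of_le_succ (fun l => Zc_le_succ P t (m := l) 0)) (Nat.zero_le j) hz
    obtain ⟨v, hv, hzv⟩ := (mem_Bd_succ_iff P t hzj).1 hzB
    obtain ⟨m₀, hm₀, β, hβ, e⟩ := Submodule.mem_sup.1 (hbz v hv)
    have hy : b • z - t j • m₀ ∈ Bd P t j 0 := by
      rw [show b • z - t j • m₀ = b • (z - t j • v) + t j • β by
        rw [smul_sub, smul_comm b (t j), ← e, smul_add]; abel]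
      exact add_mem (Submodule.smul_mem _ _ hzv) (Submodule.smul_mem _ _ hβ)
    have := haz _ (sub_mem (Submodule.smul_mem _ b hz) (Submodule.smul_mem _ (t j) hm₀)) hy
    rw [smul_sub, ← mul_smul, smul_comm a (t j)] at this
    rw [← sub_add_cancel ((a * b) • z) (t j • a • m₀)]
    exact add_mem this (Submodule.smul_mem_smul (ht j (by omega)) (Submodule.smul_mem _ a hm₀))

end kill

end Groth.Agent.Lef23.Kosz
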