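import Groth.Agent.Lef23.Kosz.Exist

/-!
# The formal sections recover the levels
-/

set_option autoImplicit false
set_option linter.style.haveILetI false
set_option linter.unusedSectionVars false
set_option backward.isDefEq.respectTransparency.types false
set_option backward.isDefEq.respectTransparency false
universe u

open CategoryTheory CategoryTheory.Limits AlgebraicGeometry Finset
open Groth.Agent.FEtFF Groth.Agent.FEtFF.Cech Groth.Agent.FEtFF.FormalLimit Groth.Agent.FEtFF.Hypersurface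

namespace Groth.Agent.Lef23.Kosz.Tower

variable {A : Type u} [CommRing A] [IsNoetherianRing A] [IsLocalRing A] (I₀ : Ideal A)
  (V₀ : FEt.Cat (T I₀ 0)) {d : ℕ} (x : Fin d → A) (hxm : ∀ i, x i ∈ IsLocalRing.maximalIdeal A)

variable (t : ℕ → A) (r : ℕ) (hI : I₀ = Ideal.span (t '' ↑(range r))) (Lr : List (Fin d))
  (hreg : RingTheory.Sequence.IsWeaklyRegular A (Lr.map x)) (hL : r + 3 ≤ Lr.length) [IsAdicComplete I₀ A]

/-- A family at a level. -/
noncomputable def levPre (n : ℕ) (i : Fin d) : Glob I₀ V₀ x →ₐ[A] Loc (Sect I₀ V₀ n) (yc x i) :=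
  (pi I₀ V₀ x n {i}).comp ((Pi.evalAlgHom A (fun j => Lim I₀ V₀ x {j}) i).comp (Glob I₀ V₀ x).val)

theorem levPre_apply (n : ℕ) (i : Fin d) (w : Glob I₀ V₀ x) : levPre I₀ V₀ x n i w = (w.1 i).1 n := rfl

theorem tr_levPre (n : ℕ) (i : Fin d) (w : Glob I₀ V₀ x) :
    mapA (red I₀ V₀ n) (yc x i) (levPre I₀ V₀ x (n + 1) i w) = levPre I₀ V₀ x n i w := by
  rw [levPre_apply, levPre_apply]
  exact (w.1 i).2 n

theorem isUnit_yc (n : ℕ) (i : Fin d) : IsUnit (algebraMap A (Loc (Sect I₀ V₀ n) (yc x i)) (yc x i)) := by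
  rw [IsScalarTower.algebraMap_apply A (Sect I₀ V₀ n) (Loc (Sect I₀ V₀ n) (yc x i))]
  exact IsLocalization.Away.algebraMap_isUnit _

variable (hcov : ∀ p : Ideal A, p.IsPrime → p ≠ IsLocalRing.maximalIdeal A → ∃ i, x i ∉ p)

set_option maxHeartbeats 6000000 in
include hxm hI hreg hL hcov in
/-- A finite algebra mapping to all the levels, forgetting its construction. -/
theorem exists_data : ∃ (L : Type u) (_ : CommRing L) (_ : Algebra A L) (_ : Module.Finite A L)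
    (pr : L →ₐ[A] Sect I₀ V₀ 0) (f : ∀ n i, L →ₐ[A] Loc (Sect I₀ V₀ n) (yc x i)),
    (∀ n i w, mapA (red I₀ V₀ n) (yc x i) (f (n + 1) i w) = f n i w) ∧
    (∀ i w, algebraMap (Sect I₀ V₀ 0) (Loc (Sect I₀ V₀ 0) (yc x i)) (pr w) = f 0 i w) ∧
    (∀ i (y : Loc (Sect I₀ V₀ 0) (yc x i)), ∃ (e : ℕ) (w : L), f 0 i w = yc x i ^ e • y) ∧
    (∀ i w, f 0 i w = 0 → ∃ e : ℕ, yc x i ^ e • w ∈ (I₀ • ⊤ : Submodule A L)) := by
  obtain ⟨hfin, hmain⟩ := glob_main I₀ V₀ x hxm t r hI Lr hreg hL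
  obtain ⟨pr, hpr⟩ := exists_bottom I₀ V₀ x hxm hcov
  have hy : ∀ i, yc x i = x i := fun i => prod_singleton _ _
  have h1 : ∀ i, (I₀ ^ (0 + 1) • ⊤ : Submodule A (Lim I₀ V₀ x {i})) = I₀ • ⊤ := fun i => by rw [zero_add, pow_one]
  refine ⟨Glob I₀ V₀ x, inferInstance, inferInstance, hfin, pr, levPre I₀ V₀ x, tr_levPre I₀ V₀ x,
    fun i w => hpr w i, fun i y => ?_, fun i w hw => ?_⟩
  · obtain ⟨y', rfl⟩ := surjective_pi I₀ V₀ x hxm 0 (singleton_nonempty i) y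
    obtain ⟨e, w, hw⟩ := (hmain i).1 y'
    refine ⟨e, w, ?_⟩
    show pi I₀ V₀ x 0 {i} (w.1 i) = _
    refine Eq.trans ?_ (congrArg (fun c : A => c ^ e • pi I₀ V₀ x 0 {i} y') (hy i)).symm
    rw [← map_smul, ← sub_eq_zero, ← map_sub]
    exact LinearMap.mem_ker.1 ((ker_pi I₀ V₀ x hxm 0 (singleton_nonempty i)).ge ((h1 i).ge hw))
  · have h2 : w.1 i ∈ (I₀ • ⊤ : Submodule A (Lim I₀ V₀ x {i})) :=
      (h1 i).le ((ker_pi I₀ V₀ x hxm 0 (singleton_nonempty i)).le hw)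
    rw [hy]
    exact (hmain i).2 w h2

variable {L : Type u} [CommRing L] [Algebra A L] (f : ∀ n i, L →ₐ[A] Loc (Sect I₀ V₀ n) (yc x i))

include hxm in
/-- The localised algebra surjects onto the levels with the expected kernels. -/
theorem lev_surj_ker (htr : ∀ n i w, mapA (red I₀ V₀ n) (yc x i) (f (n + 1) i w) = f n i w)
    (hs : ∀ i (y : Loc (Sect I₀ V₀ 0) (yc x i)), ∃ (e : ℕ) (w : L), f 0 i w = yc x i ^ e • y)
    (hk : ∀ i w, f 0 i w = 0 → ∃ e : ℕ, yc x i ^ e • w ∈ (I₀ • ⊤ : Submodule A L)) (i : Fin d) :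
    ∀ n, Function.Surjective (liftLoc (f n i) (yc x i) (isUnit_yc I₀ V₀ x n i)) ∧
    ∀ y, liftLoc (f n i) (yc x i) (isUnit_yc I₀ V₀ x n i) y = 0 →
      y ∈ (I₀ ^ (n + 1)).map (algebraMap A (Loc L (yc x i))) :=
  surj_ker_levels (fun n => Loc (Sect I₀ V₀ n) (yc x i)) I₀ (IsNoetherian.noetherian I₀)
    (fun n => liftLoc (f n i) (yc x i) (isUnit_yc I₀ V₀ x n i)) (fun n => mapA (red I₀ V₀ n) (yc x i))
    (fun n y => comp_liftLoc (f (n + 1) i) (f n i) (mapA (red I₀ V₀ n) (yc x i)) (yc x i) _ _ (htr n i) y)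
    (fun n y h => (smul_top_eq_map _).ge ((surj_ker I₀ V₀ x hxm n _ (dvd_cx x (singleton_nonempty i))).2 y h))
    (fun n a ha y => smul_eq_zero_lv I₀ V₀ x n {i} ha y)
    (fun n => flat_loc I₀ V₀ x hxm n (yc x i) (dvd_cx x (singleton_nonempty i)))
    (liftLoc_surjective _ _ _ (hs i)) (liftLoc_ker _ _ _ I₀ (hk i))

end Groth.Agent.Lef23.Kosz.Tower
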