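import Groth.Agent.Lef23.Kosz.Tower
import Groth.Agent.Lef23.Kosz.Cmp
import Groth.Agent.FEtFF.FormalExtendFinite
import Groth.Agent.AdicRing.System
import Groth.Agent.AdicRing.Noetherian

/-!
# The system of completed sections of a cover of a punctured spectrum modulo an ideal
-/

set_option autoImplicit false
set_option linter.style.haveILetI false
set_option linter.unusedSectionVars false
set_option backward.isDefEq.respectTransparency.types false
set_option backward.isDefEq.respectTransparency false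
universe u

open CategoryTheory CategoryTheory.Limits AlgebraicGeometry Finset
open Groth.Agent.FEtFF Groth.Agent.FEtFF.Cech Groth.Agent.FEtFF.FormalLimit Groth.Agent.FEtFF.Hypersurface

namespace Groth.Agent.Lef23.Kosz.Tower

theorem smul_top_eq_map {S C : Type u} [CommRing S] [CommRing C] [Algebra S C] (I : Ideal S) :
    (I • ⊤ : Submodule S C) = (I.map (algebraMap S C)).restrictScalars S := by
  rw [smul_top_eq_restrictScalars (C := C), smul_eq_mul, Ideal.mul_top]

theorem isAdicComplete_map {S C : Type u} [CommRing S] [CommRing C] [Algebra S C] (I : Ideal S) [IsAdicComplete I C] :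
    IsAdicComplete (I.map (algebraMap S C)) C := by
  have h : ∀ (n : ℕ) (a b : C), (a ≡ b [SMOD ((I.map (algebraMap S C)) ^ n • ⊤ : Submodule C C)]) ↔
      (a ≡ b [SMOD (I ^ n • ⊤ : Submodule S C)]) := fun n a b => by
    rw [SModEq.sub_mem, SModEq.sub_mem, smul_eq_mul, Ideal.mul_top, ← Ideal.map_pow, smul_top_eq_map,
      Submodule.restrictScalars_mem]
  haveI : IsHausdorff (I.map (algebraMap S C)) C := ⟨fun a ha =>
    IsHausdorff.haus (inferInstanceAs (IsHausdorff I C)) a fun n => (h n a 0).1 (ha n)⟩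
  haveI : IsPrecomplete (I.map (algebraMap S C)) C := ⟨fun a ha => by
    obtain ⟨L, hL⟩ := IsPrecomplete.prec (inferInstanceAs (IsPrecomplete I C)) fun {p q} hpq => (h p _ _).1 (ha hpq)
    exact ⟨L, fun n => (h n _ _).2 (hL n)⟩⟩
  exact ⟨⟩

variable {A : Type u} [CommRing A] [IsNoetherianRing A] [IsLocalRing A] (I₀ : Ideal A)
  (V₀ : FEt.Cat (T I₀ 0)) {d : ℕ} (x : Fin d → A) (hxm : ∀ i, x i ∈ IsLocalRing.maximalIdeal A)

theorem dvd_cx {s : Finset (Fin d)} (hs : s.Nonempty) : ∃ i, x i ∣ cx x s :=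
  ⟨_, dvd_prod_of_mem x hs.choose_spec⟩

/-- The sections of a level over an intersection of the cover. -/
abbrev Lv (n : ℕ) (s : Finset (Fin d)) : Type u := Loc (Sect I₀ V₀ n) (cx x s)

/-- The transition maps. -/
noncomputable def tr (n : ℕ) (s : Finset (Fin d)) : Lv I₀ V₀ x (n + 1) s →ₐ[A] Lv I₀ V₀ x n s :=
  mapA (red I₀ V₀ n) (cx x s)

/-- The completed sections over an intersection. -/
noncomputable def Lim (s : Finset (Fin d)) : Subalgebra A (∀ n, Lv I₀ V₀ x n s) where
  carrier := {y | ∀ n, tr I₀ V₀ x n s (y (n + 1)) = y n}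
  mul_mem' {a b} ha hb n := by simp only [Pi.mul_apply, map_mul, ha n, hb n]
  one_mem' n := by simp only [Pi.one_apply, map_one]
  add_mem' {a b} ha hb n := by simp only [Pi.add_apply, map_add, ha n, hb n]
  zero_mem' n := by simp only [Pi.zero_apply, map_zero]
  algebraMap_mem' r n := (tr I₀ V₀ x n s).commutes r

/-- The projection to a level. -/
noncomputable def pi (n : ℕ) (s : Finset (Fin d)) : Lim I₀ V₀ x s →ₐ[A] Lv I₀ V₀ x n s :=
  (Pi.evalAlgHom A (fun n => Lv I₀ V₀ x n s) n).comp (Lim I₀ V₀ x s).val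

theorem pi_apply (n : ℕ) (s : Finset (Fin d)) (y : Lim I₀ V₀ x s) : pi I₀ V₀ x n s y = y.1 n := rfl

theorem smul_eq_zero_lv (n : ℕ) (s : Finset (Fin d)) {a : A} (ha : a ∈ I₀ ^ (n + 1)) (y : Lv I₀ V₀ x n s) :
    a • y = 0 := by
  rw [Algebra.smul_def, IsScalarTower.algebraMap_apply A (Sect I₀ V₀ n) (Lv I₀ V₀ x n s), pow_sect I₀ V₀ n ha,
    map_zero, zero_mul]

/-- The adic system of levels. -/
noncomputable def adicLimit (s : Finset (Fin d)) (hs : s.Nonempty) :
    AdicRing.AdicLimit I₀ (fun n => Lv I₀ V₀ x n s) (Lim I₀ V₀ x s) where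
  f n := (tr I₀ V₀ x n s).toLinearMap
  surj_f n := (surj_ker I₀ V₀ x hxm n _ (dvd_cx x hs)).1
  ker_f n := by
    refine le_antisymm (fun y hy => ?_) (Submodule.smul_le.2 fun a ha y _ => ?_)
    · rw [smul_top_eq_map, Submodule.restrictScalars_mem]
      exact (surj_ker I₀ V₀ x hxm n _ (dvd_cx x hs)).2 y hy
    · rw [LinearMap.mem_ker, map_smul]
      exact smul_eq_zero_lv I₀ V₀ x n s ha _
  π n := (pi I₀ V₀ x n s).toLinearMap
  comp_π n := LinearMap.ext fun y => y.2 n
  joint_inj y h := Subtype.ext (funext h)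
  lift y h := ⟨⟨y, h⟩, fun n => rfl⟩

include hxm in
theorem surjective_pi (n : ℕ) {s : Finset (Fin d)} (hs : s.Nonempty) : Function.Surjective (pi I₀ V₀ x n s) :=
  (adicLimit I₀ V₀ x hxm s hs).surjective_π n

include hxm in
theorem ker_pi (n : ℕ) {s : Finset (Fin d)} (hs : s.Nonempty) :
    LinearMap.ker (pi I₀ V₀ x n s).toLinearMap = I₀ ^ (n + 1) • ⊤ :=
  (adicLimit I₀ V₀ x hxm s hs).ker_of_fg (IsNoetherian.noetherian I₀) n

include hxm in
theorem isAdicComplete_lim {s : Finset (Fin d)} (hs : s.Nonempty) : IsAdicComplete I₀ (Lim I₀ V₀ x s) :=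
  (adicLimit I₀ V₀ x hxm s hs).isAdicComplete_of_ker fun n => ker_pi I₀ V₀ x hxm n hs

include hxm in
theorem isNoetherianRing_lim {s : Finset (Fin d)} (hs : s.Nonempty) : IsNoetherianRing (Lim I₀ V₀ x s) := by
  haveI := isAdicComplete_lim I₀ V₀ x hxm hs
  let L := Lim I₀ V₀ x s
  haveI := isAdicComplete_map (C := L) I₀
  obtain ⟨φ, -, het⟩ := flat_loc I₀ V₀ x hxm 0 _ (dvd_cx x hs)
  letI := φ.toAlgebra
  haveI : Algebra.Etale (A ⧸ I₀ ^ (0 + 1)) (Lv I₀ V₀ x 0 s) := RingHom.etale_algebraMap.1 het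
  haveI : IsNoetherianRing (Lv I₀ V₀ x 0 s) := Algebra.FiniteType.isNoetherianRing (A ⧸ I₀ ^ (0 + 1)) _
  have hker : RingHom.ker (pi I₀ V₀ x 0 s).toRingHom = I₀.map (algebraMap A L) := by
    ext y
    have h := SetLike.ext_iff.1 (ker_pi I₀ V₀ x hxm 0 hs) y
    rw [zero_add, pow_one, smul_top_eq_map, Submodule.restrictScalars_mem] at h
    exact h
  haveI : IsNoetherianRing (L ⧸ I₀.map (algebraMap A L)) :=
    isNoetherianRing_of_ringEquiv (Lv I₀ V₀ x 0 s)
      ((Ideal.quotEquivOfEq hker.symm).trans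
        (RingHom.quotientKerEquivOfSurjective (f := (pi I₀ V₀ x 0 s).toRingHom) (surjective_pi I₀ V₀ x hxm 0 hs))).symm
  exact AdicRing.isNoetherianRing_of_isAdicComplete (I₀.map (algebraMap A L))
    (Ideal.FG.map (IsNoetherian.noetherian I₀) _)

/-- Restriction of completed sections. -/
noncomputable def resLim {s s' : Finset (Fin d)} (h : s ⊆ s') : Lim I₀ V₀ x s →ₐ[A] Lim I₀ V₀ x s' :=
  AlgHom.codRestrict
    (AlgHom.pi fun n => (resA (Sect I₀ V₀ n) (prod_dvd_prod_of_subset s s' x h)).comp (pi I₀ V₀ x n s))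
    (Lim I₀ V₀ x s') fun y n => by
      show mapA (red I₀ V₀ n) (cx x s') (resA (Sect I₀ V₀ (n + 1)) (prod_dvd_prod_of_subset s s' x h) (y.1 (n + 1))) =
        resA (Sect I₀ V₀ n) (prod_dvd_prod_of_subset s s' x h) (y.1 n)
      rw [← resA_mapA]
      exact congrArg _ (y.2 n)

theorem pi_resLim {s s' : Finset (Fin d)} (h : s ⊆ s') (n : ℕ) (y : Lim I₀ V₀ x s) :
    pi I₀ V₀ x n s' (resLim I₀ V₀ x h y) = resA (Sect I₀ V₀ n) (prod_dvd_prod_of_subset s s' x h) (pi I₀ V₀ x n s y) :=
  rfl

/-- The system of completed sections. -/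
noncomputable def limSys : Kosz.Sys A d where
  B s := Lim I₀ V₀ x s
  res h := (resLim I₀ V₀ x h).toLinearMap
  res_res h h' y := Subtype.ext (funext fun n => resA_resA (prod_dvd_prod_of_subset _ _ x h) (prod_dvd_prod_of_subset _ _ x h') _)

theorem bijective_smul_lim (s : Finset (Fin d)) (j : Fin d) (hj : j ∈ s) :
    Function.Bijective fun y : (limSys I₀ V₀ x).B s => x j • y := by
  have hu : ∀ n, IsUnit (algebraMap A (Lv I₀ V₀ x n s) (x j)) := fun n => by
    refine isUnit_of_dvd_unit (map_dvd _ (dvd_prod_of_mem x hj)) ?_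
    rw [IsScalarTower.algebraMap_apply A (Sect I₀ V₀ n) (Lv I₀ V₀ x n s)]
    exact IsLocalization.Away.algebraMap_isUnit _
  have hb : ∀ n, Function.Bijective fun y : Lv I₀ V₀ x n s => x j • y := fun n => by
    simp only [Algebra.smul_def]
    exact (hu n).unit.mulLeft_bijective
  show Function.Bijective fun y : Lim I₀ V₀ x s => x j • y
  refine ⟨fun y y' h => Subtype.ext (funext fun n => (hb n).1 (congrFun (congrArg Subtype.val h) n)), fun y => ?_⟩
  choose w hw using fun n => (hb n).2 (y.1 n)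
  refine ⟨⟨w, fun n => (hb n).1 ?_⟩, Subtype.ext (funext hw)⟩
  show x j • tr I₀ V₀ x n s (w (n + 1)) = x j • w n
  rw [← map_smul, show x j • w (n + 1) = _ from hw (n + 1), show x j • w n = _ from hw n]
  exact y.2 n

variable (t : ℕ → A) (r : ℕ) (hI : I₀ = Ideal.span (t '' ↑(range r)))

include hxm hI in
theorem exists_colAR_lim : ∃ n₀, ∀ n, n₀ ≤ n → ColAR (limSys I₀ V₀ x) t r I₀ n := by
  classical
  have hs : ∀ s : Finset (Fin d), ∃ n₀, s.Nonempty → ∀ n, n₀ ≤ n → ∀ (q : ℕ) (z : Finset ℕ → Lim I₀ V₀ x s),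
      (∀ T, z T ≠ 0 → T ⊆ range r ∧ T.card = q) →
      (∀ T, z T ∈ (I₀ ^ (n - q) • ⊤ : Submodule A (Lim I₀ V₀ x s))) → dK t r z = 0 →
      ∃ w : Finset ℕ → Lim I₀ V₀ x s, (∀ T, w T ≠ 0 → T ⊆ range r ∧ T.card = q + 1) ∧
        (∀ T, w T ∈ (I₀ ^ (n - q - 1) • ⊤ : Submodule A (Lim I₀ V₀ x s))) ∧ dK t r w = z := fun s => by
    by_cases h : s.Nonempty
    · haveI := isNoetherianRing_lim I₀ V₀ x hxm h
      obtain ⟨n₀, hn⟩ := column_AR (C := Lim I₀ V₀ x s) (N := Lim I₀ V₀ x s) t r hI
      exact ⟨n₀, fun _ => hn⟩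
    · exact ⟨0, fun h' => absurd h' h⟩
  choose n₀ hn₀ using hs
  refine ⟨univ.sup n₀, fun n hn => ?_⟩
  intro s hs q z
  exact hn₀ s hs n (le_trans (le_sup (mem_univ s)) hn) q z

set_option maxHeartbeats 800000 in
include hxm in
/-- The charts of the lifts are finite over the basic opens. -/
theorem exists_gen_loc (n : ℕ) (i : Fin d) :
    ∃ G : Finset (Sect I₀ V₀ n), ∀ b : Sect I₀ V₀ n, ∃ k : ℕ,
      x i ^ k • b ∈ Submodule.span A (G : Set (Sect I₀ V₀ n)) := by
  classical
  let c := x i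
  let L := Loc (Sect I₀ V₀ n) c
  obtain ⟨φ, hφe⟩ := FormalExtend.exists_lift_away (A := A) (M := Sect I₀ V₀ n) c
  let jc : Spec (CommRingCat.of (Localization.Away c)) ⟶ Spec (CommRingCat.of A) :=
    Spec.map (CommRingCat.ofHom (algebraMap A (Localization.Away c)))
  have hjr : Set.range jc ⊆ Set.range (FEt.puncturedSpec A).ι := by
    rw [Scheme.Opens.range_ι]
    intro p hp
    exact basicOpen_le x hxm i (SetLike.mem_coe.1 ((PrimeSpectrum.localization_away_comap_range (Localization.Away c) c).le hp))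
  let j' := IsOpenImmersion.lift (FEt.puncturedSpec A).ι jc hjr
  have hj' : j' ≫ (FEt.puncturedSpec A).ι = jc := IsOpenImmersion.lift_fac _ _ hjr
  have hφ : Spec.map (CommRingCat.ofHom φ) ≫ jc = Spec.map (CommRingCat.ofHom (algebraMap A L)) := by
    rw [← Spec.map_comp]
    rw [← CommRingCat.ofHom_comp, hφe]
  let ch := chartC I₀ V₀ x hxm n c ⟨i, dvd_rfl⟩
  have hsq : IsPullback ch (Spec.map (CommRingCat.ofHom φ)) (toU I₀ V₀ n) j' := by
    haveI : IsOpenImmersion j' := by
      have : IsOpenImmersion jc := IsOpenImmersion.of_isLocalization c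
      exact IsOpenImmersion.of_comp j' (FEt.puncturedSpec A).ι
    refine (IsOpenImmersion.isPullback _ _ _ _ ?_ ?_).flip
    · refine (cancel_mono (FEt.puncturedSpec A).ι).1 ?_
      rw [Category.assoc ch, Category.assoc (Spec.map _), hj', hφ]
      exact chartC_str I₀ V₀ x hxm n c ⟨i, dvd_rfl⟩
    · refine TopologicalSpace.Opens.ext ?_
      rw [TopologicalSpace.Opens.map_coe, Scheme.Hom.coe_opensRange, Scheme.Hom.coe_opensRange,
        show Set.range ch = _ from range_chart _]
      have hr : Set.range j' = (FEt.puncturedSpec A).ι ⁻¹' (PrimeSpectrum.basicOpen c : Set (PrimeSpectrum A)) := by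
        have e : Set.range jc = (FEt.puncturedSpec A).ι '' Set.range j' := by
          rw [← Set.range_comp]; exact congrArg (fun φ : _ ⟶ Spec (CommRingCat.of A) => Set.range φ) hj'.symm
        rw [show (PrimeSpectrum.basicOpen c : Set (PrimeSpectrum A)) = Set.range jc from
          (PrimeSpectrum.localization_away_comap_range (Localization.Away c) c).symm, e,
          Set.preimage_image_eq _ (FEt.puncturedSpec A).ι.isOpenEmbedding.injective]
      rw [hr, ← Set.preimage_comp]
      show (str (toU I₀ V₀ n) ⁻¹ᵁ PrimeSpectrum.basicOpen c : Set (cover I₀ V₀ n).left) = _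
      rw [show (cover I₀ V₀ n).left.basicOpen (algebraMap A (Sect I₀ V₀ n) c : Γ((cover I₀ V₀ n).left, ⊤)) =
          str (toU I₀ V₀ n) ⁻¹ᵁ PrimeSpectrum.basicOpen c by
        show (cover I₀ V₀ n).left.basicOpen ((str (toU I₀ V₀ n)).appTop ((Scheme.ΓSpecIso (CommRingCat.of A)).inv c)) = _
        rw [← Scheme.preimage_basicOpen_top, basicOpen_eq_of_affine]]
  have hfin : IsFinite (Spec.map (CommRingCat.ofHom φ)) :=
    MorphismProperty.of_isPullback (P := @IsFinite) hsq inferInstance
  exact FormalExtend.exists_gen_of_finite c φ hφe ((IsFinite.SpecMap_iff _).1 hfin)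

set_option maxHeartbeats 1600000 in
include hxm in
theorem hasCmp : HasCmp x I₀ (limSys I₀ V₀ x) := by
  classical
  intro j n
  cases n with
  | zero =>
    refine ⟨0, 0, fun s => 0, fun s => 0, fun hs h y v hv => ?_, fun hs h y v hv => ?_, fun s hs y v hv => ?_⟩
    all_goals
      rw [LinearMap.zero_apply]
      exact ((Submodule.Quotient.mk_eq_zero _).2 (by
        rw [pow_zero, Ideal.one_eq_top, Submodule.top_smul]; trivial)).symm.trans (by first | rfl | simp)
  | succ m =>
    let R := A ⧸ I₀ ^ (m + 1)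
    let M := Sect I₀ V₀ m
    letI : Algebra R M := (Ideal.Quotient.lift (I₀ ^ (m + 1)) (algebraMap A M) fun a ha => pow_sect I₀ V₀ m ha).toAlgebra
    haveI : IsScalarTower A R M := IsScalarTower.of_algebraMap_eq fun a => rfl
    choose gens hgens using exists_gen_loc I₀ V₀ x hxm m
    let G' : Submodule R M := Submodule.span R ((univ.biUnion gens : Finset M) : Set M)
    let G : Submodule A M := G'.restrictScalars A
    haveI hG' : Module.Finite R G' := Module.Finite.iff_fg.2 (Submodule.fg_span (Finset.finite_toSet _))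
    have hgen : ∀ (i : Fin d) (y : M), ∃ e : ℕ, x i ^ e • y ∈ G := fun i y => by
      obtain ⟨e, he⟩ := hgens i y
      exact ⟨e, Submodule.span_le_restrictScalars A R _
        (Submodule.span_mono (fun a ha => mem_coe.2 (mem_biUnion.2 ⟨i, mem_univ i, mem_coe.1 ha⟩)) he)⟩
    -- flatness near `x j`
    let c := algebraMap A R (x j)
    let f₀ := (IsScalarTower.toAlgHom R M (Loc M (x j))).toLinearMap
    let f : G' →ₗ[R] Loc M (x j) := f₀ ∘ₗ G'.subtype
    haveI : IsLocalizedModule (Submonoid.powers c) f := by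
      haveI : IsLocalizedModule (Submonoid.powers c) f₀ := isLocalizedModule_locR (R := R) (x j)
      refine ⟨IsLocalizedModule.map_units f₀, fun y => ?_, fun {a b} h => ?_⟩
      · obtain ⟨⟨w, ⟨_, l, rfl⟩⟩, hw⟩ := IsLocalizedModule.surj (Submonoid.powers c) f₀ y
        obtain ⟨e, he⟩ := hgen j w
        have he' : c ^ e • w ∈ G' := by
          rw [← map_pow, algebraMap_smul]; exact he
        refine ⟨(⟨_, he'⟩, ⟨c ^ (e + l), e + l, rfl⟩), ?_⟩
        simp only [Submonoid.smul_def] at hw ⊢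
        show c ^ (e + l) • y = f₀ (c ^ e • w)
        rw [pow_add c e l, mul_smul, hw, map_smul]
      · obtain ⟨s, hs⟩ := IsLocalizedModule.exists_of_eq (S := Submonoid.powers c) (f := f₀) h
        exact ⟨s, Subtype.ext hs⟩
    haveI : Module.Flat R (LocalizedModule (Submonoid.powers c) G') := by
      obtain ⟨φ, hφ, het⟩ := flat_loc I₀ V₀ x hxm m (x j) ⟨j, dvd_rfl⟩
      have hh : algebraMap R (Loc M (x j)) = φ := by
        refine Ideal.Quotient.ringHom_ext ?_
        rw [hφ, ← Ideal.Quotient.algebraMap_eq]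
        exact (IsScalarTower.algebraMap_eq A R (Loc M (x j))).symm
      haveI : Algebra.Etale R (Loc M (x j)) := RingHom.etale_algebraMap.1 (hh ▸ het)
      exact Module.Flat.of_linearEquiv (IsLocalizedModule.iso (Submonoid.powers c) f)
    obtain ⟨N, k, πR, aR, hπR⟩ := exists_split (S := R) (M := G') c
    let F := Fin k → A
    let q : F →ₗ[A] (Fin k → R) := LinearMap.pi fun l => (Algebra.linearMap A R) ∘ₗ LinearMap.proj l
    have hq : Function.Surjective q := fun v => by
      choose w hw using fun l => Ideal.Quotient.mk_surjective (v l)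
      exact ⟨w, funext hw⟩
    have hqk : LinearMap.ker q = (I₀ ^ (m + 1) • ⊤ : Submodule A F) := by
      refine le_antisymm (fun v hv => ?_) (Submodule.smul_le.2 fun a ha v _ => funext fun l => ?_)
      · rw [show v = ∑ l, v l • Pi.single (M := fun _ : Fin k => A) l (1 : A) from by
          ext a; simp [Finset.sum_apply, Pi.single_apply]]
        exact sum_mem fun l _ => Submodule.smul_mem_smul
          (Ideal.Quotient.eq_zero_iff_mem.1 (congrFun (LinearMap.mem_ker.1 hv) l)) Submodule.mem_top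
      · show Ideal.Quotient.mk _ (a * v l) = 0
        exact Ideal.Quotient.eq_zero_iff_mem.2 (Ideal.mul_mem_right _ _ ha)
    let E : (F ⧸ (I₀ ^ (m + 1) • ⊤ : Submodule A F)) ≃ₗ[A] (Fin k → R) :=
      (Submodule.quotEquivOfEq _ _ hqk.symm).trans (LinearMap.quotKerEquivOfSurjective q hq)
    let π : F →ₗ[A] G := (πR.restrictScalars A) ∘ₗ q
    let a : G →ₗ[A] F ⧸ (I₀ ^ (m + 1) • ⊤ : Submodule A F) := E.symm.toLinearMap ∘ₗ (aR.restrictScalars A)
    let e : ∀ s, Lv I₀ V₀ x m s ≃ₗ[A] (locSys x M).B s := fun s =>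
      IsLocalizedModule.linearEquiv (Submonoid.powers (cx x s)) (IsScalarTower.toAlgHom A M (Loc M (cx x s))).toLinearMap
        (mkB x M s)
    refine exists_cmp x (limSys I₀ V₀ x) I₀ (m + 1) G hgen
      (fun s => (e s).toLinearMap ∘ₗ (pi I₀ V₀ x m s).toLinearMap)
      (fun s hs => (e s).surjective.comp (surjective_pi I₀ V₀ x hxm m hs))
      (fun s hs => by rw [LinearEquiv.ker_comp]; exact ker_pi I₀ V₀ x hxm m hs)
      (fun {s s'} hs h y => ?_) j (N := N) π a (fun g v hg => ?_)
    · show (locSys x M).res h (e s (pi I₀ V₀ x m s y)) =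
        e s' (resA M (prod_dvd_prod_of_subset s s' x h) (pi I₀ V₀ x m s y))
      refine LinearMap.congr_fun (f := (locSys x M).res h ∘ₗ (e s).toLinearMap)
        (g := (e s').toLinearMap ∘ₗ (resA M (prod_dvd_prod_of_subset s s' x h)).toLinearMap)
        (IsLocalizedModule.ext (Submonoid.powers (cx x s))
          (IsScalarTower.toAlgHom A M (Loc M (cx x s))).toLinearMap (isUnit_powers x M h) (LinearMap.ext fun w => ?_)) _
      show (locSys x M).res h (e s (algebraMap M (Loc M (cx x s)) w)) = e s' (resA M (prod_dvd_prod_of_subset s s' x h) (algebraMap M (Loc M (cx x s)) w))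
      rw [resA_algebraMap]
      have h1 : ∀ s, e s (algebraMap M (Loc M (cx x s)) w) = mkB x M s w := fun s =>
        IsLocalizedModule.linearEquiv_apply _ _ _ w
      rw [h1, h1, res_mkB]
    · have hg' : aR g = q v := by
        have := congrArg E hg
        rw [show a g = E.symm (aR g) from rfl, E.apply_symm_apply] at this
        exact this
      show πR (q v) = x j ^ N • g
      rw [← hg', hπR]
      show (algebraMap A R (x j)) ^ N • g = x j ^ N • g
      rw [← map_pow]
      exact algebraMap_smul R _ _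

end Groth.Agent.Lef23.Kosz.Tower
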