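import Groth.Agent.Lef23.Kosz.Fin
import Mathlib.RingTheory.Regular.RegularSequence
import Mathlib.Algebra.Module.LocalizedModule.Exact
import Mathlib.Algebra.Module.LocalizedModule.Basic

/-!
# The Čech complex of a module with a regular sequence among the cover
-/

set_option autoImplicit false
set_option linter.unusedSectionVars false

universe u

open Finset

namespace Groth.Agent.Lef23.Kosz

variable {S : Type u} [CommRing S] {d : ℕ} (x : Fin d → S)

/-- The element defining the intersection of the opens of the cover. -/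
abbrev cx (s : Finset (Fin d)) : S := ∏ j ∈ s, x j

variable (M : Type u) [AddCommGroup M] [Module S M]

theorem bij_of_dvd {N : Type u} [AddCommGroup N] [Module S N] {a b : S} (h : a ∣ b)
    (hb : Function.Bijective fun y : N => b • y) : Function.Bijective fun y : N => a • y := by
  obtain ⟨e, rfl⟩ := h
  refine ⟨fun y y' hy => hb.1 (show (a * e) • y = (a * e) • y' by rw [mul_comm, mul_smul, mul_smul]; exact congrArg (e • ·) hy),
    fun y => ?_⟩
  obtain ⟨v, hv⟩ := hb.2 y
  exact ⟨e • v, by show a • e • v = y; rw [← mul_smul]; exact hv⟩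

theorem isUnit_powers {s t : Finset (Fin d)} (h : s ⊆ t) (a : Submonoid.powers (cx x s)) :
    IsUnit (algebraMap S (Module.End S (LocalizedModule (Submonoid.powers (cx x t)) M)) a) := by
  obtain ⟨_, n, rfl⟩ := a
  refine (Module.End.isUnit_iff _).2 (bij_of_dvd (pow_dvd_pow_of_dvd (prod_dvd_prod_of_subset s t x h) n) ?_)
  exact (Module.End.isUnit_iff _).1 (IsLocalizedModule.map_units
    (LocalizedModule.mkLinearMap (Submonoid.powers (cx x t)) M) (⟨_, n, rfl⟩ : Submonoid.powers (cx x t)))

/-- Restriction between localisations. -/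
noncomputable def resL {s t : Finset (Fin d)} (h : s ⊆ t) :
    LocalizedModule (Submonoid.powers (cx x s)) M →ₗ[S] LocalizedModule (Submonoid.powers (cx x t)) M :=
  IsLocalizedModule.lift (Submonoid.powers (cx x s)) (LocalizedModule.mkLinearMap _ M)
    (LocalizedModule.mkLinearMap _ M) (isUnit_powers x M h)

theorem resL_mk {s t : Finset (Fin d)} (h : s ⊆ t) (m : M) :
    resL x M h (LocalizedModule.mkLinearMap _ M m) = LocalizedModule.mkLinearMap _ M m :=
  IsLocalizedModule.lift_apply _ _ _ _ m

/-- The localisations of a module on the intersections of the cover. -/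
noncomputable def locSys : Sys S d where
  B s := LocalizedModule (Submonoid.powers (cx x s)) M
  res h := resL x M h
  res_res {s t w} h h' y := by
    refine LinearMap.congr_fun (f := resL x M h' ∘ₗ resL x M h) (g := resL x M (h.trans h'))
      (IsLocalizedModule.ext (Submonoid.powers (cx x s)) (LocalizedModule.mkLinearMap _ M)
        (isUnit_powers x M (h.trans h')) (LinearMap.ext fun m => ?_)) y
    simp only [LinearMap.comp_apply, resL_mk]

/-- The canonical map to the localisations. -/
noncomputable def mkB (s : Finset (Fin d)) : M →ₗ[S] (locSys x M).B s := LocalizedModule.mkLinearMap _ M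

instance (s : Finset (Fin d)) : IsLocalizedModule (Submonoid.powers (cx x s)) (mkB x M s) :=
  inferInstanceAs (IsLocalizedModule (Submonoid.powers (cx x s)) (LocalizedModule.mkLinearMap _ M))

theorem res_mkB {s t : Finset (Fin d)} (h : s ⊆ t) (m : M) : (locSys x M).res h (mkB x M s m) = mkB x M t m :=
  resL_mk x M h m

theorem bijective_smul {s : Finset (Fin d)} {a : S} (ha : ∃ n : ℕ, a ∣ cx x s ^ n) :
    Function.Bijective fun y : (locSys x M).B s => a • y := by
  obtain ⟨n, hn⟩ := ha
  exact bij_of_dvd hn ((Module.End.isUnit_iff _).1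
    (IsLocalizedModule.map_units (mkB x M s) (⟨_, n, rfl⟩ : Submonoid.powers (cx x s))))

theorem exists_num {s : Finset (Fin d)} (y : (locSys x M).B s) : ∃ (n : ℕ) (m : M), cx x s ^ n • y = mkB x M s m := by
  obtain ⟨⟨m, ⟨_, n, rfl⟩⟩, hm⟩ := IsLocalizedModule.surj (Submonoid.powers (cx x s)) (mkB x M s) y
  exact ⟨n, m, hm⟩

theorem exists_pow_zero {s : Finset (Fin d)} {m : M} (h : mkB x M s m = 0) : ∃ n : ℕ, cx x s ^ n • m = 0 := by
  obtain ⟨⟨_, n, rfl⟩, hn⟩ := (IsLocalizedModule.eq_zero_iff (Submonoid.powers (cx x s)) (mkB x M s)).1 h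
  exact ⟨n, hn⟩

variable {M} in
/-- Functoriality in the module. -/
noncomputable def mapB {N : Type u} [AddCommGroup N] [Module S N] (φ : M →ₗ[S] N) (s : Finset (Fin d)) :
    (locSys x M).B s →ₗ[S] (locSys x N).B s :=
  IsLocalizedModule.map (Submonoid.powers (cx x s)) (mkB x M s) (mkB x N s) φ

variable {M} in
theorem mapB_mk {N : Type u} [AddCommGroup N] [Module S N] (φ : M →ₗ[S] N) (s : Finset (Fin d)) (m : M) :
    mapB x φ s (mkB x M s m) = mkB x N s (φ m) := IsLocalizedModule.map_apply _ _ _ φ m

variable {M} in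
theorem res_mapB {N : Type u} [AddCommGroup N] [Module S N] (φ : M →ₗ[S] N) {s t : Finset (Fin d)} (h : s ⊆ t)
    (y : (locSys x M).B s) : (locSys x N).res h (mapB x φ s y) = mapB x φ t ((locSys x M).res h y) := by
  refine LinearMap.congr_fun (f := (locSys x N).res h ∘ₗ mapB x φ s) (g := mapB x φ t ∘ₗ (locSys x M).res h)
    (IsLocalizedModule.ext (Submonoid.powers (cx x s)) (mkB x M s) (isUnit_powers x N h) (LinearMap.ext fun m => ?_)) y
  show (locSys x N).res h (mapB x φ s (mkB x M s m)) = mapB x φ t ((locSys x M).res h (mkB x M s m))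
  rw [mapB_mk, res_mkB, res_mkB, mapB_mk]

variable {M} in
theorem exists_res_eq {j : Fin d} {s : Finset (Fin d)} (hj : j ∉ s) (y : (locSys x M).B (insert j s)) :
    ∃ (n : ℕ) (v : (locSys x M).B s), x j ^ n • y = (locSys x M).res (subset_insert j s) v := by
  obtain ⟨n, m, hm⟩ := exists_num x M y
  obtain ⟨v, hv⟩ := (bijective_smul x M (s := s) (a := cx x s ^ n) ⟨n, dvd_rfl⟩).2 (mkB x M s m)
  refine ⟨n, v, (bijective_smul x M (s := insert j s) (a := cx x s ^ n)
    ⟨n, pow_dvd_pow_of_dvd (prod_dvd_prod_of_subset _ _ x (subset_insert j s)) n⟩).1 ?_⟩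
  show cx x s ^ n • x j ^ n • y = cx x s ^ n • (locSys x M).res (subset_insert j s) v
  rw [← map_smul, show cx x s ^ n • v = mkB x M s m from hv, res_mkB, ← hm, smul_smul, ← mul_pow, mul_comm,
    show cx x (insert j s) = x j * cx x s from prod_insert hj]

variable {M} in
theorem exists_kill_of_res {j : Fin d} {s : Finset (Fin d)} (hj : j ∉ s) {v : (locSys x M).B s}
    (h : (locSys x M).res (subset_insert j s) v = 0) : ∃ n : ℕ, x j ^ n • v = 0 := by
  obtain ⟨k, m, hm⟩ := exists_num x M v
  obtain ⟨n, hn⟩ := exists_pow_zero x M (s := insert j s) (m := m) (by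
    rw [← res_mkB x M (subset_insert j s), ← hm, map_smul, h, smul_zero])
  refine ⟨n, (bijective_smul x M (s := s) (a := cx x s ^ (n + k)) ⟨n + k, dvd_rfl⟩).1 ?_⟩
  show cx x s ^ (n + k) • x j ^ n • v = cx x s ^ (n + k) • (0 : (locSys x M).B s)
  rw [smul_zero, pow_add, mul_smul, smul_comm (cx x s ^ k) (x j ^ n), hm, ← map_smul, ← map_smul, smul_smul,
    ← mul_pow, mul_comm, show x j * cx x s = cx x (insert j s) from (prod_insert hj).symm, hn, map_zero]

/-- Cochains of the augmented Čech complex. -/
noncomputable def Aug (q : ℕ) : Submodule S (X (locSys x M)) :=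
  supp (locSys x M) fun s T => s.card = q ∧ T = ∅

/-- The predecessors in the augmented complex. -/
noncomputable def AugPred (q : ℕ) : Submodule S (X (locSys x M)) :=
  supp (locSys x M) fun s T => s.card + 1 = q ∧ T = ∅

variable {M} in
theorem dC_mapB {N : Type u} [AddCommGroup N] [Module S N] (φ : M →ₗ[S] N) (z : X (locSys x M)) :
    dC (locSys x N) (fun s T => mapB x φ s (z s T)) = fun s T => mapB x φ s (dC (locSys x M) z s T) :=
  funext fun s => funext fun T => by simp only [dC_apply, map_sum, map_zsmul, res_mapB]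

theorem dC_mem_Aug {q : ℕ} {w : X (locSys x M)} (hw : w ∈ AugPred x M q) : dC (locSys x M) w ∈ Aug x M q := by
  intro s T hn
  rw [dC_apply]
  refine sum_eq_zero fun j hj => ?_
  rw [hw (s.erase j) T fun h => hn ⟨by have := card_erase_add_one hj; omega, h.2⟩, map_zero, smul_zero]

variable {M} in
/-- Every class is killed by a power of each member of the cover. -/
theorem exists_pow_smul_exact (j : Fin d) {q : ℕ} {z : X (locSys x M)} (hz : z ∈ Aug x M q)
    (hdz : dC (locSys x M) z = 0) : ∃ (N : ℕ) (w : X (locSys x M)), w ∈ AugPred x M q ∧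
      x j ^ N • z = dC (locSys x M) w := by
  classical
  let P := locSys x M
  choose n v hv using fun (s : Finset (Fin d)) (hj : j ∉ s) => exists_res_eq x hj (z (insert j s) ∅)
  let N := Finset.univ.sup fun s : Finset (Fin d) => if h : j ∉ s then n s h else 0
  have hN : ∀ s (h : j ∉ s), n s h ≤ N := fun s h => by
    have := le_sup (f := fun s : Finset (Fin d) => if h : j ∉ s then n s h else 0) (mem_univ s)
    simpa only [dif_pos h] using this
  let w : X P := fun s T => if h : j ∉ s ∧ s.card + 1 = q ∧ T = ∅ then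
    sg j s • x j ^ (N - n s h.1) • v s h.1 else 0
  have hw : w ∈ AugPred x M q := fun s T hn => dif_neg fun h => hn h.2
  let e := x j ^ N • z - dC P w
  have he : e ∈ Aug x M q := sub_mem (Submodule.smul_mem _ _ hz) (dC_mem_Aug x M hw)
  have hej : ∀ s T, j ∈ s → e s T = 0 := fun s T hjs => by
    by_cases hs : s.card = q ∧ T = ∅
    · obtain ⟨hc, rfl⟩ := hs
      have hje : j ∉ s.erase j := notMem_erase j s
      have hins : insert j (s.erase j) = s := insert_erase hjs
      show x j ^ N • z s ∅ - dC P w s ∅ = 0
      rw [dC_apply, sum_eq_single j]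
      · have hwj : w (s.erase j) ∅ = sg j (s.erase j) • x j ^ (N - n _ hje) • v _ hje :=
          dif_pos ⟨hje, by have := card_erase_add_one hjs; omega, rfl⟩
        rw [hwj, map_zsmul, smul_smul, sg_sq, one_smul, map_smul, sub_eq_zero]
        have key : ∀ (s' : Finset (Fin d)) (e' : insert j (s.erase j) = s'),
            P.res (e' ▸ subset_insert j (s.erase j)) (v _ hje) = x j ^ n _ hje • z s' ∅ := by
          rintro _ rfl; exact (hv _ hje).symm
        rw [show P.res (erase_subset j s) (v _ hje) = x j ^ n _ hje • z s ∅ from key s hins, smul_smul, ← pow_add,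
          Nat.sub_add_cancel (hN _ hje)]
      · intro i _ hij
        rw [show w (s.erase i) ∅ = 0 from dif_neg fun h => h.1 (mem_erase.2 ⟨fun e => hij e.symm, hjs⟩),
          map_zero, smul_zero]
      · exact fun h => absurd hjs h
    · exact he s T hs
  have hde : dC P e = 0 := by
    show dC P (x j ^ N • z - dC P w) = 0
    rw [map_sub, map_smul, hdz, dC_dC, smul_zero, sub_zero]
  have hres : ∀ s T, j ∉ s → P.res (subset_insert j s) (e s T) = 0 := fun s T hjs => by
    have h := congrFun (congrFun hde (insert j s)) T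
    rw [dC_apply, sum_eq_single j] at h
    · have key : ∀ (s' : Finset (Fin d)) (e' : s' = s) (h' : s' ⊆ insert j s),
          P.res h' (e s' T) = P.res (subset_insert j s) (e s T) := by rintro _ rfl _; rfl
      rw [key _ (erase_insert hjs)] at h
      simp only [Pi.zero_apply] at h
      have h' := congrArg (fun y => sg j ((insert j s).erase j) • y) h
      simp only [smul_smul, sg_sq, one_smul, smul_zero] at h'
      exact h'
    · intro i hi hij
      rw [hej _ T (mem_erase.2 ⟨fun e => hij e.symm, mem_insert_self j s⟩), map_zero, smul_zero]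
    · exact fun h' => absurd (mem_insert_self j s) h'
  choose n' hn' using fun (s : Finset (Fin d)) (hjs : j ∉ s) => exists_kill_of_res x hjs (hres s ∅ hjs)
  let N' := Finset.univ.sup fun s : Finset (Fin d) => if h : j ∉ s then n' s h else 0
  refine ⟨N' + N, x j ^ N' • w, Submodule.smul_mem _ _ hw, ?_⟩
  have h0 : x j ^ N' • e = 0 := funext fun s => funext fun T => by
    show x j ^ N' • e s T = 0
    by_cases hjs : j ∈ s
    · rw [hej s T hjs, smul_zero]
    · by_cases hT : T = ∅
      · subst hT
        have hle : n' s hjs ≤ N' := by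
          have := le_sup (f := fun s : Finset (Fin d) => if h : j ∉ s then n' s h else 0) (mem_univ s)
          simpa only [dif_pos hjs] using this
        rw [← Nat.sub_add_cancel hle, pow_add, mul_smul, hn' s hjs, smul_zero]
      · rw [he s T fun h => hT h.2, smul_zero]
  rw [map_smul, pow_add, mul_smul]
  rw [smul_sub, sub_eq_zero] at h0
  exact h0

/-- **Exactness of the augmented complex** below the length of a weakly regular sequence in the cover. -/
theorem exact_of_regular (L : List (Fin d)) : ∀ (M : Type u) [AddCommGroup M] [Module S M],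
    RingTheory.Sequence.IsWeaklyRegular M (L.map x) → ∀ q < L.length, ∀ z ∈ Aug x M q,
      dC (locSys x M) z = 0 → ∃ w ∈ AugPred x M q, z = dC (locSys x M) w := by
  induction L with
  | nil => intro M _ _ _ q hq; exact absurd hq (Nat.not_lt_zero _)
  | cons j L ih =>
    intro M _ _ hreg q hq z hz hdz
    rw [List.map_cons, RingTheory.Sequence.isWeaklyRegular_cons_iff] at hreg
    obtain ⟨hj, hreg'⟩ := hreg
    have hinj : ∀ s, Function.Injective fun y : (locSys x M).B s => x j • y := fun s => by
      have h := IsLocalizedModule.map_injective (Submonoid.powers (cx x s)) (mkB x M s) (mkB x M s)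
        (x j • LinearMap.id : M →ₗ[S] M) (fun _ _ e => hj e)
      have e : IsLocalizedModule.map (Submonoid.powers (cx x s)) (mkB x M s) (mkB x M s) (x j • LinearMap.id) =
          (x j • LinearMap.id : (locSys x M).B s →ₗ[S] (locSys x M).B s) := by
        rw [map_smul, IsLocalizedModule.map_id]
      rw [e] at h
      exact h
    let M' := QuotSMulTop (x j) M
    let π : M →ₗ[S] M' := Submodule.mkQ _
    have hπ : Function.Surjective π := Submodule.mkQ_surjective _
    have hex : Function.Exact (x j • LinearMap.id : M →ₗ[S] M) π := fun m => by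
      show Submodule.Quotient.mk m = 0 ↔ _
      rw [Submodule.Quotient.mk_eq_zero, Submodule.mem_smul_pointwise_iff_exists]
      exact ⟨fun ⟨b, _, hb⟩ => ⟨b, hb⟩, fun ⟨b, hb⟩ => ⟨b, trivial, hb⟩⟩
    have hsurjB : ∀ s, Function.Surjective (mapB x π s) := fun s =>
      IsLocalizedModule.map_surjective _ _ _ _ hπ
    have hexB : ∀ s (y : (locSys x M).B s), mapB x π s y = 0 → ∃ y', x j • y' = y := fun s y hy => by
      have h := IsLocalizedModule.map_exact (Submonoid.powers (cx x s)) (mkB x M s) (mkB x M s) (mkB x M' s)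
        (x j • LinearMap.id : M →ₗ[S] M) π hex y
      obtain ⟨y', hy'⟩ := h.1 hy
      rw [map_smul, IsLocalizedModule.map_id] at hy'
      exact ⟨y', hy'⟩
    suffices step : ∀ v ∈ Aug x M q, dC (locSys x M) v = 0 →
        (∃ w ∈ AugPred x M q, x j • v = dC (locSys x M) w) → ∃ w ∈ AugPred x M q, v = dC (locSys x M) w by
      obtain ⟨N, w, hw, he⟩ := exists_pow_smul_exact x j hz hdz
      clear hq
      induction N generalizing w with
      | zero => exact ⟨w, hw, by simpa using he⟩
      | succ N ihN =>
        obtain ⟨w', hw', he'⟩ := step (x j ^ N • z) (Submodule.smul_mem _ _ hz) (by rw [map_smul, hdz, smul_zero])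
          ⟨w, hw, by rw [smul_smul, ← pow_succ', he]⟩
        exact ihN w' hw' he'
    rintro v hv hdv ⟨w, hw, he⟩
    cases q with
    | zero =>
      have hw0 : w = 0 := funext fun s => funext fun T => hw s T fun h => by omega
      rw [hw0, map_zero] at he
      refine ⟨0, zero_mem _, ?_⟩
      rw [map_zero]
      funext s T
      refine hinj s ?_
      show x j • v s T = x j • (0 : (locSys x M).B s)
      rw [smul_zero]
      exact congrFun (congrFun he s) T
    | succ q =>
      let wb : X (locSys x M') := fun s T => mapB x π s (w s T)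
      have hwb : wb ∈ Aug x M' q := fun s T hn => by
        show mapB x π s (w s T) = 0
        rw [hw s T fun h => hn ⟨by omega, h.2⟩, map_zero]
      have hdwb : dC (locSys x M') wb = 0 := by
        show dC (locSys x M') (fun s T => mapB x π s (w s T)) = 0
        rw [dC_mapB, ← he]
        funext s T
        show mapB x π s (x j • v s T) = 0
        rw [map_smul]
        obtain ⟨n, m, hm⟩ := exists_num x M' (mapB x π s (v s T))
        refine (bijective_smul x M' (s := s) (a := cx x s ^ n) ⟨n, dvd_rfl⟩).1 ?_
        show cx x s ^ n • x j • mapB x π s (v s T) = cx x s ^ n • (0 : (locSys x M').B s)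
        rw [smul_zero, smul_comm, hm, ← map_smul]
        obtain ⟨m, rfl⟩ := hπ m
        rw [← map_smul, show π (x j • m) = 0 from (hex _).2 ⟨m, rfl⟩, map_zero]
      obtain ⟨u, hu, hue⟩ := ih M' hreg' q (Nat.lt_of_succ_lt_succ hq) wb hwb hdwb
      choose ul hul using fun s T => hsurjB s (u s T)
      let ul' : X (locSys x M) := fun s T => if s.card + 1 = q ∧ T = ∅ then ul s T else 0
      have hul' : ul' ∈ AugPred x M q := fun s T hn => if_neg hn
      have hule : ∀ s T, mapB x π s (ul' s T) = u s T := fun s T => by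
        simp only [ul']
        split_ifs with h
        · exact hul s T
        · rw [map_zero, hu s T h]
      have hk : ∀ s T, ∃ y, x j • y = w s T - dC (locSys x M) ul' s T := fun s T => hexB s _ (by
        rw [map_sub, sub_eq_zero]
        have h1 := congrFun (congrFun (dC_mapB x π ul') s) T
        rw [← h1, show (fun s T => mapB x π s (ul' s T)) = u from funext fun s => funext fun T => hule s T, ← hue])
      choose y hy using hk
      let y' : X (locSys x M) := fun s T => if s.card + 1 = q + 1 ∧ T = ∅ then y s T else 0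
      have hy' : y' ∈ AugPred x M (q + 1) := fun s T hn => if_neg hn
      have hy'e : x j • y' = w - dC (locSys x M) ul' := funext fun s => funext fun T => by
        show x j • y' s T = w s T - dC (locSys x M) ul' s T
        simp only [y']
        split_ifs with h
        · exact hy s T
        · rw [smul_zero, hw s T h, dC_mem_Aug x M hul' s T fun h' => h ⟨by omega, h'.2⟩, sub_zero]
      refine ⟨y', hy', funext fun s => funext fun T => hinj s ?_⟩
      show x j • v s T = x j • dC (locSys x M) y' s T
      have h2 : x j • dC (locSys x M) y' = x j • v := by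
        rw [← map_smul, hy'e, map_sub, dC_dC, sub_zero, he]
      exact (congrFun (congrFun h2 s) T).symm

variable {M} in
/-- The constant cochains. -/
noncomputable def oneC : M →ₗ[S] X (locSys x M) where
  toFun m s T := if s.card = 1 ∧ T = ∅ then mkB x M s m else 0
  map_add' a b := funext fun s => funext fun T => by
    simp only [Pi.add_apply]; split_ifs <;> simp [map_add]
  map_smul' c a := funext fun s => funext fun T => by
    simp only [Pi.smul_apply, RingHom.id_apply]; split_ifs <;> simp [map_smul]

variable {M} in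
theorem oneC_apply (m : M) (s : Finset (Fin d)) (T : Finset ℕ) :
    oneC x m s T = if s.card = 1 ∧ T = ∅ then mkB x M s m else 0 := rfl

theorem oneC_mem_Deg (m : M) : oneC x m ∈ Deg (locSys x M) 0 0 := fun s T hn =>
  if_neg fun h => hn ⟨card_pos.1 (by omega), by rw [h.2]; exact empty_subset _, by rw [h.1, h.2]; simp⟩

theorem oneC_mem_Zc (t : ℕ → S) (m : M) : oneC x m ∈ Zc (locSys x M) t 0 0 := by
  refine ⟨oneC_mem_Deg x M m, ?_⟩
  show D (locSys x M) t 0 (oneC x m) = 0
  let w : X (locSys x M) := fun s T => if s.card + 1 = 1 ∧ T = ∅ then mkB x M s m else 0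
  have he : dC (locSys x M) w = oneC x m := funext fun s => funext fun T => by
    rw [dC_apply, oneC_apply]
    by_cases h : s.card = 1 ∧ T = ∅
    · obtain ⟨hc, rfl⟩ := h
      obtain ⟨a, rfl⟩ := card_eq_one.1 hc
      rw [if_pos ⟨rfl, rfl⟩, sum_singleton]
      have hw : w (({a} : Finset (Fin d)).erase a) ∅ = mkB x M _ m := if_pos ⟨by simp, rfl⟩
      rw [hw, res_mkB, show sg a (({a} : Finset (Fin d)).erase a) = 1 by simp [sg], one_smul]
    · rw [if_neg h]
      refine sum_eq_zero fun j hj => ?_
      have hw : w (s.erase j) T = 0 := if_neg fun hh => h ⟨by have := card_erase_add_one hj; omega, hh.2⟩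
      rw [hw, map_zero, smul_zero]
  funext s T
  rw [D_apply, dK_apply, range_zero, Finset.empty_sdiff, sum_empty, smul_zero, add_zero, ← he, dC_dC]

theorem dC_eq_zero_of_Zc {t : ℕ → S} {P : Sys S d} {i : ℤ} {z : X P} (hz : z ∈ Zc P t 0 i) : dC P z = 0 :=
  funext fun s => funext fun T => by
    have h := congrFun (congrFun (show D P t 0 z = 0 from hz.2) s) T
    rw [D_apply, dK_apply, range_zero, Finset.empty_sdiff, sum_empty, smul_zero, add_zero] at h
    exact h

/-- Cohomology at the bottom of the sequence. -/
theorem Zc_zero_le (t : ℕ → S) (L : List (Fin d)) (hreg : RingTheory.Sequence.IsWeaklyRegular M (L.map x)) :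
    (∀ i : ℤ, 1 ≤ i → i + 2 ≤ L.length → Zc (locSys x M) t 0 i ≤ Bd (locSys x M) t 0 i) ∧
      (2 ≤ L.length → Zc (locSys x M) t 0 0 ≤ LinearMap.range (oneC x (M := M))) := by
  have hsupp : ∀ i : ℤ, ∀ z ∈ Zc (locSys x M) t 0 i, ∀ q : ℕ, (q : ℤ) = i + 1 → z ∈ Aug x M q :=
    fun i z hz q hq s T hn => eq_zero_of_not hz.1 fun ⟨a, b, c⟩ => by
      rw [range_zero, subset_empty] at b
      subst b
      refine hn ⟨?_, rfl⟩
      simp only [card_empty, Nat.cast_zero, sub_zero] at c
      omega
  refine ⟨fun i hi hiL z hz => ?_, fun hL z hz => ?_⟩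
  · obtain ⟨n, rfl⟩ := Int.eq_ofNat_of_zero_le (show 0 ≤ i by omega)
    obtain ⟨w, hw, e⟩ := exact_of_regular x L M hreg (n + 1) (by omega) z (hsupp n z hz (n + 1) (by push_cast; rfl))
      (dC_eq_zero_of_Zc hz)
    refine ⟨w, fun s T hn => hw s T fun ⟨a, b⟩ => hn ⟨card_pos.1 (by omega), by rw [b]; exact empty_subset _, by
      rw [b]; simp only [card_empty, Nat.cast_zero, sub_zero]; omega⟩, ?_⟩
    funext s T
    rw [D_apply, dK_apply, range_zero, Finset.empty_sdiff, sum_empty, smul_zero, add_zero, e]
  · obtain ⟨w, hw, e⟩ := exact_of_regular x L M hreg 1 (by omega) z (hsupp 0 z hz 1 rfl) (dC_eq_zero_of_Zc hz)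
    obtain ⟨k, m, hm⟩ := exists_num x M (w ∅ ∅)
    rw [show cx x (∅ : Finset (Fin d)) = 1 from prod_empty, one_pow, one_smul] at hm
    refine ⟨m, ?_⟩
    rw [e]
    funext s T
    rw [oneC_apply, dC_apply]
    by_cases h : s.card = 1 ∧ T = ∅
    · obtain ⟨hc, rfl⟩ := h
      obtain ⟨a, rfl⟩ := card_eq_one.1 hc
      rw [if_pos ⟨rfl, rfl⟩, sum_singleton,
        res_erase (locSys x M) (fun u => w u ∅) (erase_singleton a) (erase_subset _ _) (empty_subset _)]
      rw [hm, res_mkB, show sg a (({a} : Finset (Fin d)).erase a) = 1 by simp [sg], one_smul]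
    · rw [if_neg h]
      refine (sum_eq_zero fun j hj => ?_).symm
      rw [hw (s.erase j) T fun hh => h ⟨by have := card_erase_add_one hj; omega, hh.2⟩, map_zero, smul_zero]

/-- Vanishing and generators for all lengths of the sequence. -/
theorem Zc_le_of_regular [IsNoetherianRing S] [Module.Finite S M] (t : ℕ → S) (L : List (Fin d))
    (hreg : RingTheory.Sequence.IsWeaklyRegular M (L.map x)) : ∀ m : ℕ,
    (∀ i : ℤ, 1 ≤ i → i + m + 2 ≤ L.length → Zc (locSys x M) t m i ≤ Bd (locSys x M) t m i) ∧
    (m + 2 ≤ L.length → Zc (locSys x M) t m 0 ≤ LinearMap.range (oneC x (M := M)) ⊔ Bd (locSys x M) t m 0) ∧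
    (∀ i : ℤ, i + m + 2 ≤ L.length → FinH (locSys x M) t m i) := by
  intro m
  induction m with
  | zero =>
    obtain ⟨h1, h2⟩ := Zc_zero_le x M t L hreg
    refine ⟨fun i hi h => h1 i hi (by simpa using h), fun h => (h2 (by simpa using h)).trans le_sup_left, fun i h => ?_⟩
    rcases lt_trichotomy i 0 with hneg | rfl | hpos
    · refine FinH.of_le_Bd _ _ fun z hz => ?_
      have := hz.1
      rw [Deg_eq_bot_of_neg _ hneg] at this
      rw [show z = 0 from (Submodule.mem_bot S).1 this]
      exact zero_mem _
    · exact ⟨LinearMap.range (oneC x (M := M)), by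
        rw [LinearMap.range_eq_map]; exact Module.Finite.fg_top.map _,
        (h2 (by omega)).trans le_sup_left⟩
    · exact FinH.of_le_Bd _ _ (h1 i hpos (by omega))
  | succ m ih =>
    obtain ⟨h1, h0, hf⟩ := ih
    refine ⟨fun i hi h => Zc_le_Bd_succ _ t (h1 i hi (by omega)) (h1 (i + 1) (by omega) (by omega)), fun h w hw => ?_,
      fun i h => FinH.up _ t (hf i (by omega)) (hf (i + 1) (by omega))⟩
    obtain ⟨z, hz, hwz⟩ := exists_low _ t hw (h1 (0 + 1) (by omega) (by omega) (pr_mem_Zc _ t hw))
    rw [← add_sub_cancel z w]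
    refine add_mem ?_ (Submodule.mem_sup_right hwz)
    exact (sup_le_sup_left (Bd_le_succ (locSys x M) t (m := m) 0) (LinearMap.range (oneC x (M := M))))
      (h0 (by omega) hz)

end Groth.Agent.Lef23.Kosz
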