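import Groth.Agent.Lef23.Kosz.Compare
import Groth.Agent.Lef23.Kosz.Reg
import Mathlib.RingTheory.Regular.Flat

/-!
# Compatible families on a formal punctured spectrum form a finite module with the expected localisations
-/

set_option autoImplicit false
set_option linter.unusedSectionVars false

universe u

open Finset

namespace Groth.Agent.Lef23.Kosz

variable {S : Type u} [CommRing S] {d : ℕ}

theorem ColAR_congr {P : Sys S d} {t t' : ℕ → S} {r : ℕ} {J : Ideal S} {n : ℕ} (h : ∀ k < r, t k = t' k)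
    (hP : ColAR P t r J n) : ColAR P t' r J n := fun s hs q z h1 h2 h3 => by
  obtain ⟨w, a, b, c⟩ := hP s hs q z h1 h2 (by rw [dK_congr t h]; exact h3)
  exact ⟨w, a, b, by rw [← dK_congr t h]; exact c⟩

theorem acyc_of_colAR {P : Sys S d} {t : ℕ → S} {r : ℕ} {J : Ideal S} {n : ℕ} (htJ : ∀ k < r, t k ∈ J)
    (hP : ColAR P t r J n) : Acyc P t J r n :=
  fun m hm i z hz hF => exists_of_mem_Fil P t J r n htJ hP m hm i z hz hF

theorem dK_map {M N : Type u} [AddCommGroup M] [Module S M] [AddCommGroup N] [Module S N] (t : ℕ → S) (m : ℕ)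
    (φ : M →ₗ[S] N) (z : Finset ℕ → M) : dK t m (fun T => φ (z T)) = fun T => φ (dK t m z T) :=
  funext fun T => by simp only [dK_apply, map_sum, map_zsmul, map_smul]

theorem map_mem_smul {A B : Type u} [AddCommGroup A] [Module S A] [AddCommGroup B] [Module S B] (I : Ideal S)
    (f : A →ₗ[S] B) {y : A} (hy : y ∈ (I • ⊤ : Submodule S A)) : f y ∈ (I • ⊤ : Submodule S B) := by
  have := Submodule.mem_map_of_mem (f := f) hy
  rw [Submodule.map_smul''] at this
  exact Submodule.smul_mono le_rfl le_top this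

section free

variable (x : Fin d → S)

theorem regular_pi {L : List (Fin d)} (h : RingTheory.Sequence.IsWeaklyRegular S (L.map x)) (k : ℕ) :
    RingTheory.Sequence.IsWeaklyRegular (Fin k → S) (L.map x) :=
  ((TensorProduct.lid S (Fin k → S)).isWeaklyRegular_congr _).1 (h.isWeaklyRegular_rTensor)

theorem exists_colAR_free [IsNoetherianRing S] (t : ℕ → S) (r : ℕ) {J : Ideal S}
    (hJ : J = Ideal.span (t '' ↑(range r))) :
    ∃ n₀, ∀ n, n₀ ≤ n → ∀ k : ℕ, ColAR (locSys x (Fin k → S)) t r J n := by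
  classical
  have hs : ∀ s : Finset (Fin d), ∃ n₀, ∀ n, n₀ ≤ n → ∀ (q : ℕ) (z : Finset ℕ → (locSys x S).B s),
      (∀ T, z T ≠ 0 → T ⊆ range r ∧ T.card = q) →
      (∀ T, z T ∈ (J ^ (n - q) • ⊤ : Submodule S ((locSys x S).B s))) → dK t r z = 0 →
      ∃ w : Finset ℕ → (locSys x S).B s, (∀ T, w T ≠ 0 → T ⊆ range r ∧ T.card = q + 1) ∧
        (∀ T, w T ∈ (J ^ (n - q - 1) • ⊤ : Submodule S ((locSys x S).B s))) ∧ dK t r w = z := fun s => by
    haveI : IsNoetherianRing (Localization (Submonoid.powers (cx x s))) :=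
      IsLocalization.isNoetherianRing (Submonoid.powers (cx x s)) _ inferInstance
    haveI : Module.Finite (Localization (Submonoid.powers (cx x s))) (LocalizedModule (Submonoid.powers (cx x s)) S) :=
      ⟨⟨{LocalizedModule.mkLinearMap (Submonoid.powers (cx x s)) S 1}, by
        rw [Finset.coe_singleton, ← Set.image_singleton]
        exact span_eq_top_of_isLocalizedModule (Localization (Submonoid.powers (cx x s))) (Submonoid.powers (cx x s))
          (LocalizedModule.mkLinearMap (Submonoid.powers (cx x s)) S) (Ideal.span_singleton_one)⟩⟩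
    exact column_AR (C := Localization (Submonoid.powers (cx x s)))
      (N := LocalizedModule (Submonoid.powers (cx x s)) S) t r hJ
  choose n₀ hn₀ using hs
  refine ⟨univ.sup n₀, fun n hn k s _ q z hz hzJ hdz => ?_⟩
  let pr : Fin k → ((locSys x (Fin k → S)).B s →ₗ[S] (locSys x S).B s) := fun l => mapB x (LinearMap.proj l) s
  let inj : Fin k → ((locSys x S).B s →ₗ[S] (locSys x (Fin k → S)).B s) := fun l =>
    mapB x (LinearMap.single S (fun _ : Fin k => S) l) s
  have hid : ∀ y, ∑ l, inj l (pr l y) = y := fun y => by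
    have h := LinearMap.congr_fun (f := ∑ l, inj l ∘ₗ pr l) (g := LinearMap.id)
      (IsLocalizedModule.ext (Submonoid.powers (cx x s)) (mkB x (Fin k → S) s) (isUnit_powers x _ subset_rfl)
        (LinearMap.ext fun v => ?_)) y
    · simpa using h
    · show (∑ l, inj l ∘ₗ pr l) (mkB x (Fin k → S) s v) = mkB x (Fin k → S) s v
      rw [LinearMap.sum_apply]
      simp only [LinearMap.comp_apply, pr, inj, mapB_mk]
      rw [← map_sum]
      exact congrArg _ (Finset.univ_sum_single v)
  choose w hw1 hw2 hw3 using fun l => hn₀ s n (le_trans (le_sup (mem_univ s)) hn) q (fun T => pr l (z T))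
    (fun T hT => hz T fun h => hT (by simp [h])) (fun T => map_mem_smul _ (pr l) (hzJ T))
    (by rw [dK_map, hdz]; exact funext fun T => map_zero _)
  refine ⟨fun T => ∑ l, inj l (w l T), fun T hT => ?_, fun T => sum_mem fun l _ => map_mem_smul _ (inj l) (hw2 l T), ?_⟩
  · obtain ⟨l, -, hl⟩ := exists_ne_zero_of_sum_ne_zero hT
    exact hw1 l T fun h => hl (by rw [h, map_zero])
  · funext T
    have h : ∀ l, dK t r (fun T => inj l (w l T)) T = inj l (pr l (z T)) := fun l => by
      rw [dK_map, hw3]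
    rw [show (fun T => ∑ l, inj l (w l T)) = ∑ l, fun T => inj l (w l T) from funext fun T => by
      rw [Finset.sum_apply], map_sum, Finset.sum_apply]
    simp only [h, hid]

theorem exists_pow_smul_mem {M : Type u} [AddCommGroup M] [Module S M] (I : Ideal S) {s : Finset (Fin d)} {v : M}
    (h : mkB x M s v ∈ (I • ⊤ : Submodule S ((locSys x M).B s))) :
    ∃ e : ℕ, cx x s ^ e • v ∈ (I • ⊤ : Submodule S M) := by
  have key : ∀ y ∈ (I • ⊤ : Submodule S ((locSys x M).B s)),
      ∃ (e : ℕ) (m : M), m ∈ (I • ⊤ : Submodule S M) ∧ cx x s ^ e • y = mkB x M s m := fun y hy => by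
    refine Submodule.smul_induction_on hy (fun a ha y _ => ?_) fun a b ⟨e, m, hm, he⟩ ⟨e', m', hm', he'⟩ => ?_
    · obtain ⟨e, m, hm⟩ := exists_num x M y
      exact ⟨e, a • m, Submodule.smul_mem_smul ha trivial, by rw [smul_comm, hm, map_smul]⟩
    · refine ⟨e + e', cx x s ^ e' • m + cx x s ^ e • m',
        add_mem (Submodule.smul_mem _ _ hm) (Submodule.smul_mem _ _ hm'), ?_⟩
      rw [map_add, map_smul, map_smul, ← he, ← he', smul_add, smul_smul, smul_smul, ← pow_add, ← pow_add,
        add_comm e' e]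
  obtain ⟨e, m, hm, he⟩ := key _ h
  obtain ⟨l, hl⟩ := exists_pow_zero x M (s := s) (m := cx x s ^ e • v - m) (by
    rw [map_sub, map_smul, he, sub_self])
  refine ⟨l + e, ?_⟩
  rw [smul_sub, smul_smul, ← pow_add, sub_eq_zero] at hl
  rw [hl]
  exact Submodule.smul_mem _ _ hm

end free

theorem Zc_mono {P : Sys S d} {t : ℕ → S} {i : ℤ} {m m' : ℕ} (h : m ≤ m') : Zc P t m i ≤ Zc P t m' i :=
  monotone_nat_of_le_succ (fun l => Zc_le_succ P t (m := l) i) h

theorem smul_mem_Bd_of_mem_span {P : Sys S d} {t : ℕ → S} {r : ℕ} {i : ℤ} {a : S}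
    (ha : a ∈ Ideal.span (t '' ↑(range r))) {z : X P} (hz : z ∈ Zc P t r i) : a • z ∈ Bd P t r i := by
  induction ha using Submodule.span_induction with
  | mem b hb => obtain ⟨k, hk, rfl⟩ := hb; exact smul_mem_Bd P t (mem_range.1 hk) hz
  | zero => rw [zero_smul]; exact zero_mem _
  | add b c _ _ hb hc => rw [add_smul]; exact add_mem hb hc
  | smul b c _ hc => rw [smul_eq_mul, mul_smul]; exact Submodule.smul_mem _ b hc

theorem Bd_single_mem {P : Sys S d} {t : ℕ → S} {r : ℕ} {J : Ideal S} (htJ : ∀ k < r, t k ∈ J) {b : X P}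
    (hb : b ∈ Bd P t r 0) (i : Fin d) : b {i} ∅ ∈ (J • ⊤ : Submodule S (P.B {i})) := by
  obtain ⟨u, hu, rfl⟩ := hb
  rw [D_apply, dC_apply, dK_apply]
  refine add_mem (sum_mem fun j hj => ?_) (zsmul_mem (sum_mem fun k hk => zsmul_mem
    (Submodule.smul_mem_smul (htJ k (mem_range.1 (mem_sdiff.1 hk).1)) Submodule.mem_top) _) _)
  have key : ∀ s', s' = (∅ : Finset (Fin d)) → u s' ∅ = 0 := by rintro _ rfl; exact empty_of_Deg hu ∅
  rw [key _ (by rw [mem_singleton.1 hj, erase_singleton]), map_zero, smul_zero]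
  exact zero_mem _

variable [IsNoetherianRing S] (x : Fin d → S) (t : ℕ → S) (r : ℕ) (J : Ideal S) (P : Sys S d)

/-- The comparison with free systems. -/
def HasCmp : Prop :=
  ∀ (j : Fin d) (n : ℕ), ∃ (N k : ℕ) (α : Mor J n P (locSys x (Fin k → S))) (β : Mor J n (locSys x (Fin k → S)) P),
    IsNat α ∧ IsNat β ∧ ∀ s : Finset (Fin d), s.Nonempty → ∀ (y : P.B s) (v : (locSys x (Fin k → S)).B s),
      α s y = Submodule.Quotient.mk v → β s v = x j ^ N • Submodule.Quotient.mk y

variable (hJ : J = Ideal.span (t '' ↑(range r))) (L : List (Fin d))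
  (hreg : RingTheory.Sequence.IsWeaklyRegular S (L.map x)) (hL : r + 3 ≤ L.length)
  [IsAdicComplete J S] (hBc : ∀ s : Finset (Fin d), s.Nonempty → IsAdicComplete J (P.B s))
  (hunit : ∀ (s : Finset (Fin d)) (j : Fin d), j ∈ s → Function.Bijective fun y : P.B s => x j • y)
  (hAR : ∃ n₀, ∀ n, n₀ ≤ n → ColAR P t r J n) (hcmp : HasCmp x J P)

include hJ hreg hL hBc hunit hAR hcmp in
set_option maxHeartbeats 1600000 in
/-- **Main algebraic theorem.** -/
theorem main : (Zc P t 0 0).FG ∧ ∀ i : Fin d,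
    (∀ y : P.B {i}, ∃ (e : ℕ), ∃ m ∈ Zc P t 0 0, m {i} ∅ - x i ^ e • y ∈ (J • ⊤ : Submodule S (P.B {i}))) ∧
    ∀ m ∈ Zc P t 0 0, m {i} ∅ ∈ (J • ⊤ : Submodule S (P.B {i})) → ∃ e : ℕ, x i ^ e • m ∈ J • Zc P t 0 0 := by
  classical
  have htJ : ∀ k < r, t k ∈ J := fun k hk => hJ ▸ Ideal.subset_span ⟨k, mem_coe.2 (mem_range.2 hk), rfl⟩
  obtain ⟨n₁, hn₁⟩ := hAR
  obtain ⟨n₂, hn₂⟩ := exists_colAR_free x t r hJ
  let n := n₁ + n₂ + 1
  have hP : ColAR P t r J n := hn₁ n (by omega)
  have hQ : ∀ k, ColAR (locSys x (Fin k → S)) t r J n := hn₂ n (by omega)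
  choose N k α β hα hβ hc using fun j => hcmp j n
  let N₀ := univ.sup N
  have hN : ∀ j, N j ≤ N₀ := fun j => le_sup (mem_univ j)
  let t' : ℕ → S := fun l => if l < r then t l else if h : l - r < d then x ⟨l - r, h⟩ ^ N₀ else 1
  have htt' : ∀ l < r, t l = t' l := fun l hl => (if_pos hl).symm
  have htJ' : ∀ l < r, t' l ∈ J := fun l hl => htt' l hl ▸ htJ l hl
  have hP' : Acyc P t' J r n := acyc_of_colAR htJ' (ColAR_congr htt' hP)
  have hQ' : ∀ k, Acyc (locSys x (Fin k → S)) t' J r n := fun k => acyc_of_colAR htJ' (ColAR_congr htt' (hQ k))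
  have claim : ∀ e l : ℕ, l + e = d → ∀ i : ℤ, i + l ≤ 1 → FinH P t' (r + l) i := by
    intro e
    induction e with
    | zero =>
      intro l hl i _
      refine FinH.of_le_Bd _ _ (Zc_le_Bd_of_unit P t' (fun s ⟨j, hj⟩ => ⟨r + j, by have := j.2; omega, ?_⟩) i)
      have e1 : t' (r + j) = x j ^ N₀ := by
        simp only [t']
        rw [if_neg (by omega), dif_pos (show r + (j : ℕ) - r < d by have := j.2; omega)]
        congr 2
        exact Fin.ext (by simp)
      rw [e1]
      clear e1 hl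
      induction N₀ with
      | zero => simp only [pow_zero, one_smul]; exact Function.bijective_id
      | succ M ih =>
        have := (hunit s j hj).comp ih
        simpa only [Function.comp_def, pow_succ', mul_smul] using this
    | succ e ih =>
      intro l hl i hi
      let j : Fin d := ⟨l, by omega⟩
      have e1 : t' (r + l) = x j ^ N₀ := by
        simp only [t']
        rw [if_neg (by omega), dif_pos (show r + l - r < d by omega)]
        congr 2
        exact Fin.ext (by simp [j])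
      have hfQ : FinH (locSys x (Fin (k j) → S)) t' (r + l) i :=
        (Zc_le_of_regular x _ t' L (regular_pi x hreg _) (r + l)).2.2 i (by omega)
      obtain ⟨G, hG, hGle⟩ := exists_fg_smul htJ' (hα j) (hβ j) (hc j) hP' (hQ' _) (Nat.le_add_right r l) hfQ
      refine FinH.torsion P t' ⟨G, hG, fun z hz => ?_⟩ (ih (l + 1) (by omega) (i - 1) (by push_cast; omega))
      rw [e1, ← Nat.sub_add_cancel (hN j), pow_add, mul_smul]
      exact Submodule.smul_mem _ _ (hGle z hz)
  have hfinr : ∀ i : ℤ, i ≤ 1 → FinH P t r i := fun i hi => by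
    obtain ⟨G, hG, hle⟩ := claim d 0 (by omega) i (by simpa using hi)
    refine ⟨G, hG, ?_⟩
    rwa [Nat.add_zero, ← Zc_congr P t htt', ← Bd_congr P t htt'] at hle
  have hfin : ∀ j ≤ r, ∀ i : ℤ, i ≤ 1 → FinH P t j i := fun j hj i hi =>
    (hfinr i hi).complete_le P t J hBc htJ j hj
  have hfg : (Zc P t 0 0).FG := by
    obtain ⟨G, hG, hGZ, hle⟩ := (hfin 0 (Nat.zero_le _) 0 (by norm_num)).exists_le
    rw [Bd_zero_zero, sup_bot_eq] at hle
    rwa [le_antisymm hle hGZ]
  refine ⟨hfg, fun i => ?_⟩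
  -- the comparison at `x i`
  have hPt : Acyc P t J r n := acyc_of_colAR htJ hP
  have hQt : Acyc (locSys x (Fin (k i) → S)) t J r n := acyc_of_colAR htJ (hQ _)
  let Q := locSys x (Fin (k i) → S)
  obtain ⟨hQ1, hQ0, -⟩ := Zc_le_of_regular x (Fin (k i) → S) t L (regular_pi x hreg _) r
  choose g' hg' hgg using fun l : Fin (k i) => exists_rel_Zc (P := Q) (Q := P) (φ := β i) (r := r) htJ (hβ i) hPt
    (m := r) le_rfl (Zc_mono (Nat.zero_le r) (oneC_mem_Zc x _ t (Pi.single l (1 : S))))
  have hone : ∀ v : Fin (k i) → S, Rel (β i) r (oneC x v) (∑ l, v l • g' l) := fun v => by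
    have e : oneC x v = ∑ l, v l • oneC x (Pi.single l (1 : S)) := by
      conv_lhs => rw [show v = ∑ l, v l • Pi.single (M := fun _ : Fin (k i) => S) l (1 : S) from by
        ext a; simp [Finset.sum_apply, Pi.single_apply]]
      rw [map_sum]
      exact sum_congr rfl fun l _ => map_smul _ _ _
    rw [e]
    induction (univ : Finset (Fin (k i))) using Finset.induction with
    | empty => simp only [sum_empty]; exact Rel.zero
    | insert l s hl ih => rw [sum_insert hl, sum_insert hl]; exact ((hgg l).smul (v l)).add ih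
  have hgsum : ∀ v : Fin (k i) → S, ∑ l, v l • g' l ∈ Zc P t r 0 := fun v =>
    sum_mem fun l _ => Submodule.smul_mem _ _ (hg' l)
  -- radical argument
  have hrad : ∀ A : Ideal S, J ≤ A → (∀ p : Ideal S, p.IsPrime → J ≤ p → x i ∉ p → ¬ A ≤ p) →
      ∃ e : ℕ, x i ^ e ∈ A := fun A hJA h => by
    have : x i ∈ A.radical := by
      rw [Ideal.radical_eq_sInf, Submodule.mem_sInf]
      rintro p ⟨hAp, hp⟩
      by_contra hxp
      exact h p hp (hJA.trans hAp) hxp hAp
    exact this
  -- annihilators at a prime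
  have hloc : ∀ p : Ideal S, p.IsPrime → J ≤ p → x i ∉ p →
      (∃ a ∉ p, ∀ z ∈ Zc P t r 0, a • z ∈ Zc P t 0 0 ⊔ Bd P t r 0) ∧
      (∃ a ∉ p, ∀ z ∈ Zc P t 0 0, z ∈ Bd P t r 0 → a • z ∈ J • Zc P t 0 0) := by
    intro p hp hJp hxp
    have htop : ∃ a ∉ p, ∀ z ∈ Zc P t r 1, a • z ∈ Bd P t r 1 :=
      ⟨x i ^ N i, fun h => hxp (hp.mem_of_pow_mem _ h), fun z hz =>
        smul_mem_Bd_of_vanish htJ (hα i) (hβ i) (hc i) hPt hQt le_rfl (hQ1 1 le_rfl (by omega)) hz⟩
    have hk1 := exists_kill_all P t p (i := 1) (fun l hl => hJp (htJ l hl)) (fun j hj => hfin j hj 1 le_rfl) htop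
    have hdes := exists_descend_class P t p (r := r) (i := 0) hk1
    exact ⟨hdes r le_rfl, exists_mem_smul P t p J htJ hdes r le_rfl⟩
  constructor
  · intro y
    obtain ⟨v, hv⟩ := Submodule.Quotient.mk_surjective _ (α i {i} y)
    obtain ⟨e, w, hw⟩ := exists_num x _ v
    let Y := ∑ l, w l • g' l
    have hY : x i ^ (e + N i) • y - Y {i} ∅ ∈ (J • ⊤ : Submodule S (P.B {i})) := by
      have h1 := hone w {i} ∅
      have h2 : β i {i} (oneC x w {i} ∅) = x i ^ (e + N i) • Submodule.Quotient.mk y := by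
        rw [oneC_apply, if_pos ⟨card_singleton i, rfl⟩, ← hw, map_smul, hc i {i} (singleton_nonempty i) y v hv.symm,
          show cx x {i} = x i from prod_singleton _ _, smul_smul, ← pow_add]
      rw [h2, ← Submodule.Quotient.mk_smul, ← Submodule.Quotient.mk_sub, filter_empty, card_empty, Nat.sub_zero] at h1
      exact Submodule.smul_mono_left (Ideal.pow_le_self (by omega)) (mem_of_mk_mem le_rfl h1)
    let A : Ideal S :=
      { carrier := {a | ∃ m ∈ Zc P t 0 0, m {i} ∅ - a • y ∈ (J • ⊤ : Submodule S (P.B {i}))}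
        add_mem' := by
          rintro a b ⟨m, hm, h⟩ ⟨m', hm', h'⟩
          refine ⟨m + m', add_mem hm hm', ?_⟩
          rw [Pi.add_apply, Pi.add_apply, add_smul, add_sub_add_comm]
          exact add_mem h h'
        zero_mem' := ⟨0, zero_mem _, by simp⟩
        smul_mem' := by
          rintro c a ⟨m, hm, h⟩
          refine ⟨c • m, Submodule.smul_mem _ _ hm, ?_⟩
          rw [Pi.smul_apply, Pi.smul_apply, smul_eq_mul, mul_smul, ← smul_sub]
          exact Submodule.smul_mem _ _ h }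
    obtain ⟨e', he'⟩ := hrad A (fun a ha => ⟨0, zero_mem _, by
        simpa using neg_mem (Submodule.smul_mem_smul ha (Submodule.mem_top (x := y)))⟩) fun p hp hJp hxp hAp => by
      obtain ⟨⟨a, ha, haz⟩, -⟩ := hloc p hp hJp hxp
      obtain ⟨m, hm, b, hb, em⟩ := Submodule.mem_sup.1 (haz Y (hgsum w))
      refine (hp.mem_or_mem (hAp (?_ : a * x i ^ (e + N i) ∈ A))).elim ha fun h => hxp (hp.mem_of_pow_mem _ h)
      refine ⟨m, hm, ?_⟩
      have em' : m {i} ∅ + b {i} ∅ = a • Y {i} ∅ := congrFun (congrFun em {i}) ∅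
      rw [show m {i} ∅ - (a * x i ^ (e + N i)) • y = - b {i} ∅ - a • (x i ^ (e + N i) • y - Y {i} ∅) by
        rw [smul_sub, ← em', mul_smul]; abel]
      exact sub_mem (neg_mem (Bd_single_mem htJ hb i)) (Submodule.smul_mem _ _ hY)
    obtain ⟨m, hm, h⟩ := he'
    exact ⟨e', m, hm, h⟩
  · intro m hm hmi
    let A : Ideal S := (J • Zc P t 0 0).comap (LinearMap.toSpanSingleton S (X P) m)
    obtain ⟨e', he'⟩ := hrad A (fun a ha => Submodule.smul_mem_smul ha hm) fun p hp hJp hxp hAp => by
      obtain ⟨-, a, ha, haz⟩ := hloc p hp hJp hxp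
      obtain ⟨y, hy, hmy⟩ := exists_rel_Zc (φ := α i) (r := r) htJ (hα i) hQt (m := r) le_rfl (Zc_mono (Nat.zero_le r) hm)
      obtain ⟨_, ⟨v, rfl⟩, _, ⟨u, hu, rfl⟩, eu⟩ := Submodule.mem_sup.1 (hQ0 (by omega) hy)
      have hvi : mkB x (Fin (k i) → S) {i} v ∈ (J • ⊤ : Submodule S (Q.B {i})) := by
        have h1 := hmy {i} ∅
        rw [filter_empty, card_empty, Nat.sub_zero] at h1
        have h2 : y {i} ∅ ∈ (J • ⊤ : Submodule S (Q.B {i})) := by
          obtain ⟨v₀, hv₀⟩ := Submodule.Quotient.mk_surjective _ (α i {i} (m {i} ∅))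
          have h3 := map_mem_smul J (α i {i}) hmi
          rw [← hv₀] at h3
          have h5 : v₀ ∈ (J • ⊤ : Submodule S (Q.B {i})) := by
            have hmap : (J • ⊤ : Submodule S (Q.B {i})).map (Submodule.mkQ (J ^ n • ⊤)) = J • ⊤ := by
              rw [Submodule.map_smul'', Submodule.map_top, Submodule.range_mkQ]
            rw [← hmap] at h3
            obtain ⟨v', hv', e'⟩ := h3
            have h3' := Submodule.smul_mono_left (N := (⊤ : Submodule S (Q.B {i}))) (Ideal.pow_le_self (I := J) (n := n) (by omega))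
              ((Submodule.Quotient.eq _).1 e')
            have h3'' := sub_mem hv' h3'
            rw [sub_sub_cancel] at h3''
            exact h3''
          rw [← hv₀, ← Submodule.Quotient.mk_sub] at h1
          have h6 := Submodule.smul_mono_left (N := (⊤ : Submodule S (Q.B {i}))) (Ideal.pow_le_self (I := J) (by omega))
            (mem_of_mk_mem le_rfl h1)
          have h8 := sub_mem h5 h6
          rw [sub_sub_cancel] at h8
          exact h8
        rw [← eu, Pi.add_apply, Pi.add_apply, oneC_apply, if_pos ⟨card_singleton i, rfl⟩] at h2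
        have h9 := sub_mem h2 (Bd_single_mem htJ (D_mem_Bd Q t hu) i)
        rw [add_sub_cancel_right] at h9
        exact h9
      obtain ⟨e, he⟩ := exists_pow_smul_mem x J hvi
      rw [show cx x {i} = x i from prod_singleton _ _] at he
      have hvl : ∀ l, x i ^ e * v l ∈ J := fun l => by
        have h7 : x i ^ e * v l ∈ (J • ⊤ : Submodule S S) :=
          map_mem_smul J (LinearMap.proj (R := S) (φ := fun _ : Fin (k i) => S) l) he
        rw [smul_eq_mul, Ideal.mul_top] at h7
        exact h7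
      have hb := smul_sub_mem_Bd htJ (hβ i) (hc i) hPt le_rfl (Zc_mono (Nat.zero_le r) hm) hmy hu eu.symm
        (hgsum v) (hone v)
      have hcm : (x i ^ e * x i ^ N i) • m ∈ Bd P t r 0 := by
        rw [mul_smul, ← sub_add_cancel (x i ^ N i • m) (∑ l, v l • g' l), smul_add, smul_sum]
        refine add_mem (Submodule.smul_mem _ _ hb) (sum_mem fun l _ => ?_)
        rw [smul_smul]
        exact smul_mem_Bd_of_mem_span (hJ ▸ hvl l) (hg' l)
      refine (hp.mem_or_mem (hAp (?_ : a * (x i ^ e * x i ^ N i) ∈ A))).elim ha fun h => ?_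
      · show (a * (x i ^ e * x i ^ N i)) • m ∈ J • Zc P t 0 0
        rw [mul_smul]
        exact haz _ (Submodule.smul_mem _ _ hm) hcm
      · rcases hp.mem_or_mem h with h | h <;> exact hxp (hp.mem_of_pow_mem _ h)
    exact ⟨e', he'⟩

end Groth.Agent.Lef23.Kosz
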