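import Groth.Agent.Lef23.Kosz.Lev
import Groth.Agent.FEtFF.FormalExtend

/-!
# Extension of a cover of a punctured complete intersection to a neighbourhood
-/

set_option autoImplicit false
set_option linter.style.haveILetI false
set_option linter.unusedSectionVars false
set_option backward.isDefEq.respectTransparency.types false
set_option backward.isDefEq.respectTransparency false
universe u

open CategoryTheory CategoryTheory.Limits AlgebraicGeometry TensorProduct
open Groth.Agent.FEtFF Groth.Agent.FEtFF.Cech Groth.Agent.FEtFF.FormalLimit Groth.Agent.FEtFF.Hypersurface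

namespace Groth.Agent.Lef23.Kosz.Tower

variable {A : Type u} [CommRing A] [IsNoetherianRing A] [IsLocalRing A] (I₀ : Ideal A)

set_option maxHeartbeats 1600000 in
/-- Extension of a finite étale cover of the punctured spectrum of `A / I₀` to a neighbourhood, when `I₀` is
generated by `r` elements and `A` has a regular sequence of length at least `r + 3`. -/
theorem exists_extension_nbhd {d : ℕ} (x : Fin d → A) (hxm : ∀ i, x i ∈ IsLocalRing.maximalIdeal A)
    (hcov : ∀ p : Ideal A, p.IsPrime → p ≠ IsLocalRing.maximalIdeal A → ∃ i, x i ∉ p)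
    (ts : ℕ → A) (r : ℕ) (hI : I₀ = Ideal.span (ts '' ↑(Finset.range r))) (Lr : List (Fin d))
    (hreg : RingTheory.Sequence.IsWeaklyRegular A (Lr.map x)) (hL : r + 3 ≤ Lr.length) [IsAdicComplete I₀ A]
    (V₀ : FEt.Cat (T I₀ 0)) :
    ∃ (U' : (Spec (CommRingCat.of A)).Opens) (u' : T I₀ 0 ⟶ (U' : Scheme.{u})) (W : Scheme.{u})
      (w : W ⟶ (U' : Scheme.{u})) (a : V₀.left ⟶ W),
      U' ≤ FEt.puncturedSpec A ∧ u' ≫ U'.ι = toA I₀ 0 ∧ IsFinite w ∧ Etale w ∧ IsPullback a V₀.hom w u' := by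
  obtain ⟨L, cr, alg, hfinL, pr, fl, htr, hpr, hsur, hker⟩ :=
    exists_data I₀ V₀ x hxm ts r hI Lr hreg hL hcov
  let g : Fin d → A := yc x
  have hgm : ∀ i, g i ∈ IsLocalRing.maximalIdeal A := yc_mem x hxm
  have hgcov : ∀ p : Ideal A, p.IsPrime → p ≠ IsLocalRing.maximalIdeal A → ∃ i, g i ∉ p := yc_cov x hcov
  let U := FEt.puncturedSpec A
  let q := hp I₀ 0
  have hψ : ∀ i y, mapA pr (g i) y = liftLoc (fl 0 i) (yc x i) (isUnit_yc I₀ V₀ x 0 i) y := fun i y =>
    AlgHom.congr_fun (algHom_ext_loc (a := mapA pr (g i))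
      (b := liftLoc (fl 0 i) (yc x i) (isUnit_yc I₀ V₀ x 0 i)) fun w => by
      rw [mapA_algebraMap, liftLoc_algebraMap]; exact hpr i w) y
  have hpsurj : ∀ i, Function.Surjective (mapA pr (g i)) := fun i y => by
    obtain ⟨b, hb⟩ := (lev_surj_ker I₀ V₀ x hxm fl htr hsur hker i 0).1 y
    exact ⟨b, (hψ i b).trans hb⟩
  have hpker : ∀ i y, mapA pr (g i) y = 0 → y ∈ (I₀ ^ (0 + 1)).map (algebraMap A (Loc L (g i))) := fun i y hy =>
    (lev_surj_ker I₀ V₀ x hxm fl htr hsur hker i 0).2 y ((hψ i y).symm.trans hy)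
  -- the finite scheme over `A`
  let π : Spec (CommRingCat.of L) ⟶ Spec (CommRingCat.of A) := Spec.map (CommRingCat.ofHom (algebraMap A L))
  haveI : IsFinite π := (IsFinite.SpecMap_iff _).2 (RingHom.finite_algebraMap.2 ‹_›)
  haveI : CompactSpace V₀.left := compactSpace_cover I₀ V₀ 0
  haveI : QuasiSeparatedSpace V₀.left := quasiSeparatedSpace_cover I₀ V₀ 0
  let prH : L →+* Γ(V₀.left, ⊤) := pr.toRingHom
  let a : V₀.left ⟶ Spec (CommRingCat.of L) := V₀.left.toSpecΓ ≫ Spec.map (CommRingCat.ofHom prH)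
  have ha : a ≫ π = V₀.hom ≫ toA I₀ 0 := by
    rw [Category.assoc, ← Spec.map_comp, ← Category.assoc V₀.hom]
    show _ = str (toU I₀ V₀ 0)
    rw [show CommRingCat.ofHom (algebraMap A L) ≫ CommRingCat.ofHom prH =
        (Scheme.ΓSpecIso (CommRingCat.of A)).inv ≫ (str (toU I₀ V₀ 0)).appTop from
      CommRingCat.hom_ext (RingHom.ext fun r => pr.commutes r), Spec.map_comp, ← Category.assoc,
      ← Scheme.toSpecΓ_naturality, Category.assoc, toSpecΓ_SpecMap_ΓSpecIso_inv, Category.comp_id]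
  let κ : V₀.left ⟶ pullback π (toA I₀ 0) := pullback.lift a V₀.hom ha
  haveI : Mono q := mono_hp I₀ 0
  let CL : ∀ i, Spec (CommRingCat.of (Loc L (g i))) ⟶ Spec (CommRingCat.of L) := fun i =>
    Spec.map (CommRingCat.ofHom (algebraMap L (Loc L (g i))))
  let C₀ : ∀ i, Spec (CommRingCat.of (Loc (Sect I₀ V₀ 0) (g i))) ⟶ V₀.left := fun i => chartC I₀ V₀ g hgm 0 (g i) ⟨i, dvd_rfl⟩
  let m : ∀ i, Spec (CommRingCat.of (Loc (Sect I₀ V₀ 0) (g i))) ⟶ Spec (CommRingCat.of (Loc L (g i))) := fun i =>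
    Spec.map (CommRingCat.ofHom (mapA pr (g i)).toRingHom)
  have hm : ∀ i, IsPullback (C₀ i ≫ κ) (m i) (pullback.fst π (toA I₀ 0)) (CL i) := fun i => by
    have hC : C₀ i ≫ a = m i ≫ CL i := by
      rw [← Category.assoc]
      erw [chartC_toSpecΓ]
      rw [← Spec.map_comp, ← Spec.map_comp]
      congr 1
      ext b
      exact (mapA_algebraMap pr (g i) b).symm
    have hCA : (C₀ i ≫ V₀.hom ≫ pullback.snd U.ι q) ≫ hp I₀ 0 =
        Spec.map (CommRingCat.ofHom (algebraMap A (Loc (Sect I₀ V₀ 0) (g i)))) := by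
      refine Eq.trans ?_ (chartC_str I₀ V₀ g hgm 0 (g i) ⟨i, dvd_rfl⟩)
      simp only [C₀, q, str, toU, Category.assoc, pullback.condition]
      rfl
    have hCπ : CL i ≫ π = Spec.map (CommRingCat.ofHom (algebraMap A (Loc L (g i)))) := by
      simp only [CL, π, ← Spec.map_comp]
      rfl
    have h3 := isPullback_of_surjective (I₀ ^ (0 + 1)) (mapA pr (g i)) (hpsurj i) (hpker i)
      (fun a ha => by rw [IsScalarTower.algebraMap_apply A (Sect I₀ V₀ 0) (Loc (Sect I₀ V₀ 0) (g i)), pow_sect I₀ V₀ 0 ha, map_zero]) _ hCA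
    refine IsPullback.of_right (h₁₂ := pullback.snd π (toA I₀ 0)) (v₁₃ := toA I₀ 0) (h₂₂ := π) ?_
      ?_ (IsPullback.of_hasPullback π (toA I₀ 0)).flip
    rotate_left
    · rw [Category.assoc, pullback.lift_fst, hC]
    rw [Category.assoc, pullback.lift_snd, hCπ]
    haveI : IsOpenImmersion (pullback.snd U.ι q) := inferInstance
    have hw : (C₀ i ≫ V₀.hom) ≫ toA I₀ 0 = m i ≫ Spec.map (CommRingCat.ofHom (algebraMap A (Loc L (g i)))) := by
      rw [← hCπ, Category.assoc, ← ha, ← Category.assoc (C₀ i) a, hC, Category.assoc]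
    have hcond : ∀ s : PullbackCone (toA I₀ 0) (Spec.map (CommRingCat.ofHom (algebraMap A (Loc L (g i))))),
        s.snd ≫ Spec.map (CommRingCat.ofHom (algebraMap A (Loc L (g i)))) = (s.fst ≫ pullback.snd U.ι q) ≫ q := fun s => by
      rw [← s.condition, Category.assoc, ← pullback.condition]
    refine ⟨⟨hw⟩, ⟨PullbackCone.IsLimit.mk _ (fun s => h3.lift s.snd (s.fst ≫ pullback.snd U.ι q) (hcond s))
      (fun s => ?_) (fun s => h3.lift_fst _ _ _) (fun s l h1 h2 => ?_)⟩⟩
    · refine (cancel_mono (pullback.snd U.ι q)).1 ?_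
      simp only [Category.assoc]
      exact h3.lift_snd _ _ _
    · refine h3.hom_ext ?_ ?_
      · rw [h3.lift_fst, h2]
      · rw [h3.lift_snd, ← h1]
        simp only [Category.assoc]
  haveI : ∀ i, IsOpenImmersion (C₀ i ≫ κ) := fun i =>
    MorphismProperty.of_isPullback (P := @IsOpenImmersion) (hm i).flip inferInstance
  have hrange : ∀ i, Set.range (C₀ i ≫ κ) =
      (pullback.fst π (toA I₀ 0)) ⁻¹' (PrimeSpectrum.basicOpen (algebraMap A L (g i)) : Set (PrimeSpectrum L)) := fun i => by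
    rw [← PrimeSpectrum.localization_away_comap_range (Loc L (g i))]
    ext p
    refine ⟨?_, fun hp => ?_⟩
    · rintro ⟨s, rfl⟩
      exact ⟨m i s, congrArg (fun φ : Spec (CommRingCat.of (Loc (Sect I₀ V₀ 0) (g i))) ⟶ Spec (CommRingCat.of L) => φ s) (hm i).w.symm⟩
    · obtain ⟨s, hs⟩ := hp
      obtain ⟨y, hy, -⟩ := Scheme.Pullback.exists_preimage_pullback (f := pullback.fst π (toA I₀ 0)) (g := CL i) p s hs.symm
      exact ⟨(hm i).isoPullback.inv y, by rw [← Scheme.Hom.comp_apply, (hm i).isoPullback_inv_fst, hy]⟩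
  have hcov : ∀ p : ↥(pullback π (toA I₀ 0)), ∃ i, p ∈ Set.range (C₀ i ≫ κ) := fun p => by
    let t := pullback.snd π (toA I₀ 0) p
    obtain ⟨i, hi⟩ := hgcov (toA I₀ 0 t).asIdeal (toA I₀ 0 t).2
      fun e => ((pullback.fst U.ι (hp I₀ 0)) t).2 (PrimeSpectrum.ext e)
    refine ⟨i, ?_⟩
    rw [hrange]
    intro hmem'
    refine hi ?_
    have e : toA I₀ 0 t = π (pullback.fst π (toA I₀ 0) p) :=
      congrArg (fun φ : pullback π (toA I₀ 0) ⟶ Spec (CommRingCat.of A) => φ p) pullback.condition.symm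
    rw [e]
    exact hmem'
  haveI : IsIso κ := by
    let 𝒰 : (pullback π (toA I₀ 0)).OpenCover := Scheme.Cover.mkOfCovers _ (fun i => Spec (CommRingCat.of (Loc (Sect I₀ V₀ 0) (g i))))
      (fun i => C₀ i ≫ κ) (fun p => by obtain ⟨i, s, hs⟩ := hcov p; exact ⟨i, s, hs⟩)
      (fun i => inferInstanceAs (IsOpenImmersion (C₀ i ≫ κ)))
    refine (IsZariskiLocalAtTarget.iff_of_openCover (P := MorphismProperty.isomorphisms Scheme.{u}) 𝒰).2 fun i => ?_
    have hsq : IsPullback (𝟙 _) (C₀ i) (C₀ i ≫ κ) κ := by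
      refine IsOpenImmersion.isPullback _ _ _ _ (Category.id_comp _).symm ?_
      refine TopologicalSpace.Opens.ext ?_
      rw [TopologicalSpace.Opens.map_coe, Scheme.Hom.coe_opensRange, Scheme.Hom.coe_opensRange, hrange,
        show Set.range (C₀ i) = _ from range_chart _, ← Set.preimage_comp]
      show (fun v => pullback.fst π (toA I₀ 0) (κ v)) ⁻¹' _ = _
      have e : κ ≫ pullback.fst π (toA I₀ 0) = a := pullback.lift_fst _ _ _
      rw [show (fun v => pullback.fst π (toA I₀ 0) (κ v)) = fun v => a v from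
        funext fun v => congrArg (fun φ : V₀.left ⟶ Spec (CommRingCat.of L) => φ v) e]
      show (a ⁻¹ᵁ PrimeSpectrum.basicOpen (algebraMap A L (g i)) : Set V₀.left) = _
      rw [show a ⁻¹ᵁ PrimeSpectrum.basicOpen (algebraMap A L (g i)) =
          V₀.left.basicOpen (pr (algebraMap A L (g i)) : Γ(V₀.left, ⊤)) by
        rw [← Scheme.toSpecΓ_preimage_basicOpen]
        rfl, pr.commutes]
    show IsIso (pullback.snd κ (C₀ i ≫ κ))
    rw [← hsq.flip.isoPullback_inv_snd]
    infer_instance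
  have hsq0 : IsPullback a V₀.hom π (toA I₀ 0) :=
    IsPullback.of_iso_pullback ⟨ha⟩ (asIso κ) (pullback.lift_fst _ _ _) (pullback.lift_snd _ _ _)
  -- the étale locus
  let O : (Spec (CommRingCat.of L)).Opens := ⨆ W : {W : (Spec (CommRingCat.of L)).Opens // Etale (W.ι ≫ π)}, W.1
  have hO : ∀ P : PrimeSpectrum L, I₀ ≤ P.asIdeal.comap (algebraMap A L) →
      P.asIdeal.comap (algebraMap A L) ≠ IsLocalRing.maximalIdeal A → P ∈ O := by
    intro P hfP hne
    obtain ⟨i, hi⟩ := hgcov _ inferInstance hne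
    let Lg := Loc L (g i)
    haveI : Algebra.FiniteType A Lg := Algebra.FiniteType.trans (inferInstanceAs (Algebra.FiniteType A L))
      (IsLocalization.finiteType_of_monoid_fg (Submonoid.powers (algebraMap A L (g i))) Lg)
    have hP' : P ∈ Set.range (PrimeSpectrum.comap (algebraMap L Lg)) := by
      rw [PrimeSpectrum.localization_away_comap_range Lg (algebraMap A L (g i))]; exact hi
    obtain ⟨P', rfl⟩ := hP'
    haveI : P'.asIdeal.IsPrime := P'.2
    haveI : Algebra.IsEtaleAt A P'.asIdeal := by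
      refine isEtaleAt_of_levels I₀ Lg (fun n => ?_) P'.asIdeal (Ideal.map_le_iff_le_comap.2 fun a ha => ?_)
      · obtain ⟨hs', hk'⟩ := lev_surj_ker I₀ V₀ x hxm fl htr hsur hker i n
        obtain ⟨φ, hφ, het⟩ := flat_loc I₀ V₀ x hxm n (g i) (dvd_cx x (Finset.singleton_nonempty i))
        letI : Algebra (A ⧸ I₀ ^ (n + 1)) (Loc (Sect I₀ V₀ n) (g i)) := φ.toAlgebra
        haveI : Algebra.Etale (A ⧸ I₀ ^ (n + 1)) (Loc (Sect I₀ V₀ n) (g i)) := RingHom.etale_algebraMap.1 het
        haveI : IsScalarTower A (A ⧸ I₀ ^ (n + 1)) (Loc (Sect I₀ V₀ n) (g i)) :=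
          IsScalarTower.of_algebraMap_eq fun a => (RingHom.congr_fun hφ a).symm
        exact etale_tensor_of_surjective (I₀ ^ (n + 1)) _ hs' hk'
      · show algebraMap A Lg a ∈ P'.asIdeal
        rw [IsScalarTower.algebraMap_apply A L Lg]
        exact hfP ha
    haveI : Algebra.FinitePresentation A Lg := Algebra.FinitePresentation.of_finiteType.1 inferInstance
    obtain ⟨r, hr, hret⟩ := Algebra.exists_etale_of_isEtaleAt (R := A) P'.asIdeal
    let jr : Spec (CommRingCat.of (Localization.Away r)) ⟶ Spec (CommRingCat.of L) :=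
      Spec.map (CommRingCat.ofHom (algebraMap Lg (Localization.Away r))) ≫
        Spec.map (CommRingCat.ofHom (algebraMap L Lg))
    have hEt : Etale (jr ≫ π) := by
      have e : jr ≫ π = Spec.map (CommRingCat.ofHom (algebraMap A (Localization.Away r))) := by
        simp only [jr, π, ← Spec.map_comp]
        congr 1
      rw [e]
      exact (HasRingHomProperty.Spec_iff (P := @Etale)).2 (RingHom.etale_algebraMap.2 hret)
    refine TopologicalSpace.Opens.mem_iSup.2 ⟨⟨jr.opensRange, ?_⟩, ?_⟩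
    · rw [show jr.opensRange.ι = jr.isoOpensRange.inv ≫ jr from (jr.isoOpensRange_inv_comp).symm, Category.assoc]
      infer_instance
    · obtain ⟨s, hs⟩ : P' ∈ Set.range (PrimeSpectrum.comap (algebraMap Lg (Localization.Away r))) := by
        rw [PrimeSpectrum.localization_away_comap_range (Localization.Away r) r]; exact hr
      exact ⟨s, congrArg (PrimeSpectrum.comap (algebraMap L Lg)) hs⟩
  -- the neighbourhood
  let U' : (Spec (CommRingCat.of A)).Opens :=
    U ⊓ ⟨(π '' (O : Set (Spec (CommRingCat.of L)))ᶜ)ᶜ, (π.isClosedMap _ O.2.isClosed_compl).isOpen_compl⟩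
  have hT : Set.range (toA I₀ 0) ⊆ Set.range U'.ι := by
    rintro _ ⟨t, rfl⟩
    rw [Scheme.Opens.range_ι]
    have htU : toA I₀ 0 t ∈ U := ((pullback.fst U.ι (hp I₀ 0)) t).2
    refine ⟨htU, ?_⟩
    rintro ⟨P, hPO, hP⟩
    refine hPO (hO P ?_ fun e => htU ?_)
    · have h : toA I₀ 0 t = hp I₀ 0 (pullback.snd U.ι (hp I₀ 0) t) :=
        congrArg (fun φ : T I₀ 0 ⟶ Spec (CommRingCat.of A) => φ t) pullback.condition
      intro a ha
      have h' : a ∈ (π P).asIdeal := by
        rw [hP, h]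
        show Ideal.Quotient.mk _ a ∈ (pullback.snd U.ι (hp I₀ 0) t).asIdeal
        rw [Ideal.Quotient.eq_zero_iff_mem.2 (by rw [zero_add, pow_one]; exact ha)]
        exact Submodule.zero_mem _
      exact h'
    · rw [Set.mem_singleton_iff, ← hP]
      exact PrimeSpectrum.ext e
  let u' := IsOpenImmersion.lift U'.ι (toA I₀ 0) hT
  haveI : Etale (O.ι ≫ π) := by
    refine (IsZariskiLocalAtSource.iff_of_iSup_eq_top (P := @Etale)
      (fun W : {W : (Spec (CommRingCat.of L)).Opens // Etale (W.ι ≫ π)} => O.ι ⁻¹ᵁ W.1) ?_).2 fun W => ?_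
    · rw [← Scheme.Hom.preimage_iSup]
      exact O.ι_preimage_self
    · haveI := W.2
      rw [← Category.assoc, ← morphismRestrict_ι, Category.assoc]
      haveI : IsOpenImmersion (O.ι ∣_ W.1) := inferInstance
      infer_instance
  have hle : π ⁻¹ᵁ U' ≤ O := fun P hP => by
    by_contra h
    exact hP.2 ⟨P, h, rfl⟩
  haveI : Etale ((π ⁻¹ᵁ U').ι ≫ π) := by
    rw [← (Spec (CommRingCat.of L)).homOfLE_ι hle, Category.assoc]
    infer_instance
  haveI hwe : Etale (π ∣_ U') := by
    haveI : Etale (π ∣_ U' ≫ U'.ι) := by rw [morphismRestrict_ι]; infer_instance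
    exact MorphismProperty.of_postcomp (W := @Etale) (W' := @IsOpenImmersion) (π ∣_ U') U'.ι inferInstance this
  have hu' : u' ≫ U'.ι = toA I₀ 0 := IsOpenImmersion.lift_fac _ _ hT
  have hres : IsPullback (π ⁻¹ᵁ U').ι (π ∣_ U') π U'.ι := (isPullback_morphismRestrict π U').flip
  refine ⟨U', u', _, π ∣_ U', hres.lift a (V₀.hom ≫ u') (by rw [Category.assoc V₀.hom, hu']; exact hsq0.w),
    inf_le_left, hu', inferInstance, hwe, ?_⟩
  refine IsPullback.of_right ?_ (hres.lift_snd _ _ _) hres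
  rw [hres.lift_fst, hu']
  exact hsq0

end Groth.Agent.Lef23.Kosz.Tower
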