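import Groth.Agent.Lef23.Kosz.Nbhd
import Groth.Agent.FEtFF.PurityTransfer
import Groth.Agent.FEtFF.PurityRegular
import Groth.Agent.CAlgH3.RegularCore
import Groth.Agent.CAlgH3.CMRing
import Groth.Agent.CAlgH3.QuotientLocal
import Groth.Agent.CAlgH3.Factorial
import Groth.Agent.CAlgH3.RegularHom
import Groth.Agent.CAlgMisc1.Basic
import Mathlib.RingTheory.Ideal.KrullsHeightTheorem

/-!
# Purity for complete quotients of regular local rings by few elements
-/

set_option autoImplicit false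
set_option linter.style.haveILetI false
set_option linter.unusedSectionVars false
set_option backward.isDefEq.respectTransparency.types false
set_option backward.isDefEq.respectTransparency false
universe u

open CategoryTheory CategoryTheory.Limits AlgebraicGeometry
open Groth.Agent.FEtFF

namespace Groth.Agent.Lef23.Kosz.Tower

variable {A : Type u} [CommRing A] [IsNoetherianRing A] [IsLocalRing A] (I₀ : Ideal A)

theorem mem_range_toA
    {U' : (Spec (CommRingCat.of A)).Opens} {u' : T I₀ 0 ⟶ (U' : Scheme.{u})} (hu' : u' ≫ U'.ι = toA I₀ 0)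
    (P : PrimeSpectrum A) (hP : P ≠ IsLocalRing.closedPoint A) (hfP : I₀ ≤ P.asIdeal) : P ∈ U' := by
  let x : (FEt.puncturedSpec A : Scheme.{u}) := ⟨P, hP⟩
  have hr : P ∈ Set.range (PrimeSpectrum.comap (Ideal.Quotient.mk (I₀ ^ (0 + 1)))) := by
    rw [range_comap_of_surjective _ _ Ideal.Quotient.mk_surjective, Ideal.mk_ker, PrimeSpectrum.mem_zeroLocus,
      SetLike.coe_subset_coe, zero_add, pow_one]
    exact hfP
  obtain ⟨r, hr⟩ := hr
  obtain ⟨t, ht, -⟩ := Scheme.Pullback.exists_preimage_pullback (f := (FEt.puncturedSpec A).ι) (g := hp I₀ 0) x r hr.symm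
  have e : toA I₀ 0 t = P := by
    show (FEt.puncturedSpec A).ι ((pullback.fst (FEt.puncturedSpec A).ι (hp I₀ 0)) t) = P
    rw [ht]; rfl
  rw [← e, ← hu']
  exact (u' t).2

set_option maxHeartbeats 1600000 in
/-- A cover of the punctured spectrum of `A / I₀` extends to the punctured spectrum of `A`. -/
theorem exists_extension_punctured {d : ℕ} (x : Fin d → A) (hxm : ∀ i, x i ∈ IsLocalRing.maximalIdeal A)
    (hcov : ∀ p : Ideal A, p.IsPrime → p ≠ IsLocalRing.maximalIdeal A → ∃ i, x i ∉ p)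
    (ts : ℕ → A) (r : ℕ) (hI : I₀ = Ideal.span (ts '' ↑(Finset.range r))) (Lr : List (Fin d))
    (hreg : RingTheory.Sequence.IsWeaklyRegular A (Lr.map x)) (hL : r + 3 ≤ Lr.length) [IsAdicComplete I₀ A]
    (hloc : ∀ (p : Ideal A) [p.IsPrime], ¬ I₀ ≤ p → p ≠ IsLocalRing.maximalIdeal A →
      (∀ q : Ideal A, q.IsPrime → p ≤ q → I₀ ≤ q → q = IsLocalRing.maximalIdeal A) →
      FEt.PurityHolds (Localization.AtPrime p))
    (V₀ : FEt.Cat (T I₀ 0)) :
    ∃ (Y₁ : FEt.Cat (FEt.puncturedSpec A : Scheme.{u})) (b : V₀.left ⟶ Y₁.left),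
      IsPullback b V₀.hom Y₁.hom (pullback.fst (FEt.puncturedSpec A).ι (hp I₀ 0)) := by
  let U := FEt.puncturedSpec A
  obtain ⟨U', u', W, w, a, hle, hu', hwf, hwe, hsq⟩ := exists_extension_nbhd I₀ x hxm hcov ts r hI Lr hreg hL V₀
  -- extend to the punctured spectrum
  let U'' : U.toScheme.Opens := U.ι ⁻¹ᵁ U'
  haveI : IsNoetherian U.toScheme := by
    haveI : QuasiCompact U.ι := inferInstance
    haveI : CompactSpace U.toScheme := QuasiCompact.compactSpace_of_compactSpace U.ι
    constructor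
  let ρ : (U'' : Scheme.{u}) ⟶ U' := U.ι ∣_ U'
  haveI : Surjective ρ := ⟨fun x => ⟨⟨⟨x.1, hle x.2⟩, x.2⟩, Subtype.ext (by rw [morphismRestrict_base]; rfl)⟩⟩
  haveI : IsIso ρ := (isIso_iff_isOpenImmersion_and_surjective _).2 ⟨inferInstance, inferInstance⟩
  haveI : ((FEt.restrict U''.ι)).EssSurj := PurityExtend.essSurj_of_purity_noetherian U'' fun x hx => by
    have hx' : U.ι x ∉ U' := hx
    let P : PrimeSpectrum A := U.ι x
    have hfP : ¬ I₀ ≤ P.asIdeal := fun h => hx' ?_
    · have hP : P.asIdeal ≠ IsLocalRing.maximalIdeal A := fun e => x.2 (PrimeSpectrum.ext e)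
      have hmax : ∀ q : Ideal A, q.IsPrime → P.asIdeal ≤ q → I₀ ≤ q → q = IsLocalRing.maximalIdeal A := by
        intro q hq hPq hfq
        by_contra hne
        refine hx' (((PrimeSpectrum.le_iff_specializes P ⟨q, hq⟩).1 hPq).mem_open U'.2 ?_)
        exact mem_range_toA I₀ hu' ⟨q, hq⟩ (fun e => hne (congrArg PrimeSpectrum.asIdeal e)) hfq
      have h2 := hloc P.asIdeal hfP hP hmax
      exact PurityTransfer.purityHolds_of_ringEquiv
        (((StructureSheaf.stalkIso A P).toRingEquiv : Localization.AtPrime P.asIdeal ≃+* (Spec (CommRingCat.of A)).presheaf.stalk (U.ι x)).trans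
          (asIso (U.ι.stalkMap x)).commRingCatIsoToRingEquiv) h2
    · exact mem_range_toA I₀ hu' P (fun e => x.2 e) h
  let V' : FEt.Cat (U'' : Scheme.{u}) := MorphismProperty.Over.mk ⊤ (w ≫ inv ρ) ⟨inferInstance, inferInstance⟩
  obtain ⟨Y₁, ⟨e₁⟩⟩ := ⟨(FEt.restrict U''.ι).objPreimage V', ⟨(FEt.restrict U''.ι).objObjPreimageIso V'⟩⟩
    |> fun h : ∃ Y, Nonempty ((FEt.restrict U''.ι).obj Y ≅ V') => h
  haveI : IsFinite Y₁.hom := Y₁.prop.1
  haveI : Etale Y₁.hom := Y₁.prop.2
  let c : W ⟶ Y₁.left := e₁.inv.left ≫ pullback.fst Y₁.hom U''.ι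
  have hW : IsPullback c (w ≫ inv ρ) Y₁.hom U''.ι := by
    refine (IsPullback.of_hasPullback Y₁.hom U''.ι).of_iso
      { hom := e₁.hom.left, inv := e₁.inv.left
        hom_inv_id := congrArg (fun k => k.left) e₁.hom_inv_id
        inv_hom_id := congrArg (fun k => k.left) e₁.inv_hom_id } (Iso.refl _) (Iso.refl _) (Iso.refl _) ?_ ?_ (by simp) (by simp)
    · rw [Iso.refl_hom, Category.comp_id]
      show _ = e₁.hom.left ≫ c
      rw [show c = e₁.inv.left ≫ pullback.fst Y₁.hom U''.ι from rfl, ← Category.assoc,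
        show e₁.hom.left ≫ e₁.inv.left = 𝟙 _ from congrArg (fun k => k.left) e₁.hom_inv_id]
      exact (Category.id_comp _).symm
    · rw [Iso.refl_hom, Category.comp_id]
      exact (Over.w e₁.hom.hom).symm
  have h0 : IsPullback a V₀.hom (w ≫ inv ρ) (u' ≫ inv ρ) :=
    hsq.of_iso (Iso.refl _) (Iso.refl _) (Iso.refl _) (asIso ρ).symm (by simp) (by simp) (by simp) (by simp)
  refine ⟨Y₁, a ≫ c, ?_⟩
  have h := h0.paste_horiz hW
  have e : (u' ≫ inv ρ) ≫ U''.ι = pullback.fst (FEt.puncturedSpec A).ι (hp I₀ 0) := by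
    refine (cancel_mono U.ι).1 ?_
    rw [Category.assoc, Category.assoc u']
    have : inv ρ ≫ U''.ι ≫ U.ι = U'.ι := by
      rw [IsIso.inv_comp_eq]
      exact (morphismRestrict_ι U.ι U').symm
    rw [this]
    exact hu'
  rwa [e] at h

/-- Purity passes to `A / I₀`. -/
theorem purityHolds_quotient {d : ℕ} (x : Fin d → A) (hxm : ∀ i, x i ∈ IsLocalRing.maximalIdeal A)
    (hcov : ∀ p : Ideal A, p.IsPrime → p ≠ IsLocalRing.maximalIdeal A → ∃ i, x i ∉ p)
    (ts : ℕ → A) (r : ℕ) (hI : I₀ = Ideal.span (ts '' ↑(Finset.range r))) (Lr : List (Fin d))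
    (hreg : RingTheory.Sequence.IsWeaklyRegular A (Lr.map x)) (hL : r + 3 ≤ Lr.length) [IsAdicComplete I₀ A]
    [IsLocalRing (A ⧸ I₀ ^ (0 + 1))] (hA : FEt.PurityHolds A)
    (hloc : ∀ (p : Ideal A) [p.IsPrime], ¬ I₀ ≤ p → p ≠ IsLocalRing.maximalIdeal A →
      (∀ q : Ideal A, q.IsPrime → p ≤ q → I₀ ≤ q → q = IsLocalRing.maximalIdeal A) →
      FEt.PurityHolds (Localization.AtPrime p)) :
    FEt.PurityHolds (A ⧸ I₀ ^ (0 + 1)) := by
  let R := A ⧸ (I₀ ^ (0 + 1))
  let U := FEt.puncturedSpec A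
  let UR := FEt.puncturedSpec R
  let q := hp I₀ 0
  haveI : IsLocalHom (Ideal.Quotient.mk ((I₀ ^ (0 + 1)))) := IsLocalHom.of_surjective _ Ideal.Quotient.mk_surjective
  obtain ⟨k, HU⟩ := PurityTransfer.exists_punctured_square (Ideal.Quotient.mk ((I₀ ^ (0 + 1)))) (by
    refine le_trans ?_ Ideal.le_radical
    intro b hb
    obtain ⟨a, rfl⟩ := Ideal.Quotient.mk_surjective b
    exact Ideal.mem_map_of_mem _ (fun h => hb (h.map _)))
  refine PurityTransfer.purityHolds_of_forall R fun {V} v _ _ => ?_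
  let V₀ : FEt.Cat (T I₀ 0) := MorphismProperty.Over.mk ⊤ (v ≫ HU.isoPullback.hom) ⟨inferInstance, inferInstance⟩
  obtain ⟨Y₁, b, hb⟩ := exists_extension_punctured I₀ x hxm hcov ts r hI Lr hreg hL hloc V₀
  haveI : IsFinite Y₁.hom := Y₁.prop.1
  haveI : Etale Y₁.hom := Y₁.prop.2
  obtain ⟨Y, y, hy, hy', l, hl⟩ := PurityTransfer.exists_of_purityHolds hA Y₁.hom
  have hV : IsPullback (b ≫ l) v y (UR.ι ≫ q) := by
    refine (hb.paste_horiz hl).of_iso (Iso.refl _) (Iso.refl _) HU.isoPullback.symm (Iso.refl _) (by simp)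
      (by simp [V₀]) (by simp) ?_
    rw [Iso.refl_hom, Category.comp_id, Iso.symm_hom, Iso.eq_inv_comp]
    rw [HU.isoPullback_hom_fst_assoc, HU.w]
  refine ⟨pullback y q, pullback.snd y q, inferInstance, inferInstance,
    pullback.lift (b ≫ l) (v ≫ UR.ι) (by rw [Category.assoc v, hV.w]), ?_⟩
  refine IsPullback.of_right (h₁₂ := pullback.fst y q) (v₁₃ := y) (h₂₂ := q) ?_ (pullback.lift_snd _ _ _)
    (IsPullback.of_hasPullback y q)
  rw [pullback.lift_fst]
  exact hV

end Groth.Agent.Lef23.Kosz.Tower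

namespace Groth.Agent.Lef23.Kosz

open IsLocalRing

/-- Zariski–Nagata purity. -/
theorem purityHolds_regular (S : Type u) [CommRing S] [IsRegularLocalRing S] (h : 2 ≤ (maximalIdeal S).spanFinrank) :
    FEt.PurityHolds S := by
  refine PurityTransfer.purityHolds_of_forall S fun {V} v _ _ => ?_
  obtain ⟨Y, y, hy, hy', i, hi⟩ := Hypersurface.exists_extension_of_regular (maximalIdeal S).spanFinrank S h rfl v
  refine ⟨Y, y, hy, hy', i.inv ≫ pullback.fst _ _, ?_⟩
  refine (IsPullback.of_hasPullback y (FEt.puncturedSpec S).ι).of_iso i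
    (Iso.refl _) (Iso.refl _) (Iso.refl _) ?_ ?_ (by simp) (by simp)
  · simp
  · simp [hi]

/-- A prime `p` with `V(p) ∩ V(s) = {m}` has big height. -/
theorem spanFinrank_atPrime {S : Type u} [CommRing S] [IsRegularLocalRing S] (s : Finset S) (P : Ideal S) [P.IsPrime]
    [IsRegularLocalRing (Localization.AtPrime P)] (hs : Ideal.span (s : Set S) ≤ maximalIdeal S)
    (hmax : ∀ q : Ideal S, q.IsPrime → P ≤ q → Ideal.span (s : Set S) ≤ q → q = maximalIdeal S) :
    (maximalIdeal S).spanFinrank ≤ (maximalIdeal (Localization.AtPrime P)).spanFinrank + s.card := by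
  classical
  haveI := CAlgH3.isCohenMacaulayLocalRing_of_regular (R := S)
  haveI : IsLocalRing (S ⧸ P) := .of_surjective' _ Ideal.Quotient.mk_surjective
  haveI : IsLocalHom (Ideal.Quotient.mk P) := IsLocalHom.of_surjective _ Ideal.Quotient.mk_surjective
  have hdim : ringKrullDim (S ⧸ P) ≤ (s.card : ℕ) := by
    rw [← IsLocalRing.maximalIdeal_height_eq_ringKrullDim]
    refine WithBot.coe_le_coe.2 ((Ideal.height_le_card_of_mem_minimalPrimes_span_finset (s := s.image (Ideal.Quotient.mk P))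
      ⟨⟨inferInstance, ?_⟩, fun q hq _ => ?_⟩).trans (Nat.cast_le.2 Finset.card_image_le))
    · rw [Finset.coe_image, ← Ideal.map_span, Ideal.map_le_iff_le_comap]
      exact hs.trans fun a ha h => ha (isUnit_of_map_unit (Ideal.Quotient.mk P) a h)
    · have hq' := hmax (q.comap (Ideal.Quotient.mk P)) (hq.1.comap _) (fun x hx => by
          rw [Ideal.mem_comap, Ideal.Quotient.eq_zero_iff_mem.2 hx]; exact q.zero_mem)
        (by rw [← Ideal.map_le_iff_le_comap, Ideal.map_span, ← Finset.coe_image]; exact hq.2)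
      intro x hx
      obtain ⟨a, rfl⟩ := Ideal.Quotient.mk_surjective x
      have : a ∈ q.comap (Ideal.Quotient.mk P) := by
        rw [hq']; exact fun h => hx (h.map _)
      exact this
  have h := CAlgH3.height_add_ringKrullDim_quotient P
  rw [← IsRegularLocalRing.spanFinrank_maximalIdeal (R := S)] at h
  rw [← IsLocalization.AtPrime.ringKrullDim_eq_height P (Localization.AtPrime P),
    ← IsRegularLocalRing.spanFinrank_maximalIdeal (R := Localization.AtPrime P)] at h
  have h1 : ((maximalIdeal S).spanFinrank : WithBot ℕ∞) ≤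
      ((maximalIdeal (Localization.AtPrime P)).spanFinrank + s.card : ℕ) := by
    rw [← h, Nat.cast_add]
    exact add_le_add le_rfl hdim
  exact_mod_cast h1

set_option maxHeartbeats 800000 in
/-- Zariski–Nagata purity in virtual dimension at least three, over a complete base. -/
theorem purityHolds_vdim (S : Type u) [CommRing S] [IsRegularLocalRing S] [IsAdicComplete (maximalIdeal S) S]
    (s : Finset S) (hd : s.card + 3 ≤ (maximalIdeal S).spanFinrank) [IsLocalRing (S ⧸ Ideal.span (s : Set S))] :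
    FEt.PurityHolds (S ⧸ Ideal.span (s : Set S)) := by
  classical
  set I : Ideal S := Ideal.span (s : Set S) with hIdef
  have hsm : I ≤ maximalIdeal S :=
    le_maximalIdeal fun h => not_nontrivial_iff_subsingleton.2 (Ideal.Quotient.subsingleton_iff.2 h) inferInstance
  obtain ⟨rs, hlen, hspan, hregrs⟩ := CAlgH3.exists_isRegular_ofList_eq_maximalIdeal (R := S)
  let x : Fin rs.length → S := rs.get
  have hxm : ∀ i, x i ∈ maximalIdeal S := fun i => hspan ▸ Ideal.subset_span (List.get_mem rs i)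
  have hcov : ∀ p : Ideal S, p.IsPrime → p ≠ maximalIdeal S → ∃ i, x i ∉ p := fun p hp hne => by
    by_contra! hcon
    refine hne (le_antisymm (le_maximalIdeal hp.ne_top) ?_)
    rw [← hspan, Ideal.ofList, Ideal.span_le]
    intro a ha
    obtain ⟨i, rfl⟩ := List.get_of_mem ha
    exact hcon i
  let ts : ℕ → S := fun n => s.toList.getD n 0
  have hI : I = Ideal.span (ts '' ↑(Finset.range s.card)) := by
    rw [hIdef]
    congr 1
    ext a
    simp only [Set.mem_image, Finset.coe_range, Set.mem_Iio, ts, Finset.mem_coe]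
    rw [← Finset.mem_toList, List.mem_iff_getElem, ← Finset.length_toList s]
    constructor
    · rintro ⟨n, hn, rfl⟩
      exact ⟨n, hn, List.getD_eq_getElem _ _ _⟩
    · rintro ⟨n, hn, rfl⟩
      exact ⟨n, hn, (List.getD_eq_getElem _ _ _).symm⟩
  haveI : IsAdicComplete I S := CAlgMisc1.isAdicComplete_of_le _ (maximalIdeal S) hsm (IsNoetherian.noetherian _) S
  have hpow : I ^ (0 + 1) = I := pow_one I
  haveI : IsLocalRing (S ⧸ I ^ (0 + 1)) := by rw [hpow]; infer_instance
  have h := Tower.purityHolds_quotient I x hxm hcov ts s.card hI (List.finRange rs.length)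
    (by rw [show x = rs.get from rfl, List.map_get_finRange]; exact hregrs.toIsWeaklyRegular)
    (by rw [List.length_finRange, hlen]; exact hd) (purityHolds_regular S (by omega))
    fun p _ _ _ hmax => by
      haveI : IsRegularLocalRing (Localization.AtPrime p) := CAlgH3.isRegularLocalRing_localization p
      refine purityHolds_regular _ ?_
      have := spanFinrank_atPrime s p hsm hmax
      omega
  exact PurityTransfer.purityHolds_of_ringEquiv (Ideal.quotEquivOfEq hpow) h

end Groth.Agent.Lef23.Kosz
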