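import Groth.Agent.Lef23.Kosz.Compl
import Groth.Agent.CommAlg6.CompletionQuot

/-!
# Purity for quotients of regular local rings by few elements
-/

set_option autoImplicit false
set_option linter.style.haveILetI false
set_option backward.isDefEq.respectTransparency.types false
set_option backward.isDefEq.respectTransparency false
universe u

open CategoryTheory CategoryTheory.Limits AlgebraicGeometry IsLocalRing
open Groth.Agent.FEtFF

namespace Groth.Agent.Lef23.Kosz

theorem spanFinrank_completion (R : Type u) [CommRing R] [IsRegularLocalRing R]
    [IsRegularLocalRing (AdicCompletion (maximalIdeal R) R)] :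
    (maximalIdeal R).spanFinrank = (maximalIdeal (AdicCompletion (maximalIdeal R) R)).spanFinrank := by
  have h : ((maximalIdeal (AdicCompletion (maximalIdeal R) R)).spanFinrank : WithBot ℕ∞) = (maximalIdeal R).spanFinrank := by
    rw [IsRegularLocalRing.spanFinrank_maximalIdeal, IsRegularLocalRing.spanFinrank_maximalIdeal,
      CommAlg6.ringKrullDim_completion]
  exact_mod_cast h.symm

/-- Purity for a quotient of a regular local ring by at most `dim - 3` elements. -/
theorem isEquivalence_quotient {R A : Type u} [CommRing R] [IsRegularLocalRing R] [CommRing A] [IsLocalRing A]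
    [IsNoetherianRing A] (π : R →+* A) (hπ : Function.Surjective π) (t : Finset R)
    (ht : RingHom.ker π = Ideal.span (t : Set R)) (hd : t.card + 3 ≤ (maximalIdeal R).spanFinrank) :
    (FEt.restrict (FEt.puncturedSpec A).ι).IsEquivalence := by
  classical
  let T := AdicCompletion (maximalIdeal R) R
  haveI : IsRegularLocalRing T := (Groth.Agent.S0548.result R).1 inferInstance
  haveI : IsAdicComplete (maximalIdeal T) T := by
    rw [show maximalIdeal T = (maximalIdeal R).map (algebraMap R T) from AdicCompletion.maximalIdeal_eq_map]
    haveI : IsAdicComplete (maximalIdeal R) T := AdicCompletion.isAdicComplete (IsNoetherian.noetherian _)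
    exact Tower.isAdicComplete_map (maximalIdeal R)
  obtain ⟨e, -⟩ := CommAlg6.completion_quotient_algEquiv π hπ
  let t' : Finset T := t.image (algebraMap R T)
  have hspan : (RingHom.ker π).map (algebraMap R T) = Ideal.span (t' : Set T) := by
    rw [ht, Ideal.map_span, Finset.coe_image]
  refine isEquivalence_of_presentation A T (maximalIdeal T).spanFinrank
    (IsRegularLocalRing.spanFinrank_maximalIdeal (R := T)).symm t' ?_ (e.symm.trans (Ideal.quotEquivOfEq hspan))
  rw [← spanFinrank_completion R]
  exact le_trans (Nat.add_le_add_right Finset.card_image_le 3) hd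

/-- A regular sequence has no more members than the dimension permits. -/
theorem length_add_three_le {R : Type u} [CommRing R] [IsRegularLocalRing R] (rs : List R)
    (hreg : RingTheory.Sequence.IsRegular R rs) (hdim : (3 : WithBot ℕ∞) ≤ ringKrullDim (R ⧸ Ideal.ofList rs)) :
    rs.length + 3 ≤ (maximalIdeal R).spanFinrank := by
  have h := ringKrullDim_add_length_eq_ringKrullDim_of_isRegular rs hreg
  rw [← IsRegularLocalRing.spanFinrank_maximalIdeal (R := R)] at h
  have h1 : ((rs.length + 3 : ℕ) : WithBot ℕ∞) ≤ ((maximalIdeal R).spanFinrank : ℕ) := by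
    rw [← h, Nat.cast_add, add_comm (ringKrullDim _)]
    exact add_le_add le_rfl hdim
  exact_mod_cast h1

end Groth.Agent.Lef23.Kosz
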