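import Groth.Agent.Lef23.Kosz.DimOne
import Groth.Agent.Lef23.Kosz.Quot
import Groth.Agent.Lef23.PurePair
import Groth.Agent.CAlgH3.Serre
import Groth.Agent.DimLib.Algebra
import Groth.Agent.HenselLib.Local
import Groth.Agent.HenselLib.Perm
import Groth.Agent.FEtFF.UnramifiedGeomUnibranch
import Groth.Agent.FEtFF.NormalGeomUnibranch
import Groth.Agent.FlatLocal.FlatAt
import Groth.Prelude.Def_SGA2
import Groth.Prelude.Def_EGA4b

/-!
# The branch locus over rings pure in high codimension
-/

set_option autoImplicit false
set_option linter.style.haveILetI false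
set_option linter.unusedSectionVars false
set_option backward.isDefEq.respectTransparency.types false
set_option backward.isDefEq.respectTransparency false
universe u

open CategoryTheory CategoryTheory.Limits AlgebraicGeometry IsLocalRing TensorProduct
open Groth.Agent.FEtFF

namespace Groth.Agent.Lef23.Kosz

/-- Unramified implies étale for finite extensions of normal domains. -/
theorem isEtaleAt_of_unramified {A B : Type u} [CommRing A] [IsDomain A] [IsNoetherianRing A] [IsIntegrallyClosed A]
    [CommRing B] [IsDomain B] [Algebra A B] [Algebra.FiniteType A B]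
    (hinj : Function.Injective (algebraMap A B)) (q : Ideal B) [q.IsPrime] [Algebra.IsUnramifiedAt A q] :
    Algebra.IsEtaleAt A q := by
  let p := q.comap (algebraMap A B)
  haveI : q.LiesOver p := ⟨rfl⟩
  letI := Localization.AtPrime.algebraOfLiesOver p q
  let L := Localization.AtPrime p
  let T := Localization.AtPrime q
  haveI : IsIntegrallyClosed L :=
    isIntegrallyClosed_of_isLocalization L p.primeCompl p.primeCompl_le_nonZeroDivisors
  haveI : Module.Flat L T := by
    refine flat_atPrime_of_unramified_of_injective (L := L) (T := T) p (isGeomUnibranch_of_normal L) q rfl ?_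
    refine (injective_iff_map_eq_zero _).2 fun z hz => ?_
    obtain ⟨⟨a, s⟩, hs⟩ := IsLocalization.surj p.primeCompl z
    have h := congrArg (algebraMap L T) hs
    rw [map_mul, hz, zero_mul, ← IsScalarTower.algebraMap_apply, IsScalarTower.algebraMap_apply A B T] at h
    have ha : a = 0 := hinj ((IsLocalization.injective T q.primeCompl_le_nonZeroDivisors) (by rw [← h, map_zero, map_zero]))
    rw [ha, map_zero] at hs
    exact ((IsLocalization.map_units L s).mul_left_eq_zero).1 hs
  haveI : Module.Flat A T := Module.Flat.trans A L T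
  haveI : Algebra.FinitePresentation A B := Algebra.FinitePresentation.of_finiteType.1 inferInstance
  exact FlatLocal.isEtaleAt_of_flatAt q

/-- The localisation at a maximal ideal of a finite algebra over a complete local ring is finite. -/
theorem finite_atPrime_of_complete (L C : Type u) [CommRing L] [IsLocalRing L] [IsNoetherianRing L]
    [IsAdicComplete (maximalIdeal L) L] [CommRing C] [Algebra L C] [Module.Finite L C] (N : Ideal C) [hN : N.IsMaximal] :
    Module.Finite L (Localization.AtPrime N) := by
  haveI : HenselianLocalRing L := HenselLib.henselianLocalRing_of_henselianRing L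
  have hpi := (HenselLib.isPiLocal_iff_bijective L C).mp (HenselLib.isPiLocal_of_henselian L C)
  refine Module.Finite.of_surjective (IsScalarTower.toAlgHom L C (Localization.AtPrime N)).toLinearMap fun y => ?_
  classical
  obtain ⟨x, hx⟩ := hpi.2 (Pi.single (⟨N, hN⟩ : MaximalSpectrum C) y)
  exact ⟨x, by simpa using congrFun hx ⟨N, hN⟩⟩

/-- Contraction along an integral extension does not lower heights. -/
theorem height_le_height_comap' {A B : Type u} [CommRing A] [CommRing B] [Algebra A B] [Algebra.IsIntegral A B]
    (q : Ideal B) [q.IsPrime] : q.height ≤ (q.comap (algebraMap A B)).height := by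
  haveI : (q.comap (algebraMap A B)).IsPrime := Ideal.comap_isPrime _ _
  rw [show q.height = Order.height (⟨q, inferInstance⟩ : PrimeSpectrum B) from
      PrimeSpectrum.height_eq_orderHeight ⟨q, inferInstance⟩,
    show (q.comap (algebraMap A B)).height =
        Order.height (⟨q.comap (algebraMap A B), inferInstance⟩ : PrimeSpectrum A) from
      PrimeSpectrum.height_eq_orderHeight ⟨q.comap (algebraMap A B), inferInstance⟩]
  exact Order.height_le_height_apply_of_strictMono _ Groth.Agent.DimLib.strictMono_comap_of_isIntegral
    (⟨q, inferInstance⟩ : PrimeSpectrum B)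

set_option maxHeartbeats 1600000 in
set_option synthInstance.maxHeartbeats 200000 in
/-- Unramifiedness descends from a pure faithfully flat complete base with the same closed fibre. -/
theorem isUnramifiedAt_of_pure_base {A B : Type u} [CommRing A] [IsDomain A] [IsNoetherianRing A] [IsIntegrallyClosed A]
    [CommRing B] [IsDomain B] [IsIntegrallyClosed B] [Algebra A B] [Module.Finite A B]
    (hinj : Function.Injective (algebraMap A B)) (q : Ideal B) [q.IsPrime] (hq2 : (2 : ℕ∞) ≤ q.height)
    (L : Type u) [CommRing L] [IsLocalRing L] [IsNoetherianRing L] [IsAdicComplete (maximalIdeal L) L]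
    [Algebra A L] [Module.Flat A L] (ev : L →ₐ[A] q.ResidueField)
    (hPL : (q.comap (algebraMap A B)).map (algebraMap A L) = maximalIdeal L)
    (hdA : (2 : ℕ∞) ≤ _root_.LocCoh.depth L L) (hpur : FEt.PurityHolds L)
    (hlow : ∀ q' : Ideal B, ∀ _ : q'.IsPrime, q' ≤ q → q' ≠ q → Algebra.IsUnramifiedAt A q') :
    Algebra.IsUnramifiedAt A q := by
  classical
  let P := q.comap (algebraMap A B)
  -- the algebra
  let C := L ⊗[A] B
  letI : Algebra B C := Algebra.TensorProduct.rightAlgebra
  haveI : IsScalarTower A B C := Algebra.TensorProduct.right_isScalarTower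
  let eC : C ≃ₗ[B] B ⊗[A] L :=
    { (Algebra.TensorProduct.comm A L B).toAddEquiv with
      map_smul' := fun b z => by
        show Algebra.TensorProduct.comm A L B (b • z) = b • Algebra.TensorProduct.comm A L B z
        rw [Algebra.smul_def, Algebra.smul_def, map_mul]
        congr 1 }
  haveI : Module.Flat B C := Module.Flat.of_linearEquiv eC
  haveI : IsNoetherianRing B := Algebra.FiniteType.isNoetherianRing A B
  haveI : IsNoetherianRing C := Algebra.FiniteType.isNoetherianRing L C
  -- a prime over `q` and the closed point
  let kq := q.ResidueField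
  have hker : ∀ a ∈ P, algebraMap A kq a = 0 := fun a ha => by
    rw [IsScalarTower.algebraMap_apply A B kq, Ideal.algebraMap_residueField_eq_zero]; exact ha
  let π0 : C →ₐ[A] kq := Algebra.TensorProduct.lift ev (IsScalarTower.toAlgHom A B kq) fun _ _ => Commute.all _ _
  let N := RingHom.ker π0.toRingHom
  haveI : N.IsPrime := RingHom.ker_isPrime _
  have hNq : N.comap (algebraMap B C) = q := by
    ext b
    rw [Ideal.mem_comap, RingHom.mem_ker]
    show π0 ((1 : L) ⊗ₜ[A] b) = 0 ↔ _
    rw [Algebra.TensorProduct.lift_tmul, map_one, one_mul]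
    exact Ideal.algebraMap_residueField_eq_zero
  have hNL : N.comap (algebraMap L C) = maximalIdeal L := by
    refine le_antisymm (le_maximalIdeal (Ideal.IsPrime.ne_top inferInstance)) ?_
    rw [← hPL, Ideal.map_le_iff_le_comap]
    intro a ha
    show π0 (algebraMap L C (algebraMap A L a)) = 0
    rw [← IsScalarTower.algebraMap_apply A L C, π0.commutes, hker a ha]
  haveI hNmax : N.IsMaximal := by
    haveI : (N.comap (algebraMap L C)).IsMaximal := hNL ▸ maximalIdeal.isMaximal L
    exact Ideal.isMaximal_of_isIntegral_of_isMaximal_comap (R := L) N inferInstance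
  let S := Localization.AtPrime N
  haveI : Module.Finite L S := finite_atPrime_of_complete L C N
  haveI : IsNoetherianRing S := IsLocalization.isNoetherianRing N.primeCompl S inferInstance
  -- depth of the top
  haveI : q.IsPrime := ‹_›
  let T := Localization.AtPrime q
  haveI : N.LiesOver q := ⟨hNq.symm⟩
  letI := Localization.AtPrime.algebraOfLiesOver q N
  haveI : IsLocalHom (algebraMap T S) := Localization.isLocalHom_localRingHom q N (algebraMap B C) hNq.symm
  haveI : Module.Flat T S := RingHom.flat_algebraMap_iff.1
    (RingHom.Flat.localRingHom (RingHom.flat_algebraMap_iff.2 ‹Module.Flat B C›) N q hNq.symm)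
  haveI : IsNoetherianRing T := IsLocalization.isNoetherianRing q.primeCompl T inferInstance
  haveI : IsIntegrallyClosed T := isIntegrallyClosed_of_isLocalization T q.primeCompl q.primeCompl_le_nonZeroDivisors
  have hdS : (2 : ℕ∞) ≤ _root_.LocCoh.depth S S := by
    refine le_trans ?_ (le_trans le_self_add (CAlgH3.depth_add_depth_fibre_le_self (A := T) (B := S)))
    refine CAlgH3.two_le_depth_of_normal ?_
    rw [IsLocalization.AtPrime.ringKrullDim_eq_height q T]
    exact WithBot.coe_le_coe.2 hq2
  -- the closed point is the only one over the closed point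
  have hclosed : ∀ Q : PrimeSpectrum S, Q.asIdeal.comap (algebraMap L S) = maximalIdeal L → Q = closedPoint S := by
    intro Q hQ
    refine PrimeSpectrum.ext ?_
    haveI : (Q.asIdeal.comap (algebraMap L S)).IsMaximal := hQ ▸ maximalIdeal.isMaximal L
    exact eq_maximalIdeal (Ideal.isMaximal_of_isIntegral_of_isMaximal_comap (R := L) Q.asIdeal inferInstance)
  -- étale off the closed point
  have het : ∀ Q : PrimeSpectrum S, Q.asIdeal.comap (algebraMap L S) ≠ maximalIdeal L →
      Algebra.IsEtaleAt L Q.asIdeal := by
    intro Q hQ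
    let QC := Q.asIdeal.comap (algebraMap C S)
    haveI : QC.IsPrime := Q.2.comap _
    let q' := QC.comap (algebraMap B C)
    haveI : q'.IsPrime := Ideal.IsPrime.comap _
    have hQN : QC ≤ N := by
      refine (Ideal.comap_mono (le_maximalIdeal Q.2.ne_top)).trans ?_
      exact (IsLocalization.AtPrime.under_maximalIdeal S N).le
    have hle : q' ≤ q := hNq ▸ Ideal.comap_mono hQN
    have hne : q' ≠ q := fun e => hQ (le_antisymm (le_maximalIdeal (Ideal.IsPrime.ne_top (Q.2.comap _))) (by
      rw [← hPL, Ideal.map_le_iff_le_comap]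
      intro a ha
      show algebraMap L S (algebraMap A L a) ∈ Q.asIdeal
      rw [IsScalarTower.algebraMap_apply L C S, ← IsScalarTower.algebraMap_apply A L C, IsScalarTower.algebraMap_apply A B C]
      exact (e.symm ▸ (ha : algebraMap A B a ∈ q) : algebraMap A B a ∈ q')))
    haveI := hlow q' inferInstance hle hne
    haveI := isEtaleAt_of_unramified hinj q'
    haveI : Algebra.FinitePresentation A B := Algebra.FinitePresentation.of_finiteType.1 inferInstance
    obtain ⟨g, hg, hget⟩ := Algebra.exists_etale_of_isEtaleAt (R := A) q'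
    haveI : Algebra.Etale L (Localization.Away ((1 : L) ⊗ₜ[A] g)) :=
      Algebra.Etale.of_equiv (IsLocalization.Away.tensorProductEquivTMulRight A L g (Localization.Away g))
    haveI : Algebra.FinitePresentation L C := inferInstance
    have hetC : Algebra.IsEtaleAt L QC :=
      (Algebra.basicOpen_subset_etaleLocus_iff_etale.2 ‹Algebra.Etale L (Localization.Away ((1 : L) ⊗ₜ[A] g))›)
        (show (⟨QC, inferInstance⟩ : PrimeSpectrum C) ∈ (PrimeSpectrum.basicOpen ((1 : L) ⊗ₜ[A] g) : Set (PrimeSpectrum C))
          from fun h => hg h)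
    haveI : IsLocalization.AtPrime (Localization.AtPrime Q.asIdeal) QC :=
      IsLocalization.isLocalization_isLocalization_atPrime_isLocalization N.primeCompl _ Q.asIdeal
    haveI : Algebra.FormallyEtale L (Localization.AtPrime QC) := hetC
    exact Algebra.FormallyEtale.of_equiv
      ((IsLocalization.algEquiv QC.primeCompl (Localization.AtPrime QC) (Localization.AtPrime Q.asIdeal)).restrictScalars L)
  -- sections
  let ζ := Spec.map (CommRingCat.ofHom (algebraMap L S))
  have hbij : Function.Bijective ((pullback.fst ζ (FEt.puncturedSpec L).ι).app ⊤) := by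
    let US := FEt.puncturedSpec S
    let e := IsOpenImmersion.isoOfRangeEq (pullback.fst ζ (FEt.puncturedSpec L).ι) US.ι (by
      rw [Scheme.Pullback.range_fst, Scheme.Opens.range_ι, Scheme.Opens.range_ι]
      ext Q
      show PrimeSpectrum.comap (algebraMap L S) Q ≠ closedPoint L ↔ Q ≠ closedPoint S
      refine not_congr ⟨fun h => hclosed Q (congrArg PrimeSpectrum.asIdeal h), fun h => ?_⟩
      subst h
      refine PrimeSpectrum.ext ?_
      show (maximalIdeal S).comap (algebraMap L S) = maximalIdeal L
      exact eq_maximalIdeal (Ideal.isMaximal_comap_of_isIntegral_of_isMaximal _))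
    haveI : IsIso e.hom := e.isIso_hom
    have fac : e.hom ≫ US.ι = pullback.fst ζ (FEt.puncturedSpec L).ι := IsOpenImmersion.isoOfRangeEq_hom_fac _ _ _
    rw [← fac, Scheme.Hom.comp_app]
    exact (ConcreteCategory.bijective_of_isIso (e.hom.app _)).comp
      (Hartogs.bijective_ι_app US (Hartogs.two_le_depth_stalk hdS) (isAffineOpen_top _))
  haveI : Algebra.Etale L S := PurityGlobal.etale_of_purity hdA hpur S het hbij
  -- descend
  have hN : (⟨N, inferInstance⟩ : PrimeSpectrum C) ∉ Module.support C (Ω[C⁄L]) := by
    have h : (⟨N, inferInstance⟩ : PrimeSpectrum C) ∈ Algebra.unramifiedLocus L C := by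
      show Algebra.FormallyUnramified L (Localization.AtPrime N)
      infer_instance
    rw [Algebra.unramifiedLocus_eq_compl_support] at h
    exact h
  have hSM : Subsingleton (S ⊗[B] Ω[B⁄A]) := by
    haveI hloc : Subsingleton (LocalizedModule N.primeCompl (Ω[C⁄L])) :=
      (Module.notMem_support_iff (p := (⟨N, inferInstance⟩ : PrimeSpectrum C))).1 hN
    haveI : Subsingleton (S ⊗[C] (C ⊗[B] Ω[B⁄A])) := by
      let e1 : C ⊗[B] Ω[B⁄A] ≃ₗ[C] Ω[C⁄L] := KaehlerDifferential.tensorKaehlerEquiv A L B C
      let e2 := TensorProduct.congr (LinearEquiv.refl C S) e1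
      let e3 := LocalizedModule.equivTensorProduct N.primeCompl (Ω[C⁄L])
      haveI : Subsingleton (S ⊗[C] Ω[C⁄L]) := e3.symm.injective.subsingleton
      exact e2.injective.subsingleton
    exact (AlgebraTensorModule.cancelBaseChange B C S S (Ω[B⁄A])).symm.injective.subsingleton
  haveI : Subsingleton (T ⊗[B] Ω[B⁄A]) := by
    haveI : Module.FaithfullyFlat T S := Module.FaithfullyFlat.of_flat_of_isLocalHom
    haveI : IsScalarTower B T S := IsScalarTower.of_algebraMap_eq fun b => by
      rw [IsScalarTower.algebraMap_apply B C S]
      exact (Localization.localRingHom_to_map q N (algebraMap B C) hNq.symm b).symm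
    haveI : Subsingleton (S ⊗[T] (T ⊗[B] Ω[B⁄A])) :=
      (AlgebraTensorModule.cancelBaseChange B T S S (Ω[B⁄A])).injective.subsingleton
    exact Module.FaithfullyFlat.lTensor_reflects_triviality T S _
  show Algebra.FormallyUnramified A (Localization.AtPrime q)
  have hsup : (⟨q, ‹_›⟩ : PrimeSpectrum B) ∉ Module.support B (Ω[B⁄A]) := by
    rw [Module.notMem_support_iff]
    exact (LocalizedModule.equivTensorProduct q.primeCompl (Ω[B⁄A])).injective.subsingleton
  have h := (Set.ext_iff.1 (Algebra.unramifiedLocus_eq_compl_support (R := A) (A := B)) ⟨q, ‹_›⟩).2 hsup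
  exact h

set_option maxHeartbeats 800000 in
set_option synthInstance.maxHeartbeats 200000 in
/-- Unramifiedness descends from purity of the completed base, in dimension at least two. -/
theorem isUnramifiedAt_of_pure {A B : Type u} [CommRing A] [IsDomain A] [IsNoetherianRing A] [IsIntegrallyClosed A]
    [CommRing B] [IsDomain B] [IsIntegrallyClosed B] [Algebra A B] [Module.Finite A B]
    (hinj : Function.Injective (algebraMap A B)) (q : Ideal B) [q.IsPrime] (hq2 : (2 : ℕ∞) ≤ q.height)
    (hpur : FEt.PurityHolds (AdicCompletion (maximalIdeal (Localization.AtPrime (q.comap (algebraMap A B))))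
      (Localization.AtPrime (q.comap (algebraMap A B)))))
    (hlow : ∀ q' : Ideal B, ∀ _ : q'.IsPrime, q' ≤ q → q' ≠ q → Algebra.IsUnramifiedAt A q') :
    Algebra.IsUnramifiedAt A q := by
  let P := q.comap (algebraMap A B)
  let A1 := Localization.AtPrime P
  let L := AdicCompletion (maximalIdeal A1) A1
  haveI : IsNoetherianRing L := Matlis6.isNoetherianRing_adicCompletion _
  haveI : IsScalarTower A A1 L := IsScalarTower.of_algebraMap_eq fun a => rfl
  haveI : Module.Flat A1 L := AdicCompletion.flat_of_isNoetherian _
  haveI : Module.Flat A L := Module.Flat.trans A A1 L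
  haveI : IsAdicComplete (maximalIdeal L) L := by
    rw [show maximalIdeal L = (maximalIdeal A1).map (algebraMap A1 L) from AdicCompletion.maximalIdeal_eq_map]
    haveI : IsAdicComplete (maximalIdeal A1) L := AdicCompletion.isAdicComplete (IsNoetherian.noetherian _)
    exact Tower.isAdicComplete_map (maximalIdeal A1)
  have hPL : P.map (algebraMap A L) = maximalIdeal L := by
    rw [IsScalarTower.algebraMap_eq A A1 L, ← Ideal.map_map, Localization.AtPrime.map_eq_maximalIdeal,
      show maximalIdeal L = (maximalIdeal A1).map (algebraMap A1 L) from AdicCompletion.maximalIdeal_eq_map]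
  haveI : IsIntegrallyClosed A1 :=
    isIntegrallyClosed_of_isLocalization A1 P.primeCompl P.primeCompl_le_nonZeroDivisors
  have hdA : (2 : ℕ∞) ≤ _root_.LocCoh.depth L L := by
    refine le_trans ?_ (le_trans le_self_add (CAlgH3.depth_add_depth_fibre_le_self (A := A1) (B := L)))
    refine CAlgH3.two_le_depth_of_normal ?_
    rw [IsLocalization.AtPrime.ringKrullDim_eq_height P A1]
    exact WithBot.coe_le_coe.2 (hq2.trans (height_le_height_comap' q))
  let f1 : A1 →ₐ[A] q.ResidueField :=
    IsLocalization.liftAlgHom (M := P.primeCompl) (f := Algebra.ofId A q.ResidueField) fun s => by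
      rw [Algebra.ofId_apply, isUnit_iff_ne_zero, IsScalarTower.algebraMap_apply A B q.ResidueField, Ne,
        Ideal.algebraMap_residueField_eq_zero]
      exact s.2
  have hf1 : maximalIdeal A1 ≤ RingHom.ker f1 := by
    rw [← Localization.AtPrime.map_eq_maximalIdeal, Ideal.map_le_iff_le_comap]
    intro a ha
    show f1 (algebraMap A A1 a) = 0
    rw [f1.commutes, IsScalarTower.algebraMap_apply A B q.ResidueField, Ideal.algebraMap_residueField_eq_zero]
    exact ha
  let ev : L →ₐ[A] q.ResidueField := (Ideal.Quotient.liftₐ (maximalIdeal A1) f1 fun a ha => hf1 ha).comp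
    ((AdicCompletion.evalOneₐ (maximalIdeal A1)).restrictScalars A)
  exact isUnramifiedAt_of_pure_base hinj q hq2 L ev hPL hdA hpur hlow

/-- The branch locus has small codimension over rings pure in high codimension. -/
theorem height_lt_of_minimal_ramified {A : Type u} [CommRing A] [IsDomain A] [IsNoetherianRing A] [IsIntegrallyClosed A]
    (r : ℕ) (hpure : ∀ (P : Ideal A) [P.IsPrime], (r : ℕ∞) ≤ P.height →
      SGA2.IsPurePair (Spec (CommRingCat.of (AdicCompletion (maximalIdeal (Localization.AtPrime P)) (Localization.AtPrime P))))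
        (FEt.puncturedSpec (AdicCompletion (maximalIdeal (Localization.AtPrime P)) (Localization.AtPrime P))))
    (B : Type u) [CommRing B] [IsDomain B] [IsIntegrallyClosed B] [Algebra A B] [Module.Finite A B]
    (hinj : Function.Injective (algebraMap A B)) (q : Ideal B) [q.IsPrime] (hq : ¬ Algebra.IsUnramifiedAt A q)
    (hmin : ∀ (q' : Ideal B) [q'.IsPrime], q' ≤ q → ¬ Algebra.IsUnramifiedAt A q' → q' = q) :
    q.height < (r : ℕ∞) := by
  by_contra hlt
  rw [not_lt] at hlt
  have hpur : ∀ (P : Ideal A) [P.IsPrime], (r : ℕ∞) ≤ P.height →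
      FEt.PurityHolds (AdicCompletion (maximalIdeal (Localization.AtPrime P)) (Localization.AtPrime P)) := by
    intro P _ hP
    haveI := restrict_isEquivalence_of_isPurePair (hpure P hP)
    show Functor.EssSurj _
    infer_instance
  have hqP : q.height ≤ (q.comap (algebraMap A B)).height := height_le_height_comap' q
  by_cases h2 : (2 : ℕ∞) ≤ q.height
  · exact hq (isUnramifiedAt_of_pure hinj q h2 (hpur _ (hlt.trans hqP))
      fun q' hq' hle hne => by_contra fun h => hne (hmin q' hle h))
  -- small height
  have hr : r ≤ 1 := by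
    have hq1 : q.height ≤ 1 := by
      cases hh : q.height with
      | top => rw [hh] at h2; exact absurd le_top h2
      | coe n =>
        rw [hh] at h2
        have : ¬ (2 ≤ n) := fun h => h2 (by exact_mod_cast h)
        exact_mod_cast (show n ≤ 1 by omega)
    have h1 : (r : ℕ∞) ≤ 1 := hlt.trans hq1
    exact_mod_cast h1
  rcases Nat.le_one_iff_eq_zero_or_eq_one.1 hr with rfl | rfl
  · -- codimension zero: the punctured spectrum of a field is empty
    haveI : (⊥ : Ideal A).IsPrime := Ideal.isPrime_bot
    let K := Localization.AtPrime (⊥ : Ideal A)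
    let C := AdicCompletion (maximalIdeal K) K
    have hconn := connectedSpace_punctured C (hpure ⊥ (by simp))
    obtain ⟨x⟩ := hconn.toNonempty
    haveI : IsNoetherianRing C := Matlis6.isNoetherianRing_adicCompletion _
    have hdim : ringKrullDim C = 0 := by
      rw [CommAlg6.ringKrullDim_completion, IsLocalization.AtPrime.ringKrullDim_eq_height (⊥ : Ideal A) K, Ideal.height_bot]
      rfl
    haveI : Ring.KrullDimLE 0 C := Ring.krullDimLE_iff.2 hdim.le
    exact x.2 (PrimeSpectrum.ext (Ring.KrullDimLE.eq_maximalIdeal_of_isPrime x.1.asIdeal))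
  · -- codimension one: completions of discrete valuation rings are not pure
    obtain ⟨P, hP, hP1⟩ : ∃ P : Ideal A, P.IsPrime ∧ P.height = 1 := by
      have h1 : (1 : ℕ∞) ≤ (q.comap (algebraMap A B)).height := by simpa using hlt.trans hqP
      have hne : q.comap (algebraMap A B) ≠ ⊥ := fun e => by simp [e] at h1
      obtain ⟨a, ha, ha0⟩ := Submodule.exists_mem_ne_zero_of_ne_bot hne
      obtain ⟨P, hP, -⟩ := Ideal.exists_minimalPrimes_le ((Ideal.span_singleton_le_iff_mem _).2 ha)
      haveI : P.IsPrime := hP.1.1
      refine ⟨P, inferInstance, le_antisymm (Ideal.height_le_one_of_isPrincipal_of_mem_minimalPrimes (Ideal.span {a}) P hP) ?_⟩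
      have hlt' : (⊥ : Ideal A) < P := bot_lt_iff_ne_bot.2 fun e => ha0 (by
        have := hP.1.2 (Ideal.mem_span_singleton_self a)
        rwa [e, Ideal.mem_bot] at this)
      exact le_trans (le_add_left le_rfl) (Ideal.height_add_one_le_of_lt_of_isPrime hlt')
    haveI := hP
    let A1 := Localization.AtPrime P
    haveI : IsIntegrallyClosed A1 := isIntegrallyClosed_of_isLocalization A1 P.primeCompl P.primeCompl_le_nonZeroDivisors
    have hdim : ringKrullDim A1 = 1 := by
      rw [IsLocalization.AtPrime.ringKrullDim_eq_height P A1, hP1]; rfl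
    haveI : IsRegularLocalRing A1 := CAlgH3.isRegularLocalRing_of_normal_dim_le_one hdim.le
    haveI : IsRegularLocalRing (AdicCompletion (maximalIdeal A1) A1) := (Groth.Agent.S0548.result A1).1 inferInstance
    refine not_purityHolds_dim_one _ ?_ (hpur P (by rw [hP1]; simp))
    rw [← spanFinrank_completion A1]
    have h := IsRegularLocalRing.spanFinrank_maximalIdeal (R := A1)
    rw [hdim] at h
    exact_mod_cast h

end Groth.Agent.Lef23.Kosz
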