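import Groth.Agent.Lef23.Kosz.Basic

/-!
# Adjoining one element to the Koszul sequence
-/

set_option autoImplicit false
set_option linter.unusedSectionVars false

universe u

open Finset

namespace Groth.Agent.Lef23.Kosz

variable {S : Type u} [CommRing S] {d : ℕ} (P : Sys S d)

/-- Cochains supported in a given set of indices. -/
def supp (Q : Finset (Fin d) → Finset ℕ → Prop) : Submodule S (X P) where
  carrier := {z | ∀ s T, ¬ Q s T → z s T = 0}
  add_mem' ha hb s T h := by simp [ha s T h, hb s T h]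
  zero_mem' _ _ _ := rfl
  smul_mem' c a ha s T h := by simp [ha s T h]

/-- Cochains of degree `i` for the sequence `t 0, …, t (m - 1)`. -/
def Deg (m : ℕ) (i : ℤ) : Submodule S (X P) :=
  supp P fun s T => s.Nonempty ∧ T ⊆ range m ∧ (s.card : ℤ) - 1 - T.card = i

variable {P}

theorem mem_Deg {m : ℕ} {i : ℤ} {z : X P} :
    z ∈ Deg P m i ↔ ∀ s T, z s T ≠ 0 → s.Nonempty ∧ T ⊆ range m ∧ (s.card : ℤ) - 1 - T.card = i :=
  forall₂_congr fun _ _ => ⟨fun h hne => by_contra fun hn => hne (h hn), fun h hn => by_contra fun hne => hn (h hne)⟩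

theorem eq_zero_of_not {m : ℕ} {i : ℤ} {z : X P} (hz : z ∈ Deg P m i) {s : Finset (Fin d)} {T : Finset ℕ}
    (h : ¬ (s.Nonempty ∧ T ⊆ range m ∧ (s.card : ℤ) - 1 - T.card = i)) : z s T = 0 := hz s T h

theorem Deg_mono {m m' : ℕ} (h : m ≤ m') (i : ℤ) : Deg P m i ≤ Deg P m' i := fun z hz =>
  mem_Deg.2 fun s T hne => let ⟨a, b, c⟩ := mem_Deg.1 hz s T hne; ⟨a, b.trans (range_mono h), c⟩

variable (P) (t : ℕ → S)

theorem D_mem {m : ℕ} {i : ℤ} {z : X P} (hz : z ∈ Deg P m i) : D P t m z ∈ Deg P m (i + 1) := by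
  intro s T hn
  rw [D_apply, dC_apply]
  have h1 : ∀ j ∈ s, z (s.erase j) T = 0 := fun j hj => eq_zero_of_not hz fun ⟨_, b, c⟩ => by
    refine hn ⟨⟨j, hj⟩, b, ?_⟩
    have := card_erase_add_one hj
    omega
  have h2 : ∀ k ∈ range m \ T, z s (insert k T) = 0 := fun k hk => eq_zero_of_not hz fun ⟨a, b, c⟩ => by
    refine hn ⟨a, (subset_insert k T).trans b, ?_⟩
    rw [card_insert_of_notMem (mem_sdiff.1 hk).2] at c
    push_cast at c ⊢
    omega
  rw [sum_eq_zero fun j hj => by rw [h1 j hj, map_zero, smul_zero], dK_apply,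
    sum_eq_zero fun k hk => by rw [h2 k hk, smul_zero, smul_zero], smul_zero, add_zero]

/-- Cocycles. -/
def Zc (m : ℕ) (i : ℤ) : Submodule S (X P) := Deg P m i ⊓ LinearMap.ker (D P t m)

/-- Coboundaries. -/
def Bd (m : ℕ) (i : ℤ) : Submodule S (X P) := (Deg P m (i - 1)).map (D P t m)

theorem mem_Zc {m : ℕ} {i : ℤ} {z : X P} : z ∈ Zc P t m i ↔ z ∈ Deg P m i ∧ D P t m z = 0 := Iff.rfl

theorem D_mem_Bd {m : ℕ} {i : ℤ} {w : X P} (hw : w ∈ Deg P m (i - 1)) : D P t m w ∈ Bd P t m i :=
  ⟨w, hw, rfl⟩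

theorem Bd_le (m : ℕ) (i : ℤ) : Bd P t m i ≤ Zc P t m i := by
  rintro _ ⟨w, hw, rfl⟩
  exact ⟨sub_add_cancel i 1 ▸ D_mem P t hw, D_D P t m w⟩

/-- The homotopy on cochains. -/
def hS (k : ℕ) : X P →ₗ[S] X P where
  toFun z s := ((-1 : ℤ) ^ s.card) • hK (S := S) k (z s)
  map_add' a b := funext fun s => by simp only [Pi.add_apply, map_add, smul_add]
  map_smul' c a := funext fun s => by simp only [Pi.smul_apply, RingHom.id_apply, map_smul]; exact smul_comm _ _ _

theorem hS_apply (k : ℕ) (z : X P) (s : Finset (Fin d)) : hS P k z s = ((-1 : ℤ) ^ s.card) • hK (S := S) k (z s) := rfl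

theorem hS_mem {m k : ℕ} (hk : k < m) {i : ℤ} {z : X P} (hz : z ∈ Deg P m i) : hS P k z ∈ Deg P m (i - 1) := by
  intro s T hn
  show ((-1 : ℤ) ^ s.card) • hK (S := S) k (z s) T = 0
  rw [hK_apply]
  split_ifs with hT
  · rw [eq_zero_of_not hz fun ⟨a, b, c⟩ => hn ⟨a, fun x hx => by
      by_cases h : x = k
      · subst h; exact mem_range.2 hk
      · exact b (mem_erase.2 ⟨h, hx⟩), by have := card_erase_add_one hT; omega⟩, smul_zero, smul_zero]
  · exact smul_zero _

theorem dC_hS (k : ℕ) (z : X P) : dC P (hS P k z) + hS P k (dC P z) = 0 := funext fun s => funext fun T => by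
  simp only [Pi.add_apply, Pi.zero_apply, dC_apply, hS_apply, Pi.smul_apply, hK_apply]
  by_cases hT : k ∈ T
  · simp only [if_pos hT, map_zsmul, smul_sum, ← sum_add_distrib]
    refine sum_eq_zero fun j hj => ?_
    simp only [smul_smul, ← add_smul]
    refine smul_eq_zero_of_left ?_ _
    rw [show s.card = (s.erase j).card + 1 from (card_erase_add_one hj).symm, pow_succ]
    ring
  · simp [if_neg hT]

theorem D_hS {m k : ℕ} (hk : k < m) (z : X P) :
    D P t m (hS P k z) + hS P k (D P t m z) = t k • z := by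
  have h : dK' P t m (hS P k z) + hS P k (dK' P t m z) = t k • z := funext fun s => by
    rw [Pi.add_apply, dK'_apply, hS_apply, hS_apply, dK'_apply, map_zsmul, map_zsmul, smul_smul, smul_smul,
      ← mul_pow, neg_one_mul, neg_neg, one_pow, one_smul, one_smul]
    exact dK_hK t m hk (z s)
  have h' := dC_hS P k z
  simp only [D, LinearMap.add_apply, map_add]
  rw [add_add_add_comm, h', h, zero_add]

theorem smul_mem_Bd {m k : ℕ} (hk : k < m) {i : ℤ} {z : X P} (hz : z ∈ Zc P t m i) : t k • z ∈ Bd P t m i := by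
  refine ⟨hS P k z, hS_mem P hk hz.1, ?_⟩
  have := D_hS P t hk z
  rwa [show D P t m z = 0 from hz.2, map_zero, add_zero] at this

variable (m : ℕ)

/-- The part containing the last index. -/
def pr : X P →ₗ[S] X P where
  toFun z s T := if m ∈ T then 0 else z s (insert m T)
  map_add' a b := funext fun s => funext fun T => by simp only [Pi.add_apply]; split_ifs <;> simp
  map_smul' c a := funext fun s => funext fun T => by simp only [Pi.smul_apply, RingHom.id_apply]; split_ifs <;> simp

theorem pr_apply (z : X P) (s : Finset (Fin d)) (T : Finset ℕ) :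
    pr P m z s T = if m ∈ T then 0 else z s (insert m T) := rfl

/-- Adjoining the last index. -/
def em : X P →ₗ[S] X P where
  toFun u s T := if m ∈ T then u s (T.erase m) else 0
  map_add' a b := funext fun s => funext fun T => by simp only [Pi.add_apply]; split_ifs <;> simp
  map_smul' c a := funext fun s => funext fun T => by simp only [Pi.smul_apply, RingHom.id_apply]; split_ifs <;> simp

theorem em_apply (u : X P) (s : Finset (Fin d)) (T : Finset ℕ) :
    em P m u s T = if m ∈ T then u s (T.erase m) else 0 := rfl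

variable {m}

theorem pr_mem {i : ℤ} {z : X P} (hz : z ∈ Deg P (m + 1) i) : pr P m z ∈ Deg P m (i + 1) := by
  intro s T hn
  rw [pr_apply]
  split_ifs with hT
  · rfl
  · refine eq_zero_of_not hz fun ⟨a, b, c⟩ => hn ⟨a, fun x hx => ?_, ?_⟩
    · have h1 := mem_range.1 (b (mem_insert_of_mem hx))
      have h2 : x ≠ m := fun e => hT (e ▸ hx)
      exact mem_range.2 (by omega)
    · rw [card_insert_of_notMem hT] at c; push_cast at c; omega

theorem em_mem {i : ℤ} {u : X P} (hu : u ∈ Deg P m (i + 1)) : em P m u ∈ Deg P (m + 1) i := by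
  intro s T hn
  rw [em_apply]
  split_ifs with hT
  · refine eq_zero_of_not hu fun ⟨a, b, c⟩ => hn ⟨a, fun x hx => ?_, ?_⟩
    · by_cases h : x = m
      · subst h; exact mem_range.2 (Nat.lt_succ_self _)
      · exact range_mono (Nat.le_succ m) (b (mem_erase.2 ⟨h, hx⟩))
    · have := card_erase_add_one hT; omega
  · rfl

theorem low_mem {i : ℤ} {z : X P} (hz : z ∈ Deg P (m + 1) i) : z - em P m (pr P m z) ∈ Deg P m i := by
  intro s T hn
  rw [Pi.sub_apply, Pi.sub_apply, em_apply, pr_apply]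
  by_cases hT : m ∈ T
  · rw [if_pos hT, if_neg (notMem_erase m T), insert_erase hT, sub_self]
  · rw [if_neg hT, sub_zero]
    refine eq_zero_of_not hz fun ⟨a, b, c⟩ => hn ⟨a, fun x hx => ?_, c⟩
    have h1 := mem_range.1 (b hx)
    have h2 : x ≠ m := fun e => hT (e ▸ hx)
    exact mem_range.2 (by omega)

theorem pr_eq_zero {i : ℤ} {z : X P} (hz : z ∈ Deg P m i) : pr P m z = 0 := funext fun s => funext fun T => by
  rw [pr_apply]
  split_ifs with hT
  · rfl
  · exact eq_zero_of_not hz fun ⟨_, b, _⟩ => notMem_range_self (b (mem_insert_self m T))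

theorem pr_em {i : ℤ} {u : X P} (hu : u ∈ Deg P m i) : pr P m (em P m u) = u := funext fun s => funext fun T => by
  rw [pr_apply, em_apply]
  split_ifs with hT h'
  · exact (eq_zero_of_not hu fun ⟨_, b, _⟩ => notMem_range_self (b hT)).symm
  · rw [erase_insert hT]
  · exact absurd (mem_insert_self m T) h'

theorem D_succ_of_mem {i : ℤ} {z : X P} (hz : z ∈ Deg P m i) : D P t (m + 1) z = D P t m z :=
  funext fun s => funext fun T => by
    rw [D_apply, D_apply, dK_apply, dK_apply]
    refine congrArg (fun w => dC P z s T + ((-1 : ℤ) ^ s.card) • w) (sum_subset (fun x hx => ?_) fun k hk hk' => ?_).symm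
    · exact mem_sdiff.2 ⟨range_mono (Nat.le_succ m) (mem_sdiff.1 hx).1, (mem_sdiff.1 hx).2⟩
    · rw [eq_zero_of_not hz fun ⟨_, b, _⟩ => hk' (mem_sdiff.2 ⟨b (mem_insert_self k T), (mem_sdiff.1 hk).2⟩),
        smul_zero, smul_zero]

theorem pr_D (z : X P) : pr P m (D P t (m + 1) z) = D P t m (pr P m z) := funext fun s => funext fun T => by
  rw [pr_apply, D_apply P t m, dC_apply, dK_apply]
  by_cases hT : m ∈ T
  · simp [pr_apply, hT]
  · rw [if_neg hT, D_apply, dC_apply, dK_apply,
      show range (m + 1) \ insert m T = range m \ T by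
        ext x
        simp only [mem_sdiff, mem_range, mem_insert]
        constructor <;> intro h
        · exact ⟨by omega, fun hx => h.2 (Or.inr hx)⟩
        · exact ⟨by omega, fun hx => hx.elim (fun e => by omega) h.2⟩]
    congr 1
    · exact sum_congr rfl fun j _ => by rw [pr_apply, if_neg hT]
    · congr 1
      refine sum_congr rfl fun k hk => ?_
      have hkm : k < m := mem_range.1 (mem_sdiff.1 hk).1
      rw [pr_apply, if_neg (fun h => (mem_insert.1 h).elim (fun e => by omega) hT), sg_insert k m T hT,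
        if_neg (by omega), one_mul, Finset.insert_comm]

/-- The sign of the connecting map in degree `i`. -/
def cs (i : ℤ) : ℤ := (-1) ^ (i + 1).natAbs

theorem cs_sq (i : ℤ) : cs i * cs i = 1 := by rw [cs, ← mul_pow]; simp

theorem D_em {i : ℤ} {u : X P} (hu : u ∈ Deg P m i) :
    D P t (m + 1) (em P m u) = em P m (D P t m u) + cs i • t m • u := funext fun s => funext fun T => by
  rw [Pi.add_apply, Pi.add_apply, em_apply, D_apply, dC_apply, dK_apply, Pi.smul_apply, Pi.smul_apply,
    Pi.smul_apply, Pi.smul_apply]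
  by_cases hT : m ∈ T
  · rw [if_pos hT, eq_zero_of_not hu fun ⟨_, b, _⟩ => notMem_range_self (b hT), smul_zero, smul_zero, add_zero,
      D_apply, dC_apply, dK_apply,
      show range m \ T.erase m = range (m + 1) \ T by
        ext x
        simp only [mem_sdiff, mem_range, mem_erase]
        constructor <;> intro h
        · exact ⟨by omega, fun hx => h.2 ⟨by omega, hx⟩⟩
        · have : x ≠ m := fun e => h.2 (e ▸ hT)
          exact ⟨by omega, fun hx => h.2 hx.2⟩]
    congr 1
    · exact sum_congr rfl fun j _ => by rw [em_apply, if_pos hT]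
    · congr 1
      refine sum_congr rfl fun k hk => ?_
      have hkT := (mem_sdiff.1 hk).2
      have hkm : k ≠ m := fun e => hkT (e ▸ hT)
      have hle : k < m := by have := mem_range.1 (mem_sdiff.1 hk).1; omega
      rw [em_apply, if_pos (mem_insert_of_mem hT), erase_insert_of_ne hkm]
      conv_lhs => rw [← insert_erase hT, sg_insert k m _ (notMem_erase m T), if_neg (by omega), one_mul,
        insert_erase hT]
  · rw [if_neg hT, zero_add, sum_eq_zero fun j _ => by rw [em_apply, if_neg hT, map_zero, smul_zero], zero_add,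
      sum_eq_single m]
    · rw [em_apply, if_pos (mem_insert_self m T), erase_insert hT, smul_smul]
      by_cases h0 : s.Nonempty ∧ T ⊆ range m ∧ (s.card : ℤ) - 1 - T.card = i
      · refine congrArg (· • _) ?_
        have hf : T.filter (· < m) = T := filter_true_of_mem fun x hx => mem_range.1 (h0.2.1 hx)
        rw [sg, hf, cs, ← pow_add, neg_one_pow_eq_pow_mod_two, neg_one_pow_eq_pow_mod_two (n := (i + 1).natAbs)]
        congr 1
        have := h0.2.2
        omega
      · rw [eq_zero_of_not hu h0, smul_zero, smul_zero, smul_zero]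
    · intro k hk hkm
      rw [em_apply, if_neg (fun h => (mem_insert.1 h).elim (fun e => hkm e.symm) hT), smul_zero, smul_zero]
    · exact fun h => absurd (mem_sdiff.2 ⟨mem_range.2 (Nat.lt_succ_self m), hT⟩) h

theorem Zc_le_succ (i : ℤ) : Zc P t m i ≤ Zc P t (m + 1) i := fun z hz =>
  ⟨Deg_mono (Nat.le_succ m) i hz.1, (D_succ_of_mem P t hz.1).trans hz.2⟩

theorem Bd_le_succ (i : ℤ) : Bd P t m i ≤ Bd P t (m + 1) i := by
  rintro _ ⟨w, hw, rfl⟩
  exact ⟨w, Deg_mono (Nat.le_succ m) _ hw, D_succ_of_mem P t hw⟩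

theorem pr_mem_Zc {i : ℤ} {w : X P} (hw : w ∈ Zc P t (m + 1) i) : pr P m w ∈ Zc P t m (i + 1) :=
  ⟨pr_mem P hw.1, by show D P t m _ = 0; rw [← pr_D, show D P t (m + 1) w = 0 from hw.2, map_zero]⟩

theorem exists_lift {i : ℤ} {u : X P} (hu : u ∈ Zc P t m (i + 1)) (h : t m • u ∈ Bd P t m (i + 1)) :
    ∃ w ∈ Zc P t (m + 1) i, pr P m w = u := by
  obtain ⟨v, hv, hDv⟩ := h
  rw [add_sub_cancel_right] at hv
  refine ⟨em P m u - cs (i + 1) • v, ⟨sub_mem (em_mem P hu.1) (zsmul_mem (Deg_mono (Nat.le_succ m) i hv) _), ?_⟩, ?_⟩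
  · show D P t (m + 1) _ = 0
    rw [map_sub, map_zsmul, D_em P t hu.1, D_succ_of_mem P t hv, hDv,
      show D P t m u = 0 from hu.2, map_zero, zero_add, sub_self]
  · rw [map_sub, map_zsmul, pr_em P hu.1, pr_eq_zero P hv, smul_zero, sub_zero]

theorem exists_low {i : ℤ} {w : X P} (hw : w ∈ Zc P t (m + 1) i) (h : pr P m w ∈ Bd P t m (i + 1)) :
    ∃ z ∈ Zc P t m i, w - z ∈ Bd P t (m + 1) i := by
  obtain ⟨g, hg, hDg⟩ := h
  rw [add_sub_cancel_right] at hg
  have hem : em P m g ∈ Deg P (m + 1) (i - 1) := em_mem P (by rwa [sub_add_cancel])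
  have hz : w - D P t (m + 1) (em P m g) ∈ Deg P m i := by
    rw [D_em P t hg, hDg, ← sub_sub]
    exact sub_mem (low_mem P hw.1) (zsmul_mem (Submodule.smul_mem _ _ hg) _)
  refine ⟨_, ⟨hz, ?_⟩, by rw [sub_sub_cancel]; exact D_mem_Bd P t hem⟩
  show D P t m _ = 0
  rw [← D_succ_of_mem P t hz, map_sub, show D P t (m + 1) w = 0 from hw.2, D_D, sub_self]

theorem mem_Bd_succ_iff {i : ℤ} {z : X P} (hz : z ∈ Zc P t m i) :
    z ∈ Bd P t (m + 1) i ↔ ∃ u ∈ Zc P t m i, z - t m • u ∈ Bd P t m i := by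
  constructor
  · rintro ⟨w, hw, hDw⟩
    have hp : pr P m w ∈ Deg P m i := sub_add_cancel i 1 ▸ pr_mem P hw
    have hD : D P t m (pr P m w) = 0 := by rw [← pr_D, hDw, pr_eq_zero P hz.1]
    refine ⟨cs i • pr P m w, zsmul_mem (show pr P m w ∈ Zc P t m i from ⟨hp, hD⟩) _,
      Submodule.mem_map.2 ⟨w - em P m (pr P m w), low_mem P hw, ?_⟩⟩
    rw [← D_succ_of_mem P t (low_mem P hw), map_sub, hDw, D_em P t hp, hD, map_zero, zero_add, smul_comm (t m)]
  · rintro ⟨u, hu, h⟩
    have h1 : t m • u ∈ Bd P t (m + 1) i := smul_mem_Bd P t (Nat.lt_succ_self m) (Zc_le_succ P t i hu)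
    simpa using add_mem (Bd_le_succ P t i h) h1

end Groth.Agent.Lef23.Kosz
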