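import Groth.Agent.FEtFF.FormalCoh
import Groth.Agent.Lef23.Kosz.Filtr
import Groth.Agent.FEtFF.UnivHomeo
import Groth.Agent.FEtFF.Hypersurface
import Mathlib.AlgebraicGeometry.Morphisms.Affine
import Mathlib.RingTheory.Flat.EquationalCriterion

/-!
# Lifts of a finite étale cover of a hypersurface section of a punctured spectrum

A finite étale cover of the punctured spectrum of `A / I` lifts uniquely to the punctured spectra of
all `A / I ^ (n + 1)`; their rings of sections form a system in the sense of `FormalLimit.Sys`.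
-/

set_option autoImplicit false
set_option linter.style.haveILetI false
set_option backward.isDefEq.respectTransparency.types false
set_option backward.isDefEq.respectTransparency false
universe u

open CategoryTheory CategoryTheory.Limits AlgebraicGeometry

namespace Groth.Agent.Lef23.Kosz.Tower

open Groth.Agent.FEtFF Groth.Agent.FEtFF.Cech Groth.Agent.FEtFF.FormalLimit Groth.Agent.FEtFF.Hypersurface

variable {A : Type u} [CommRing A] [IsNoetherianRing A] [IsLocalRing A] (I₀ : Ideal A)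

omit [IsNoetherianRing A] [IsLocalRing A] in
theorem surjective_and_ker {R S : Type u} [CommRing R] [CommRing S] (φ : R →+* S) (J : Ideal R)
    (e : Spec (CommRingCat.of S) ≅ Spec (CommRingCat.of (R ⧸ J)))
    (he : e.hom ≫ Spec.map (CommRingCat.ofHom (Ideal.Quotient.mk J)) = Spec.map (CommRingCat.ofHom φ)) :
    Function.Surjective φ ∧ ∀ y, φ y = 0 → y ∈ J := by
  obtain ⟨ψ, hψ⟩ := Spec.map_surjective e.hom
  obtain ⟨ψ', hψ'⟩ := Spec.map_surjective e.inv
  have hφ : CommRingCat.ofHom φ = CommRingCat.ofHom (Ideal.Quotient.mk J) ≫ ψ :=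
    Spec.map_injective (by rw [Spec.map_comp, hψ]; exact he.symm)
  have hl : ψ ≫ ψ' = 𝟙 _ := Spec.map_injective (by rw [Spec.map_comp, hψ, hψ', Spec.map_id, Iso.inv_hom_id])
  have hr : ψ' ≫ ψ = 𝟙 _ := Spec.map_injective (by rw [Spec.map_comp, hψ, hψ', Spec.map_id, Iso.hom_inv_id])
  have happ : ∀ y, φ y = ψ (Ideal.Quotient.mk J y) := fun y => ConcreteCategory.congr_hom hφ y
  refine ⟨fun x => ?_, fun y hy => Ideal.Quotient.eq_zero_iff_mem.1 ?_⟩
  · obtain ⟨y, hy⟩ := Ideal.Quotient.mk_surjective (ψ' x)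
    exact ⟨y, by rw [happ, hy]; exact ConcreteCategory.congr_hom hr x⟩
  · calc Ideal.Quotient.mk J y = ψ' (ψ (Ideal.Quotient.mk J y)) := (ConcreteCategory.congr_hom hl _).symm
      _ = 0 := by rw [← happ, hy, map_zero]

/-- The closed subscheme `V(I₀ ^ (n + 1))`. -/
noncomputable abbrev hp (n : ℕ) : Spec (CommRingCat.of (A ⧸ (I₀ ^ (n + 1)))) ⟶ Spec (CommRingCat.of A) :=
  Spec.map (CommRingCat.ofHom (Ideal.Quotient.mk (I₀ ^ (n + 1))))

/-- The punctured spectrum of `A / I ^ (n + 1)`. -/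
noncomputable abbrev T (n : ℕ) : Scheme.{u} := pullback (FEt.puncturedSpec A).ι (hp I₀ n)

/-- The structure map of `T n`. -/
noncomputable abbrev toA (n : ℕ) : T I₀ n ⟶ Spec (CommRingCat.of A) :=
  pullback.fst (FEt.puncturedSpec A).ι (hp I₀ n) ≫ (FEt.puncturedSpec A).ι

noncomputable def t (n : ℕ) :
    Spec (CommRingCat.of (A ⧸ (I₀ ^ (n + 1)))) ⟶ Spec (CommRingCat.of (A ⧸ (I₀ ^ (n + 1 + 1)))) :=
  Spec.map (CommRingCat.ofHom (Ideal.Quotient.factor (Ideal.pow_le_pow_right (I := I₀) (Nat.le_succ (n + 1)))))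

omit [IsNoetherianRing A] [IsLocalRing A] in
theorem t_hp (n : ℕ) : t I₀ n ≫ hp I₀ (n + 1) = hp I₀ n := by
  rw [t, ← Spec.map_comp]
  rfl

noncomputable def j (n : ℕ) : T I₀ n ⟶ T I₀ (n + 1) :=
  pullback.lift (pullback.fst _ _) (pullback.snd _ _ ≫ t I₀ n) (by rw [Category.assoc, t_hp, pullback.condition])

theorem j_fst (n : ℕ) : j I₀ n ≫ pullback.fst _ _ = pullback.fst _ _ := pullback.lift_fst _ _ _

omit [IsNoetherianRing A] [IsLocalRing A] in
theorem mono_hp (n : ℕ) : Mono (hp I₀ n) := by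
  haveI : IsClosedImmersion (hp I₀ n) := IsClosedImmersion.spec_of_surjective _ Ideal.Quotient.mk_surjective
  infer_instance

theorem sq_j (n : ℕ) : IsPullback (j I₀ n) (pullback.snd _ _) (toA I₀ (n + 1)) (hp I₀ n) := by
  haveI := mono_hp I₀ n
  haveI := mono_hp I₀ (n + 1)
  refine ⟨⟨by rw [← Category.assoc, j_fst, pullback.condition]⟩, ⟨PullbackCone.IsLimit.mk _
    (fun s => pullback.lift (s.fst ≫ pullback.fst _ _) s.snd (by rw [Category.assoc]; exact s.condition))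
    (fun s => ?_) (fun s => pullback.lift_snd _ _ _) (fun s m h1 h2 => ?_)⟩⟩
  · apply pullback.hom_ext
    · rw [Category.assoc, j_fst, pullback.lift_fst]
    · rw [← cancel_mono (hp I₀ (n + 1))]
      simp only [j, Category.assoc, pullback.lift_snd_assoc, t_hp, pullback.lift_snd]
      rw [← pullback.condition]
      exact s.condition.symm
  · apply pullback.hom_ext
    · rw [pullback.lift_fst, ← h1, Category.assoc, j_fst]
    · rw [pullback.lift_snd, h2]

instance isClosedImmersion_j (n : ℕ) : IsClosedImmersion (j I₀ n) :=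
  MorphismProperty.of_isPullback (P := @IsClosedImmersion) (sq_j I₀ n).flip
    (IsClosedImmersion.spec_of_surjective _ Ideal.Quotient.mk_surjective)

instance surjective_j (n : ℕ) : Surjective (j I₀ n) := ⟨fun x => by
  let p : PrimeSpectrum A := toA I₀ (n + 1) x
  have hmem : I₀ ^ (n + 1 + 1) ≤ p.asIdeal := fun a ha => by
    have h : toA I₀ (n + 1) x = hp I₀ (n + 1) ((pullback.snd (FEt.puncturedSpec A).ι (hp I₀ (n + 1))) x) :=
      congrArg (fun φ : T I₀ (n + 1) ⟶ Spec (CommRingCat.of A) => φ x) pullback.condition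
    have hp' : p = PrimeSpectrum.comap (Ideal.Quotient.mk _) (pullback.snd (FEt.puncturedSpec A).ι (hp I₀ (n + 1)) x) := h
    rw [hp', PrimeSpectrum.comap_asIdeal, Ideal.mem_comap, Ideal.Quotient.eq_zero_iff_mem.2 ha]
    exact Submodule.zero_mem _
  have hp' : p ∈ Set.range (PrimeSpectrum.comap (Ideal.Quotient.mk (I₀ ^ (n + 1)))) := by
    rw [range_comap_of_surjective _ _ Ideal.Quotient.mk_surjective, Ideal.mk_ker, PrimeSpectrum.mem_zeroLocus,
      SetLike.coe_subset_coe]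
    exact (Ideal.pow_le_self (Nat.succ_ne_zero n)).trans (p.2.le_of_pow_le hmem)
  obtain ⟨q, hq⟩ := hp'
  obtain ⟨y, hy, -⟩ := Scheme.Pullback.exists_preimage_pullback (f := toA I₀ (n + 1)) (g := hp I₀ n) x q hq.symm
  refine ⟨(sq_j I₀ n).isoPullback.inv y, ?_⟩
  rw [← Scheme.Hom.comp_apply, (sq_j I₀ n).isoPullback_inv_fst, hy]⟩

theorem restrict_j_essSurj (n : ℕ) : (FEt.restrict (j I₀ n)).EssSurj := UnivHomeo.restrict_essSurj _

variable (V₀ : FEt.Cat (T I₀ 0))

/-- The lifts of the cover. -/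
noncomputable def cover : ∀ n, FEt.Cat (T I₀ n)
  | 0 => V₀
  | n + 1 => haveI := restrict_j_essSurj I₀ n; (FEt.restrict (j I₀ n)).objPreimage (cover n)

noncomputable def coverIso (n : ℕ) : (FEt.restrict (j I₀ n)).obj (cover I₀ V₀ (n + 1)) ≅ cover I₀ V₀ n :=
  haveI := restrict_j_essSurj I₀ n
  (FEt.restrict (j I₀ n)).objObjPreimageIso (cover I₀ V₀ n)

/-- The transition of the lifts. -/
noncomputable def v (n : ℕ) : (cover I₀ V₀ n).left ⟶ (cover I₀ V₀ (n + 1)).left :=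
  (coverIso I₀ V₀ n).inv.left ≫ pullback.fst _ _

theorem sq_cover (n : ℕ) : IsPullback (v I₀ V₀ n) (cover I₀ V₀ n).hom (cover I₀ V₀ (n + 1)).hom (j I₀ n) := by
  let e := coverIso I₀ V₀ n
  refine (IsPullback.of_hasPullback (cover I₀ V₀ (n + 1)).hom (j I₀ n)).of_iso
    { hom := e.hom.left, inv := e.inv.left
      hom_inv_id := congrArg (fun k => k.left) e.hom_inv_id
      inv_hom_id := congrArg (fun k => k.left) e.inv_hom_id } (Iso.refl _) (Iso.refl _) (Iso.refl _) ?_ ?_ (by simp) (by simp)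
  · rw [Iso.refl_hom, Category.comp_id]
    show _ = e.hom.left ≫ v I₀ V₀ n
    rw [v, ← Category.assoc, show e.hom.left ≫ (coverIso I₀ V₀ n).inv.left = 𝟙 _ from congrArg (fun k => k.left) e.hom_inv_id]
    exact (Category.id_comp _).symm
  · rw [Iso.refl_hom, Category.comp_id]
    exact (Over.w e.hom.hom).symm

/-- The map of the `n`-th lift to the punctured spectrum. -/
noncomputable abbrev toU (n : ℕ) : (cover I₀ V₀ n).left ⟶ (FEt.puncturedSpec A : Scheme.{u}) :=
  (cover I₀ V₀ n).hom ≫ pullback.fst _ _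

instance isFinite_cover (n : ℕ) : IsFinite (cover I₀ V₀ n).hom := (cover I₀ V₀ n).prop.1

instance etale_cover (n : ℕ) : Etale (cover I₀ V₀ n).hom := (cover I₀ V₀ n).prop.2

instance isFinite_toU (n : ℕ) : IsFinite (toU I₀ V₀ n) := by
  haveI : IsClosedImmersion (hp I₀ n) := IsClosedImmersion.spec_of_surjective _ Ideal.Quotient.mk_surjective
  infer_instance

theorem v_toU (n : ℕ) : v I₀ V₀ n ≫ toU I₀ V₀ (n + 1) = toU I₀ V₀ n := by
  rw [← Category.assoc, (sq_cover I₀ V₀ n).w, Category.assoc, j_fst]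

/-- The square over the quotient of `A`. -/
theorem sq_base (n : ℕ) :
    IsPullback (v I₀ V₀ n) ((cover I₀ V₀ n).hom ≫ pullback.snd _ _) (str (toU I₀ V₀ (n + 1))) (hp I₀ n) := by
  have := (sq_cover I₀ V₀ n).paste_vert (sq_j I₀ n)
  simpa only [str, toU, Category.assoc] using this

/-- The sections of the `n`-th lift. -/
def Sect (n : ℕ) : Type u := Γ((cover I₀ V₀ n).left, ⊤)

noncomputable instance (n : ℕ) : CommRing (Sect I₀ V₀ n) := inferInstanceAs (CommRing Γ((cover I₀ V₀ n).left, ⊤))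

noncomputable instance (n : ℕ) : Algebra A (Sect I₀ V₀ n) := (sect (toU I₀ V₀ n) : A →+* Sect I₀ V₀ n).toAlgebra

/-- The transition of the sections. -/
noncomputable def red (n : ℕ) : Sect I₀ V₀ (n + 1) →ₐ[A] Sect I₀ V₀ n :=
  { (v I₀ V₀ n).appTop.hom with
    commutes' := fun r => by
      show (v I₀ V₀ n).appTop (sect (toU I₀ V₀ (n + 1)) r) = sect (toU I₀ V₀ n) r
      conv_rhs => rw [sect, str, ← v_toU I₀ V₀ n, Category.assoc, Scheme.Hom.comp_appTop]
      rfl }

theorem compactSpace_cover (n : ℕ) : CompactSpace (cover I₀ V₀ n).left := by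
  haveI : CompactSpace (FEt.puncturedSpec A : Scheme.{u}) := by
    haveI : QuasiCompact (FEt.puncturedSpec A).ι := inferInstance
    exact QuasiCompact.compactSpace_of_compactSpace (FEt.puncturedSpec A).ι
  exact QuasiCompact.compactSpace_of_compactSpace (toU I₀ V₀ n)

theorem quasiSeparatedSpace_cover (n : ℕ) : QuasiSeparatedSpace (cover I₀ V₀ n).left :=
  haveI : QuasiSeparated (str (toU I₀ V₀ n)) := inferInstance
  quasiSeparatedSpace_of_quasiSeparated (str (toU I₀ V₀ n))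

instance (n : ℕ) : CompactSpace (cover I₀ V₀ n).left := compactSpace_cover I₀ V₀ n

instance (n : ℕ) : QuasiSeparatedSpace (cover I₀ V₀ n).left := quasiSeparatedSpace_cover I₀ V₀ n

variable {ι : Type} (g : ι → A) (hgm : ∀ i, g i ∈ IsLocalRing.maximalIdeal A)

include hgm in
theorem isAffineOpen_loc (n : ℕ) {c : A} (hc : ∃ i, g i ∣ c) :
    IsAffineOpen ((cover I₀ V₀ n).left.basicOpen (algebraMap A (Sect I₀ V₀ n) c : Γ((cover I₀ V₀ n).left, ⊤))) := by
  obtain ⟨i, hi⟩ := hc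
  have hle : PrimeSpectrum.basicOpen c ≤ FEt.puncturedSpec A :=
    (PrimeSpectrum.basicOpen_le_basicOpen_iff c (g i)).2 (Ideal.le_radical (Ideal.mem_span_singleton.2 hi)) |>.trans
      (basicOpen_le g hgm i)
  show IsAffineOpen ((cover I₀ V₀ n).left.basicOpen (sect (toU I₀ V₀ n) c))
  rw [show (cover I₀ V₀ n).left.basicOpen (sect (toU I₀ V₀ n) c) = str (toU I₀ V₀ n) ⁻¹ᵁ PrimeSpectrum.basicOpen c by
      show (cover I₀ V₀ n).left.basicOpen ((str (toU I₀ V₀ n)).appTop ((Scheme.ΓSpecIso (CommRingCat.of A)).inv c)) = _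
      rw [← Scheme.preimage_basicOpen_top, basicOpen_eq_of_affine],
    str, Scheme.Hom.comp_preimage]
  refine IsAffineOpen.preimage ?_ (toU I₀ V₀ n)
  rw [← (FEt.puncturedSpec A).ι.isAffineOpen_iff_of_isOpenImmersion, Scheme.Hom.image_preimage_eq_opensRange_inf,
    Scheme.Opens.opensRange_ι, inf_eq_right.2 hle]
  exact IsAffineOpen.Spec_basicOpen _

/-- The chart at `c`. -/
noncomputable def chartC (n : ℕ) (c : A) (hc : ∃ i, g i ∣ c) :
    Spec (CommRingCat.of (Loc (Sect I₀ V₀ n) c)) ⟶ (cover I₀ V₀ n).left :=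
  chart (isAffineOpen_loc I₀ V₀ g hgm n hc)

instance (n : ℕ) (c : A) (hc : ∃ i, g i ∣ c) : IsOpenImmersion (chartC I₀ V₀ g hgm n c hc) :=
  inferInstanceAs (IsOpenImmersion (chart (isAffineOpen_loc I₀ V₀ g hgm n hc)))

theorem chartC_toSpecΓ (n : ℕ) (c : A) (hc : ∃ i, g i ∣ c) :
    chartC I₀ V₀ g hgm n c hc ≫ (cover I₀ V₀ n).left.toSpecΓ =
      Spec.map (CommRingCat.ofHom (algebraMap (Sect I₀ V₀ n) (Loc (Sect I₀ V₀ n) c))) :=
  chart_toSpecΓ _

theorem chartC_str (n : ℕ) (c : A) (hc : ∃ i, g i ∣ c) :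
    chartC I₀ V₀ g hgm n c hc ≫ str (toU I₀ V₀ n) =
      Spec.map (CommRingCat.ofHom (algebraMap A (Loc (Sect I₀ V₀ n) c))) := by
  rw [show str (toU I₀ V₀ n) = (cover I₀ V₀ n).left.toSpecΓ ≫ Spec.map (CommRingCat.ofHom (sect (toU I₀ V₀ n))) by
      rw [show CommRingCat.ofHom (sect (toU I₀ V₀ n)) =
          (Scheme.ΓSpecIso (CommRingCat.of A)).inv ≫ (str (toU I₀ V₀ n)).appTop from rfl,
        Spec.map_comp, ← Category.assoc, ← Scheme.toSpecΓ_naturality, Category.assoc,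
        toSpecΓ_SpecMap_ΓSpecIso_inv, Category.comp_id],
    ← Category.assoc, chartC_toSpecΓ]
  exact (Spec.map_comp _ _).symm

/-- The level `n` chart is the base change of the level `n + 1` one. -/
theorem sq_chart (n : ℕ) (c : A) (hc : ∃ i, g i ∣ c) :
    IsPullback (Spec.map (CommRingCat.ofHom (mapA (red I₀ V₀ n) c).toRingHom)) (chartC I₀ V₀ g hgm n c hc)
      (chartC I₀ V₀ g hgm (n + 1) c hc) (v I₀ V₀ n) := by
  let cn := chartC I₀ V₀ g hgm n c hc
  let cn1 := chartC I₀ V₀ g hgm (n + 1) c hc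
  have hrange : v I₀ V₀ n ⁻¹ᵁ cn1.opensRange = cn.opensRange := by
    refine TopologicalSpace.Opens.ext ?_
    rw [TopologicalSpace.Opens.map_coe, Scheme.Hom.coe_opensRange, Scheme.Hom.coe_opensRange,
      show Set.range cn = _ from range_chart _, show Set.range cn1 = _ from range_chart _,
      ← TopologicalSpace.Opens.map_coe]
    congr 1
    show v I₀ V₀ n ⁻¹ᵁ (cover I₀ V₀ (n + 1)).left.basicOpen (algebraMap A (Sect I₀ V₀ (n + 1)) c) = _
    rw [Scheme.preimage_basicOpen_top]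
    exact congrArg _ ((red I₀ V₀ n).commutes c)
  have hr : Set.range (cn ≫ v I₀ V₀ n) ⊆ Set.range cn1 := by
    rintro _ ⟨x, rfl⟩
    exact SetLike.mem_coe.1 (hrange.ge ⟨x, rfl⟩)
  let l := IsOpenImmersion.lift cn1 _ hr
  have hl : Spec.map (CommRingCat.ofHom (mapA (red I₀ V₀ n) c).toRingHom) = l := by
    obtain ⟨φ, hφ⟩ := Spec.map_surjective l
    rw [← hφ]
    congr 1
    refine CommRingCat.hom_ext (IsLocalization.ringHom_ext (Submonoid.powers (algebraMap A (Sect I₀ V₀ (n + 1)) c)) ?_)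
    have h2 : l ≫ cn1 ≫ (cover I₀ V₀ (n + 1)).left.toSpecΓ = cn ≫ (cover I₀ V₀ n).left.toSpecΓ ≫ Spec.map (v I₀ V₀ n).appTop := by
      rw [IsOpenImmersion.lift_fac_assoc, Category.assoc, Scheme.toSpecΓ_naturality]
    rw [chartC_toSpecΓ, ← Category.assoc cn, chartC_toSpecΓ, ← hφ, ← Spec.map_comp, ← Spec.map_comp] at h2
    have h3 := Spec.map_injective h2
    ext x
    show mapA (red I₀ V₀ n) c (algebraMap _ _ x) = _
    rw [mapA_algebraMap]
    exact (ConcreteCategory.congr_hom h3 x).symm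
  rw [hl]
  exact IsOpenImmersion.isPullback _ _ _ _ (IsOpenImmersion.lift_fac _ _ hr).symm hrange

omit [IsNoetherianRing A] [IsLocalRing A] in
theorem isPushout_quot {E : Type u} [CommRing E] [Algebra A E] (K : Ideal A) :
    IsPushout (CommRingCat.ofHom (algebraMap A E)) (CommRingCat.ofHom (Ideal.Quotient.mk K))
      (CommRingCat.ofHom (Ideal.Quotient.mk (K.map (algebraMap A E))))
      (CommRingCat.ofHom (Ideal.quotientMap (K.map (algebraMap A E)) (algebraMap A E) Ideal.le_comap_map)) := by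
  refine IsPushout.of_isColimit' ⟨by ext a; rfl⟩ (PushoutCocone.isColimitAux' _ fun c => ?_)
  have hc : ∀ a, c.inl (algebraMap A E a) = c.inr (Ideal.Quotient.mk _ a) := fun a =>
    ConcreteCategory.congr_hom c.condition a
  have hI : K.map (algebraMap A E) ≤ RingHom.ker c.inl.hom := Ideal.map_le_iff_le_comap.2 fun a ha => by
    show c.inl (algebraMap A E a) = 0
    rw [hc, Ideal.Quotient.eq_zero_iff_mem.2 ha, map_zero]
  refine ⟨CommRingCat.ofHom (Ideal.Quotient.lift _ c.inl.hom hI), ?_, ?_, fun {m} h1 _ => ?_⟩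
  · ext e; rfl
  · ext a
    exact hc a
  · ext e
    obtain ⟨e, rfl⟩ := Ideal.Quotient.mk_surjective e
    exact ConcreteCategory.congr_hom h1 e

set_option maxHeartbeats 1000000 in
include hgm in
theorem surj_ker (n : ℕ) (c : A) (hc : ∃ i, g i ∣ c) :
    Function.Surjective (mapA (red I₀ V₀ n) c) ∧
      ∀ y, mapA (red I₀ V₀ n) c y = 0 → y ∈ (I₀ ^ (n + 1)).map (algebraMap A (Loc (Sect I₀ V₀ (n + 1)) c)) := by
  let L := Loc (Sect I₀ V₀ (n + 1)) c
  let φ := (mapA (red I₀ V₀ n) c).toRingHom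
  have h1 := (sq_chart I₀ V₀ g hgm n c hc).paste_vert (sq_base I₀ V₀ n)
  rw [chartC_str] at h1
  have h2 := isPullback_SpecMap_of_isPushout _ _ _ _ (isPushout_quot (E := L) (I₀ ^ (n + 1)))
  exact surjective_and_ker φ ((I₀ ^ (n + 1)).map (algebraMap A L)) (h1.isoIsPullback _ _ h2)
    (h1.isoIsPullback_hom_fst _ _ h2)

theorem pow_sect (n : ℕ) {a : A} (ha : a ∈ I₀ ^ (n + 1)) : algebraMap A (Sect I₀ V₀ n) a = 0 := by
  show sect (toU I₀ V₀ n) a = 0
  have h : str (toU I₀ V₀ n) = ((cover I₀ V₀ n).hom ≫ pullback.snd _ _) ≫ hp I₀ n := by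
    rw [str, toU, Category.assoc, Category.assoc, pullback.condition]
  rw [sect, h, Scheme.Hom.comp_appTop]
  show ((cover I₀ V₀ n).hom ≫ pullback.snd _ _).appTop ((hp I₀ n).appTop ((Scheme.ΓSpecIso (CommRingCat.of A)).inv _)) = 0
  have := ConcreteCategory.congr_hom (Scheme.ΓSpecIso_inv_naturality
    (CommRingCat.ofHom (Ideal.Quotient.mk (I₀ ^ (n + 1))))) a
  rw [show (hp I₀ n).appTop ((Scheme.ΓSpecIso (CommRingCat.of A)).inv a) =
    (Scheme.ΓSpecIso _).inv (Ideal.Quotient.mk (I₀ ^ (n + 1)) a) from this.symm,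
    Ideal.Quotient.eq_zero_iff_mem.2 ha, map_zero, map_zero]

include hgm in
theorem flat_loc (n : ℕ) (c : A) (hc : ∃ i, g i ∣ c) :
    ∃ φ : A ⧸ (I₀ ^ (n + 1)) →+* Loc (Sect I₀ V₀ n) c,
      φ.comp (Ideal.Quotient.mk _) = algebraMap A _ ∧ φ.Etale := by
  let m := chartC I₀ V₀ g hgm n c hc ≫ (cover I₀ V₀ n).hom ≫ pullback.snd _ _
  obtain ⟨φ, hφ⟩ := Spec.map_surjective m
  refine ⟨φ.hom, ?_, ?_⟩
  · refine congrArg CommRingCat.Hom.hom (Spec.map_injective
      (?_ : Spec.map (CommRingCat.ofHom (Ideal.Quotient.mk ((I₀ ^ (n + 1)))) ≫ φ) =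
        Spec.map (CommRingCat.ofHom (algebraMap A (Loc (Sect I₀ V₀ n) c)))))
    rw [Spec.map_comp, hφ, ← chartC_str I₀ V₀ g hgm n c hc]
    simp only [m, str, toU, Category.assoc, pullback.condition]
  · haveI : Etale (pullback.snd (FEt.puncturedSpec A).ι (hp I₀ n)) := inferInstance
    haveI : Etale m := inferInstance
    exact (HasRingHomProperty.Spec_iff (P := @Etale)).1 (hφ ▸ this)

variable (hgcov : ∀ p : Ideal A, p.IsPrime → p ≠ IsLocalRing.maximalIdeal A → ∃ i, g i ∉ p)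

include hgcov in
theorem iSup_loc (n : ℕ) :
    ⨆ i, (cover I₀ V₀ n).left.basicOpen (algebraMap A (Sect I₀ V₀ n) (g i) : Γ((cover I₀ V₀ n).left, ⊤)) = ⊤ := by
  refine top_le_iff.1 fun x _ => ?_
  let p : PrimeSpectrum A := str (toU I₀ V₀ n) x
  have hp : p.asIdeal ≠ IsLocalRing.maximalIdeal A := fun e => (toU I₀ V₀ n x).2 (PrimeSpectrum.ext e)
  obtain ⟨i, hi⟩ := hgcov p.asIdeal p.2 hp
  refine TopologicalSpace.Opens.mem_iSup.2 ⟨i, ?_⟩
  show x ∈ (cover I₀ V₀ n).left.basicOpen ((str (toU I₀ V₀ n)).appTop ((Scheme.ΓSpecIso (CommRingCat.of A)).inv (g i)))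
  rw [← Scheme.preimage_basicOpen_top, basicOpen_eq_of_affine]
  exact hi

include hgcov in
theorem sep_loc (n : ℕ) (y : Sect I₀ V₀ n) (h : ∀ i, algebraMap (Sect I₀ V₀ n) (Loc (Sect I₀ V₀ n) (g i)) y = 0) :
    y = 0 :=
  eq_zero_of_forall_loc (V := (cover I₀ V₀ n).left) (fun i => algebraMap A (Sect I₀ V₀ n) (g i))
    (iSup_loc I₀ V₀ g hgcov n) y h

include hgcov in
theorem glue_loc (n : ℕ) (m : ∀ i, Loc (Sect I₀ V₀ n) (g i))
    (hm : ∀ i j, resA (Sect I₀ V₀ n) (dvd_mul_right (g i) (g j)) (m i) =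
      resA (Sect I₀ V₀ n) (dvd_mul_left (g j) (g i)) (m j)) :
    ∃ y, ∀ i, algebraMap (Sect I₀ V₀ n) _ y = m i :=
  exists_glue_loc (V := (cover I₀ V₀ n).left) (fun i => algebraMap A (Sect I₀ V₀ n) (g i))
    (iSup_loc I₀ V₀ g hgcov n) m fun i j =>
      ⟨algebraMap A (Sect I₀ V₀ n) (g i * g j), map_dvd _ (dvd_mul_right _ _), map_dvd _ (dvd_mul_left _ _),
        le_of_eq (by rw [map_mul]; exact (Scheme.basicOpen_mul _ _ _).symm), hm i j⟩

end Groth.Agent.Lef23.Kosz.Tower
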